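import Cfsg.Agent.Lib.LargeExtra.Singular
import Cfsg.Agent.Lib.LargeExtra.Transport
import Cfsg.Agent.Lib.Solvable.Fitting
import Mathlib.GroupTheory.Perm.Basic

/-!
The setting: an involution `t` of a finite group with `Q = O₂(C(t))` extraspecial of order `2⁹` and
`C(t)/Q ≅ Sym(3)³`, and its transport to the conjugates of `t`.
-/

set_option autoImplicit false
set_option maxRecDepth 4000
set_option linter.style.haveILetI false
set_option linter.unusedSectionVars false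

namespace CfsgLib.OmegaPlusEight

open Subgroup

/-- `Sym(3)` -/
abbrev S3 : Type := Equiv.Perm (Fin 3)

/-- `Sym(3)³` -/
abbrev Top : Type := S3 × S3 × S3

theorem top_pow_six (s : Top) : s ^ 6 = 1 := by
  have h : ∀ a : S3, a ^ 6 = 1 := by decide
  obtain ⟨a, b, c⟩ := s
  simp [Prod.pow_def, h]

theorem top_sq_eq_one {s : Top} {k : ℕ} (h : s ^ (2 ^ k) = 1) : s * s = 1 := by
  rw [← pow_two]
  refine orderOf_dvd_iff_pow_eq_one.mp ?_
  have h1 : orderOf s ∣ Nat.gcd (2 ^ k) 6 :=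
    Nat.dvd_gcd (orderOf_dvd_of_pow_eq_one h) (orderOf_dvd_of_pow_eq_one (top_pow_six s))
  obtain ⟨i, -, hi⟩ := (Nat.dvd_prime_pow Nat.prime_two).mp (h1.trans (Nat.gcd_dvd_left _ _))
  have h6 : (2 : ℕ) ^ i ∣ 6 := hi ▸ h1.trans (Nat.gcd_dvd_right _ _)
  rw [hi]
  match i with
  | 0 => norm_num
  | 1 => norm_num
  | i + 2 => exact absurd (dvd_trans (pow_dvd_pow 2 (Nat.le_add_left 2 i)) h6) (by norm_num)

/-- An element moved by an involution of a component generates a subgroup meeting `A₃`. -/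
theorem top_eq_one_of_normal {N : Subgroup Top} [N.Normal] (h : ∀ s ∈ N, s * s = 1) : N = ⊥ := by
  have key : ∀ a b c : S3, a * a = 1 → b * b = 1 → c * c = 1 →
      (∀ x y z : S3, (x * a * x⁻¹ * a) * (x * a * x⁻¹ * a) = 1 ∧
        (y * b * y⁻¹ * b) * (y * b * y⁻¹ * b) = 1 ∧ (z * c * z⁻¹ * c) * (z * c * z⁻¹ * c) = 1) →
      a = 1 ∧ b = 1 ∧ c = 1 := by
    have one : ∀ a : S3, a * a = 1 → (∀ x : S3, (x * a * x⁻¹ * a) * (x * a * x⁻¹ * a) = 1) → a = 1 := by
      decide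
    exact fun a b c ha hb hc hx => ⟨one a ha fun x => (hx x 1 1).1, one b hb fun y => (hx 1 y 1).2.1,
      one c hc fun z => (hx 1 1 z).2.2⟩
  rw [eq_bot_iff_forall]
  rintro ⟨a, b, c⟩ hs
  have h1 := h _ hs
  simp only [Prod.mk_mul_mk, Prod.mk_eq_one] at h1
  obtain ⟨r1, r2, r3⟩ := key a b c h1.1 h1.2.1 h1.2.2 fun x y z => by
    have hm := h _ (mul_mem (‹N.Normal›.conj_mem _ hs (x, y, z)) hs)
    simpa only [Prod.mk_mul_mk, Prod.inv_mk, Prod.mk_eq_one] using hm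
  simp [r1, r2, r3]

variable {G : Type*} [Group G]

/-- The hypotheses at one conjugate of `t`. -/
structure Setup (G : Type*) [Group G] where
  /-- the involution -/
  t : G
  /-- `O₂(C(t))` -/
  Q : Subgroup G
  /-- the quotient map -/
  img : ↥(centralizer ({t} : Set G)) →* Top
  img_surj : Function.Surjective img
  mem_iff : ∀ x, x ∈ Q ↔ ∃ h : x ∈ centralizer ({t} : Set G), img ⟨x, h⟩ = 1
  extra : LargeExtra.ExtraAt Q t
  card_Q : Nat.card Q = 512
  self : centralizer (Q : Set G) ≤ Q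

namespace Setup

variable (S : Setup G)

/-- the centraliser of `t` -/
def C : Subgroup G := centralizer ({S.t} : Set G)

theorem mem_C {x : G} : x ∈ S.C ↔ x * S.t = S.t * x := mem_centralizer_singleton_iff

open Classical in
/-- the image in `Sym(3)³`, extended by `1` -/
noncomputable def im (x : G) : Top :=
  if h : x ∈ centralizer ({S.t} : Set G) then S.img ⟨x, h⟩ else 1

theorem im_eq {x : G} (h : x ∈ S.C) : S.im x = S.img ⟨x, h⟩ := dif_pos h

theorem im_mul {x y : G} (hx : x ∈ S.C) (hy : y ∈ S.C) : S.im (x * y) = S.im x * S.im y := by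
  rw [S.im_eq hx, S.im_eq hy, S.im_eq (mul_mem hx hy), ← map_mul]; rfl

theorem im_one : S.im 1 = 1 := by
  rw [S.im_eq (one_mem _)]; exact map_one S.img

theorem im_inv {x : G} (hx : x ∈ S.C) : S.im x⁻¹ = (S.im x)⁻¹ := by
  rw [S.im_eq hx, S.im_eq (inv_mem hx), ← map_inv]; rfl

theorem im_pow {x : G} (hx : x ∈ S.C) (n : ℕ) : S.im (x ^ n) = S.im x ^ n := by
  rw [S.im_eq hx, S.im_eq (pow_mem hx n), ← map_pow]; rfl

theorem im_conj {c x : G} (hc : c ∈ S.C) (hx : x ∈ S.C) :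
    S.im (c * x * c⁻¹) = S.im c * S.im x * (S.im c)⁻¹ := by
  rw [S.im_mul (mul_mem hc hx) (inv_mem hc), S.im_mul hc hx, S.im_inv hc]

theorem exists_im (s : Top) : ∃ x ∈ S.C, S.im x = s := by
  obtain ⟨⟨x, hx⟩, rfl⟩ := S.img_surj s
  exact ⟨x, hx, S.im_eq hx⟩

theorem mem_Q {x : G} : x ∈ S.Q ↔ x ∈ S.C ∧ S.im x = 1 := by
  rw [S.mem_iff]
  exact ⟨fun ⟨h, e⟩ => ⟨h, (S.im_eq h).trans e⟩, fun ⟨h, e⟩ => ⟨h, (S.im_eq h).symm.trans e⟩⟩

theorem Q_le : S.Q ≤ S.C := fun _ hx => (S.mem_Q.1 hx).1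

theorem im_Q {x : G} (hx : x ∈ S.Q) : S.im x = 1 := (S.mem_Q.1 hx).2

theorem Q_conj {c x : G} (hc : c ∈ S.C) (hx : x ∈ S.Q) : c * x * c⁻¹ ∈ S.Q := by
  refine S.mem_Q.2 ⟨mul_mem (mul_mem hc (S.Q_le hx)) (inv_mem hc), ?_⟩
  rw [S.im_conj hc (S.Q_le hx), S.im_Q hx, mul_one, mul_inv_cancel]

theorem C_le_normalizer : S.C ≤ normalizer (S.Q : Set G) := fun c hc =>
  mem_normalizer_iff.2 fun x => ⟨fun hx => S.Q_conj hc hx, fun hx => by
    simpa [mul_assoc] using S.Q_conj (inv_mem hc) hx⟩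

theorem mul_inv_mem_Q {x y : G} (hx : x ∈ S.C) (hy : y ∈ S.C) (h : S.im x = S.im y) :
    x * y⁻¹ ∈ S.Q :=
  S.mem_Q.2 ⟨mul_mem hx (inv_mem hy), by rw [S.im_mul hx (inv_mem hy), S.im_inv hy, h, mul_inv_cancel]⟩

theorem t_mem : S.t ∈ S.Q := S.extra.z_mem

theorem t_sq : S.t * S.t = 1 := S.extra.sq_one

theorem t_inv : S.t⁻¹ = S.t := S.extra.inv_eq

theorem t_ne : S.t ≠ 1 := S.extra.ne_one

theorem t_mem_C : S.t ∈ S.C := S.Q_le S.t_mem

theorem Q_comm {x : G} (hx : x ∈ S.Q) : x * S.t = S.t * x := S.extra.comm_z hx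

variable [Finite G]

theorem isPGroup : IsPGroup 2 ↥S.Q := LargeExtra.isPGroup_of_extraspecial S.extra.extra

theorem pow_two_pow {x : G} (hx : x ∈ S.Q) : ∃ k : ℕ, x ^ 2 ^ k = 1 := by
  obtain ⟨k, hk⟩ := S.isPGroup ⟨x, hx⟩
  exact ⟨k, by simpa using congrArg Subtype.val hk⟩

theorem sq_mem {x : G} (hx : x ∈ S.C) {k : ℕ} (hk : x ^ 2 ^ k = 1) : x * x ∈ S.Q := by
  refine S.mem_Q.2 ⟨mul_mem hx hx, ?_⟩
  rw [S.im_mul hx hx]
  refine top_sq_eq_one (k := k) ?_
  rw [← S.im_pow hx, hk, S.im_one]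

/-- An abelian subgroup of `Q` has order at most `32`. -/
theorem card_le_of_abelian {A : Subgroup G} (hA : A ≤ S.Q)
    (hc : ∀ a ∈ A, ∀ b ∈ A, a * b = b * a) : Nat.card A ≤ 32 := by
  haveI : Fact (Nat.Prime 2) := ⟨Nat.prime_two⟩
  have hcomm : IsMulCommutative (A.subgroupOf S.Q) :=
    isMulCommutative_iff.2 fun a b => Subtype.ext (Subtype.ext (hc _ a.2 _ b.2))
  have h := CfsgLib.PGroup.extraspecial_abelian_card S.extra.extra (A.subgroupOf S.Q) hcomm
  rw [S.card_Q, Nat.card_congr (subgroupOfEquivOfLe hA).toEquiv] at h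
  by_contra hlt
  push Not at hlt
  nlinarith

theorem selfCent : centralizer (S.Q : Set G) = (center ↥S.Q).map S.Q.subtype := by
  apply le_antisymm
  · intro x hx
    exact ⟨⟨x, S.self hx⟩, mem_center_iff.2 fun q => Subtype.ext (mem_centralizer_iff.1 hx q q.2), rfl⟩
  · rintro _ ⟨c, hc, rfl⟩
    exact mem_centralizer_iff.2 fun q hq => congrArg Subtype.val (mem_center_iff.1 hc ⟨q, hq⟩)

theorem pairAt {g : G} (hg : g * S.t * g⁻¹ ∈ S.Q) (hne : g * S.t * g⁻¹ ≠ S.t) :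
    LargeExtra.PairAt S.Q S.t g :=
  ⟨S.extra, S.selfCent, S.C_le_normalizer, hg, hne⟩

omit [Finite G] in
theorem conj_mem_C {g x : G} :
    x ∈ centralizer ({g * S.t * g⁻¹} : Set G) ↔ g⁻¹ * x * g ∈ S.C := by
  rw [mem_centralizer_singleton_iff, S.mem_C]
  constructor <;> intro h
  · calc g⁻¹ * x * g * S.t = g⁻¹ * (x * (g * S.t * g⁻¹)) * g := by group
      _ = g⁻¹ * (g * S.t * g⁻¹ * x) * g := by rw [h]
      _ = S.t * (g⁻¹ * x * g) := by group
  · calc x * (g * S.t * g⁻¹) = g * (g⁻¹ * x * g * S.t) * g⁻¹ := by group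
      _ = g * (S.t * (g⁻¹ * x * g)) * g⁻¹ := by rw [h]
      _ = g * S.t * g⁻¹ * x := by group

theorem extra_map (g : G) :
    LargeExtra.ExtraAt (S.Q.map (MulAut.conj g).toMonoidHom) (g * S.t * g⁻¹) := by
  have e := S.Q.equivMapOfInjective (MulAut.conj g).toMonoidHom (MulAut.conj g).injective
  haveI : Fact (Nat.Prime 2) := ⟨Nat.prime_two⟩
  refine ⟨LargeExtra.isExtraspecial_of_equiv e S.extra.extra, ?_, ?_⟩
  · rw [← S.extra.order_z]
    exact (orderOf_injective (MulAut.conj g).toMonoidHom (MulAut.conj g).injective S.t)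
  · set f : G →* G := (MulAut.conj g).toMonoidHom with hf
    have hinj : Function.Injective f := (MulAut.conj g).injective
    rw [show g * S.t * g⁻¹ = f S.t by simp [hf], ← MonoidHom.map_zpowers, ← S.extra.centre]
    ext x
    constructor
    · rintro ⟨⟨_, c, hcQ, rfl⟩, hc, rfl⟩
      refine ⟨c, ⟨⟨c, hcQ⟩, mem_center_iff.2 fun y => Subtype.ext (hinj ?_), rfl⟩, rfl⟩
      have := congrArg Subtype.val (mem_center_iff.1 hc ⟨f y, y, y.2, rfl⟩)
      simpa using this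
    · rintro ⟨_, ⟨c, hc, rfl⟩, rfl⟩
      refine ⟨⟨f c, c, c.2, rfl⟩, mem_center_iff.2 ?_, rfl⟩
      rintro ⟨_, y, hy, rfl⟩
      apply Subtype.ext
      simpa using congrArg f (congrArg Subtype.val (mem_center_iff.1 hc ⟨y, hy⟩))

/-- The same data at a conjugate. -/
noncomputable def conj (g : G) : Setup G where
  t := g * S.t * g⁻¹
  Q := S.Q.map (MulAut.conj g).toMonoidHom
  img := S.img.comp
    { toFun := fun x => ⟨g⁻¹ * x.1 * g, S.conj_mem_C.1 x.2⟩
      map_one' := Subtype.ext (by simp)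
      map_mul' := fun x y => Subtype.ext (by simp only [Subgroup.coe_mul]; group) }
  img_surj := fun s => by
    obtain ⟨⟨x, hx⟩, rfl⟩ := S.img_surj s
    refine ⟨⟨g * x * g⁻¹, S.conj_mem_C.2 (by simpa [mul_assoc, Setup.C] using hx)⟩, ?_⟩
    show S.img _ = S.img _
    congr 1
    exact Subtype.ext (by simp [mul_assoc])
  mem_iff x := by
    simp only [Subgroup.mem_map]
    constructor
    · rintro ⟨y, hy, rfl⟩
      obtain ⟨h, e⟩ := (S.mem_iff y).1 hy
      refine ⟨S.conj_mem_C.2 ?_, ?_⟩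
      · simpa [mul_assoc, Setup.C] using h
      · rw [← e]
        show S.img _ = S.img _
        congr 1
        exact Subtype.ext (by simp [mul_assoc])
    · rintro ⟨h, e⟩
      exact ⟨g⁻¹ * x * g, (S.mem_iff _).2 ⟨S.conj_mem_C.1 h, e⟩, by simp [mul_assoc]⟩
  extra := S.extra_map g
  card_Q := by
    rw [← S.card_Q]
    exact (Nat.card_congr (S.Q.equivMapOfInjective _ (MulAut.conj g).injective).toEquiv).symm
  self := by
    intro x hx
    refine ⟨g⁻¹ * x * g, S.self (mem_centralizer_iff.2 fun q hq => ?_), by simp [mul_assoc]⟩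
    have := mem_centralizer_iff.1 hx (g * q * g⁻¹) ⟨q, hq, by simp⟩
    calc q * (g⁻¹ * x * g) = g⁻¹ * (g * q * g⁻¹ * x) * g := by group
      _ = g⁻¹ * (x * (g * q * g⁻¹)) * g := by rw [this]
      _ = g⁻¹ * x * g * q := by group

@[simp] theorem conj_t (g : G) : (S.conj g).t = g * S.t * g⁻¹ := rfl

/-- The data with the quotient read through an automorphism of `Sym(3)³`. -/
noncomputable def relabel (φ : Top ≃* Top) : Setup G where
  t := S.t
  Q := S.Q
  img := φ.toMonoidHom.comp S.img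
  img_surj := φ.surjective.comp S.img_surj
  mem_iff x := by simp [S.mem_iff]
  extra := S.extra
  card_Q := S.card_Q
  self := S.self

/-- `Q` depends only on `t`. -/
theorem Q_eq (S' : Setup G) (h : S'.t = S.t) : S'.Q = S.Q := by
  suffices key : ∀ A B : Setup G, B.t = A.t → B.Q ≤ A.Q from
    le_antisymm (key S S' h) (key S' S h.symm)
  intro A B hAB
  have hC : B.C = A.C := by unfold Setup.C; rw [hAB]
  let f : ↥(centralizer ({A.t} : Set G)) →* Top := A.img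
  let N : Subgroup Top := (B.Q.subgroupOf (centralizer ({A.t} : Set G))).map f
  have hn : (B.Q.subgroupOf (centralizer ({A.t} : Set G))).Normal := ⟨fun x hx c => by
    simpa [mem_subgroupOf] using B.Q_conj (c := (c : G)) (hC ▸ c.2) hx⟩
  haveI : N.Normal := hn.map f A.img_surj
  have hN : N = ⊥ := top_eq_one_of_normal fun s hs => by
    obtain ⟨⟨x, hxC⟩, hx, rfl⟩ := hs
    obtain ⟨k, hk⟩ := B.pow_two_pow hx
    refine top_sq_eq_one (k := k) ?_
    rw [← map_pow]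
    exact (congrArg f (Subtype.ext hk : _ = (1 : ↥(centralizer ({A.t} : Set G))))).trans (map_one f)
  intro x hx
  have hxC : x ∈ A.C := hC ▸ B.Q_le hx
  refine (A.mem_iff x).2 ⟨hxC, ?_⟩
  have : f ⟨x, hxC⟩ ∈ N := ⟨⟨x, hxC⟩, hx, rfl⟩
  rwa [hN, mem_bot] at this

/-- Orthogonality is symmetric. -/
theorem symm {g : G} (hg : g * S.t * g⁻¹ ∈ S.Q) : S.t ∈ (S.conj g).Q := by
  by_cases hne : g * S.t * g⁻¹ = S.t
  · rw [S.Q_eq (S.conj g) hne]; exact S.t_mem
  · exact (S.pairAt hg hne).z_mem_W (by rw [S.card_Q]; norm_num)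

end Setup

end CfsgLib.OmegaPlusEight
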