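import Cfsg.Agent.Lib.OmegaPlusEight.Roots

/-!
A frame with its three reflections conjugate to `t`; the full list of conjugates of `t` in `C(t)`.
-/

set_option autoImplicit false
set_option maxRecDepth 8000
set_option linter.unusedSectionVars false
set_option linter.style.haveILetI false

namespace CfsgLib.OmegaPlusEight

open Subgroup

namespace Model

/-- the roots over a single reflection inside `O₂(C(q))` -/
def aList (i : Fin 3) : List ℕ :=
  ((rootsOut.map Prod.fst).filter fun m => decide (m / 512 = Frame.sigma i / 512) && dList.contains (m % 512))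

theorem aList_spec : ∀ i : Fin 3, (aList i).length = 8 ∧ (aList i).Nodup ∧ ∀ m ∈ aList i,
    m % 512 ∈ dList ∧ m / 512 = Frame.sigma i / 512 ∧ ((m % 512 ^^^ 256) + 512 * (m / 512)) ∉ aList i ∧
      ∃ p ∈ rootsOut, p.1 = m ∧ p.2.2 = Frame.sigma i := by decide +kernel

/-- generators of the model, with inverses -/
def gens : List (ℕ × ℕ) :=
  [(1, 1), (2, 2), (4, 4), (8, 8), (16, 16), (32, 32), (64, 64), (128, 128), (256, 256),
    (512, 1024), (3072, 6144), (18432, 36864), (1536, 1536), (9216, 9216), (55296, 55296)]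

theorem gens_lt : ∀ g ∈ gens, g.1 < 110592 ∧ g.2 < 110592 ∧ mul g.1 g.2 = 0 := by decide +kernel

theorem gens_closed : ∀ g ∈ gens, ∀ r ∈ rootsQ ++ rootsOut.map Prod.fst,
    isRoot (mul (mul g.1 r) g.2) = true := by decide +kernel

theorem isRoot_iff {m : ℕ} : isRoot m = true ↔ m ∈ rootsQ ++ rootsOut.map Prod.fst := by
  simp [isRoot]

theorem isRoot_lt : ∀ r ∈ rootsQ ++ rootsOut.map Prod.fst, r < 110592 := by decide +kernel

end Model

open Model

/-- a frame whose reflections are conjugate to `t` -/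
structure Std {G : Type*} [Group G] [Finite G] (S : Setup G) extends Frame S where
  rootA : ∀ i, IsConj S.t (k (ι i sig))

/-- parity -/
def par (a : S3) : Bool := decide (Equiv.Perm.sign a = -1)

theorem par_mul : ∀ a b : S3, par (a * b) = xor (par a) (par b) := by decide

namespace Frame

variable {G : Type*} [Group G] [Finite G] {S : Setup G} (F : Frame S)

/-- Twisting the reflections by central elements gives a standard frame. -/
theorem exists_std_of : ∃ F' : Std S, F'.S' = F.S' := by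
  choose e he hc using F.exists_sign
  set z : Fin 3 → G := fun i => F.el (e i) with hz
  have hz' : ∀ i, z i = 1 ∨ z i = S.t := fun i => by
    rcases he i with h | h <;> simp only [hz, h]
    · exact Or.inl F.el_zero
    · exact Or.inr F.el_t
  have hzz : ∀ i, z i * z i = 1 := fun i => by
    rcases hz' i with h | h <;> rw [h]
    · rw [one_mul]
    · exact S.t_sq
  have hzc : ∀ i (x : G), x ∈ S.C → ∀ b, Commute x (Frame.pw (z i) b) := fun i x hx b => by
    cases b
    · exact Commute.one_right _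
    · rcases hz' i with h | h <;> simp only [Frame.pw, if_true, h]
      · exact Commute.one_right _
      · exact S.mem_C.1 hx
  have hzm : ∀ i b, Frame.pw (z i) b ∈ S.Q ∧ Frame.pw (z i) b ∈ F.S'.Q := fun i b => by
    cases b
    · exact ⟨one_mem _, one_mem _⟩
    · rcases hz' i with h | h <;> simp only [Frame.pw, if_true, h]
      · exact ⟨one_mem _, one_mem _⟩
      · exact ⟨S.t_mem, F.pair.t_mem⟩
  let Z : Top → G := fun s => Frame.pw (z 0) (par s.1) * Frame.pw (z 1) (par s.2.1) * Frame.pw (z 2) (par s.2.2)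
  have hZm : ∀ s, Z s ∈ S.Q ∧ Z s ∈ F.S'.Q := fun s =>
    ⟨mul_mem (mul_mem (hzm _ _).1 (hzm _ _).1) (hzm _ _).1, mul_mem (mul_mem (hzm _ _).2 (hzm _ _).2) (hzm _ _).2⟩
  have hZc : ∀ s, ∀ x ∈ S.C, Commute x (Z s) := fun s x hx =>
    ((hzc _ x hx _).mul_right (hzc _ x hx _)).mul_right (hzc _ x hx _)
  have hZmul : ∀ s r, Z (s * r) = Z s * Z r := by
    intro s r
    have c : ∀ i j a b, Commute (Frame.pw (z i) a) (Frame.pw (z j) b) := fun i j a b =>
      hzc j _ (S.Q_le (hzm i a).1) b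
    simp only [Z, Prod.fst_mul, Prod.snd_mul, par_mul, ← Frame.pw_mul (hzz _)]
    have key : ∀ {A A' B B' C C' : G}, Commute A' B → Commute B' C → Commute A' C →
        A * A' * (B * B') * (C * C') = A * B * C * (A' * B' * C') := by
      intro A A' B B' C C' h1 h2 h3
      calc A * A' * (B * B') * (C * C') = A * (A' * B) * (B' * C) * C' := by group
        _ = A * B * (A' * C) * B' * C' := by rw [h1.eq, h2.eq]; group
        _ = _ := by rw [h3.eq]; group
    exact key (c _ _ _ _) (c _ _ _ _) (c _ _ _ _)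
  let k' : Top →* G := MonoidHom.mk' (fun s => F.k s * Z s) fun s r => by
    rw [map_mul, hZmul]
    calc F.k s * F.k r * (Z s * Z r) = F.k s * (F.k r * Z s) * Z r := by group
      _ = F.k s * (Z s * F.k r) * Z r := by rw [(hZc s _ (F.k_mem r)).eq]
      _ = _ := by group
  have hkmem : ∀ s, k' s ∈ S.C := fun s => mul_mem (F.k_mem s) (S.Q_le (hZm s).1)
  have p1 : par 1 = false ∧ par sig = true ∧ par rot = false := by decide
  have hsig : ∀ i, k' (ι i sig) = F.k (ι i sig) * z i := fun i => by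
    have key : ∀ i : Fin 3, i = 0 ∨ i = 1 ∨ i = 2 := by decide
    show F.k _ * Z _ = _
    rcases key i with rfl | rfl | rfl <;> simp [Z, ι, p1, Frame.pw]
  have hrot : ∀ i, k' (ι i rot) = F.k (ι i rot) := fun i => by
    show F.k _ * Z _ = _
    have key : ∀ i : Fin 3, i = 0 ∨ i = 1 ∨ i = 2 := by decide
    rcases key i with rfl | rfl | rfl <;> simp [Z, ι, p1, Frame.pw]
  refine ⟨⟨⟨F.S', F.pair, F.hX, k', hkmem, fun s => ?_, fun i => ?_, fun i => ?_, fun i => ?_⟩, fun i => ?_⟩, rfl⟩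
  · show S.im (F.k s * Z s) = s
    rw [S.im_mul (F.k_mem s) (S.Q_le (hZm s).1), F.im_k, S.im_Q (hZm s).1, mul_one]
  · exact mul_mem (F.k_sig i) (hZm _).2
  · rw [hsig]
    have hzq : z i * F.q * (z i)⁻¹ = F.q := by
      rcases hz' i with h | h <;> rw [h]
      · group
      · rw [← S.Q_comm F.pair.mem]; group
    calc F.k (ι i sig) * z i * F.q * (F.k (ι i sig) * z i)⁻¹
        = F.k (ι i sig) * (z i * F.q * (z i)⁻¹) * (F.k (ι i sig))⁻¹ := by group
      _ = F.q := by rw [hzq]; exact F.k_q i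
  · rw [hrot]; exact F.rel i
  · rw [hsig]; exact hc i

end Frame

/-- Every pair with standard stabiliser image carries a standard frame. -/
theorem Setup.Pair.exists_std {G : Type*} [Group G] [Finite G] {S S' : Setup G} (h : Setup.Pair S S')
    (hX : ∀ i, ι i sig ∈ Setup.X S S') : ∃ F : Std S, F.S'.t = S'.t := by
  obtain ⟨F, hF⟩ := h.exists_frame hX
  obtain ⟨F', hF'⟩ := F.exists_std_of
  exact ⟨F', by rw [hF', hF]⟩

namespace Std

variable {G : Type*} [Group G] [Finite G] {S : Setup G} (F : Std S)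

theorem conj_of_out {m : ℕ} (hm : m ∈ rootsOut.map Prod.fst) : IsConj S.t (F.el m) := by
  obtain ⟨p, hp, rfl⟩ := List.mem_map.1 hm
  obtain ⟨w, hw, -⟩ := F.conj_out hp
  have h3 : p.2.2 = Frame.sigma 0 ∨ p.2.2 = Frame.sigma 1 ∨ p.2.2 = Frame.sigma 2 := (rootsOut_spec p hp).2.2.2.1
  refine Frame.isConj_conj w hw ?_
  rcases h3 with e | e | e <;> rw [e, F.el_sigma] <;> exact F.rootA _

theorem conj_of_isRoot {m : ℕ} (hm : isRoot m = true) : IsConj S.t (F.el m) := by
  rcases List.mem_append.1 (isRoot_iff.1 hm) with h | h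
  · exact (F.conj_el_rootsQ h).1
  · exact F.conj_of_out h

/-- `t σ_i` is not conjugate to `t`. -/
theorem not_conj_twist (i : Fin 3) : ¬ IsConj S.t (F.k (ι i sig) * S.t) := by
  classical
  intro hc
  obtain ⟨hlen, hnd, hA⟩ := aList_spec i
  have hsg : ∀ i : Fin 3, Frame.sigma i / 512 < 216 ∧ 512 * (Frame.sigma i / 512) = Frame.sigma i := by decide
  have hlt : ∀ m ∈ aList i, m < 110592 := fun m hm => by
    obtain ⟨-, e, -⟩ := hA m hm
    have := hsg i
    omega
  let tw : ℕ → ℕ := fun m => (m % 512 ^^^ 256) + 512 * (m / 512)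
  have htw : ∀ m ∈ aList i, tw m < 110592 ∧ F.el (tw m) = F.el m * S.t := fun m hm => by
    obtain ⟨m', h1, rfl, h2⟩ := F.el_xor_t (hlt m hm)
    exact ⟨h1, h2⟩
  have hroot : ∀ m ∈ aList i, IsConj S.t (F.el m) ∧ IsConj S.t (F.el (tw m)) := fun m hm => by
    obtain ⟨-, -, -, p, hp, rfl, hp2⟩ := hA m hm
    refine ⟨F.conj_of_out (List.mem_map.2 ⟨p, hp, rfl⟩), ?_⟩
    obtain ⟨w, hw, hwt⟩ := F.conj_out hp
    rw [hp2, F.el_sigma] at hw
    rw [(htw _ hm).2]
    refine Frame.isConj_conj w ?_ hc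
    rw [mul_assoc, ← hwt, ← mul_assoc, hw, mul_assoc]
  have hP : ∀ n, n < 110592 → n % 512 ∈ dList → n / 512 = Frame.sigma i / 512 →
      F.el n ∈ Setup.P F.S' S ∧ F.el n ∉ S.Q := by
    intro n hn hd he
    have hk : F.k (dec (n / 512)) = F.k (ι i sig) := by
      rw [he, ← F.el_k, (hsg i).2, F.el_sigma]
    refine ⟨⟨?_, F.el_mem n⟩, fun h => ?_⟩
    · rw [Frame.el, hk, ← F.el_of_lt (Nat.mod_lt n (by norm_num))]
      exact mul_mem ((F.mem_D_iff (Nat.mod_lt n (by norm_num))).2 hd).2 (F.k_sig i)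
    · have := S.im_Q h
      rw [F.im_el, ← F.im_k (dec (n / 512)), hk, F.im_k] at this
      exact (show ∀ i : Fin 3, ι i sig ≠ 1 by decide) i this
  let L := aList i ++ (aList i).map tw
  have hLlt : ∀ n ∈ L, n < 110592 := fun n hn => by
    rcases List.mem_append.1 hn with h | h
    · exact hlt n h
    · obtain ⟨m, hm, rfl⟩ := List.mem_map.1 h; exact (htw m hm).1
  have hLnd : L.Nodup := by
    refine List.nodup_append.2 ⟨hnd, hnd.map_on fun a ha b hb e => ?_, fun a ha b hb e => ?_⟩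
    · have := (htw a ha).2.symm.trans ((congrArg F.el e).trans (htw b hb).2)
      exact F.el_inj (hlt a ha) (hlt b hb) (mul_right_cancel this)
    · obtain ⟨m, hm, rfl⟩ := List.mem_map.1 hb
      subst e
      exact (hA m hm).2.2.1 ha
  have hinfo : ∀ n ∈ L, n % 512 ∈ dList ∧ n / 512 = Frame.sigma i / 512 ∧ IsConj S.t (F.el n) := by
    intro n hn
    rcases List.mem_append.1 hn with h | h
    · exact ⟨(hA n h).1, (hA n h).2.1, (hroot n h).1⟩
    · obtain ⟨m, hm, rfl⟩ := List.mem_map.1 h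
      have hx : m % 512 ^^^ 256 < 512 := Nat.xor_lt_two_pow (n := 9) (Nat.mod_lt _ (by norm_num)) (by norm_num)
      have hd256 : ∀ d ∈ dList, d ^^^ 256 ∈ dList := by decide +kernel
      refine ⟨?_, ?_, (hroot m hm).2⟩ <;> simp only [tw]
      · rw [show ((m % 512 ^^^ 256) + 512 * (m / 512)) % 512 = m % 512 ^^^ 256 by omega]
        exact hd256 _ (hA m hm).1
      · rw [show ((m % 512 ^^^ 256) + 512 * (m / 512)) / 512 = m / 512 by omega]
        exact (hA m hm).2.1
  obtain ⟨n₀, hn₀⟩ : ∃ n, n ∈ L := List.exists_mem_of_length_pos (by simp [L, hlen]) |>.imp fun _ h => h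
  obtain ⟨d0, e0, c0⟩ := hinfo n₀ hn₀
  obtain ⟨p0, q0⟩ := hP n₀ (hLlt n₀ hn₀) d0 e0
  have := F.card_same_image p0 q0 c0 (L.map F.el).toFinset fun v hv => by
    obtain ⟨n, hn, rfl⟩ := List.mem_map.1 (List.mem_toFinset.1 hv)
    obtain ⟨d1, e1, c1⟩ := hinfo n hn
    refine ⟨(hP n (hLlt n hn) d1 e1).1, c1, S.mem_Q.2 ⟨mul_mem (F.el_mem n) (F.el_mem n₀), ?_⟩⟩
    rw [S.im_mul (F.el_mem n) (F.el_mem n₀), F.im_el, F.im_el, e1, e0]
    have hh : ∀ i : Fin 3, dec (Frame.sigma i / 512) * dec (Frame.sigma i / 512) = 1 := by decide +kernel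
    exact hh i
  rw [List.toFinset_card_of_nodup (hLnd.map_on fun a ha b hb e => F.el_inj (hLlt a ha) (hLlt b hb) e),
    List.length_map, List.length_append, List.length_map, hlen] at this
  omega

theorem conj_gen {g : ℕ × ℕ} (hg : g ∈ gens) {r : ℕ} (hr : isRoot r = true) :
    ∃ r', isRoot r' = true ∧ F.el g.1 * F.el r * (F.el g.1)⁻¹ = F.el r' := by
  obtain ⟨h1, h2, h3⟩ := gens_lt g hg
  have hr' := isRoot_lt r (isRoot_iff.1 hr)
  refine ⟨_, gens_closed g hg r (isRoot_iff.1 hr), ?_⟩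
  rw [F.el_mul (Frame.mul_lt h1 hr') h2, F.el_mul h1 hr', F.el_inv h1 h2 h3]

/-- The root codes are closed under conjugation by `C(t)`. -/
theorem conj_closed {w : G} (hw : w ∈ S.C) {r : ℕ} (hr : isRoot r = true) :
    ∃ r', isRoot r' = true ∧ w * F.el r * w⁻¹ = F.el r' := by
  let Pc : G → Prop := fun w => ∀ r, isRoot r = true → ∃ r', isRoot r' = true ∧ w * F.el r * w⁻¹ = F.el r'
  have pone : Pc 1 := fun r hr => ⟨r, hr, by group⟩
  have pmul : ∀ {a b}, Pc a → Pc b → Pc (a * b) := fun {a b} ha hb r hr => by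
    obtain ⟨r1, h1, e1⟩ := hb r hr
    obtain ⟨r2, h2, e2⟩ := ha r1 h1
    exact ⟨r2, h2, by rw [← e2, ← e1]; group⟩
  have pgen : ∀ g ∈ gens, Pc (F.el g.1) := fun g hg r hr => F.conj_gen hg hr
  have ppw : ∀ {x} (b : Bool), Pc x → Pc (Frame.pw x b) := fun {x} b hx => by
    cases b
    · exact pone
    · exact hx
  have ppow : ∀ {x} (n : ℕ), Pc x → Pc (x ^ n) := fun {x} n hx => by
    induction n with
    | zero => rw [pow_zero]; exact pone
    | succ n ih => rw [pow_succ]; exact pmul ih hx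
  have px : ∀ T : Fin 8, Pc (F.x T) := fun T => by
    have := pgen (2 ^ T.val, 2 ^ T.val) ((show ∀ T : Fin 8, (2 ^ T.val, 2 ^ T.val) ∈ gens by decide) T)
    rwa [F.el_of_lt ((show ∀ T : Fin 8, 2 ^ T.val < 512 by decide) T), F.evQ_two_pow] at this
  have pk : ∀ i, Pc (F.k (ι i rot)) ∧ Pc (F.k (ι i sig)) := by
    intro i
    have e : ∀ i : Fin 3, ([1, 6, 36].getD i.val 0 * 512, [2, 12, 72].getD i.val 0 * 512) ∈ gens ∧
        dec ([1, 6, 36].getD i.val 0) = ι i rot ∧ (Frame.sigma i, Frame.sigma i) ∈ gens := by decide +kernel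
    obtain ⟨e1, e2, e3⟩ := e i
    refine ⟨?_, by rw [← F.el_sigma i]; exact pgen (Frame.sigma i, Frame.sigma i) e3⟩
    have := pgen ([1, 6, 36].getD i.val 0 * 512, [2, 12, 72].getD i.val 0 * 512) e1
    dsimp only at this
    rwa [Nat.mul_comm, F.el_k, e2] at this
  obtain ⟨m, hm, rfl⟩ := F.el_surj hw
  refine (pmul ?_ ?_ : Pc (F.el m)) r hr
  · exact pmul (pmul (pmul (pmul (pmul (ppw _ (px _)) (ppw _ (px _))) (ppw _ (px _))) (ppw _ (px _)))
      (pmul (pmul (pmul (ppw _ (px _)) (ppw _ (px _))) (ppw _ (px _))) (ppw _ (px _))))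
      (ppw _ (by rw [← F.el_t]; exact pgen (256, 256) (by decide)))
  · rw [X0_decomp (dec (m / 512)), map_mul, map_mul]
    have one : ∀ i x, Pc (F.k (ι i x)) := fun i x => by
      have hh : ∀ (n : ℕ) (y : S3), ι i (y ^ n) = ι i y ^ n := fun n y => by
        induction n with
        | zero => simp [ι_one]
        | succ n ih => rw [pow_succ, ← ι_mul, ih, pow_succ]
      rw [rf_spec x, ← ι_mul, hh, hh, map_mul, map_pow, map_pow]
      exact pmul (ppow _ (pk i).1) (ppow _ (pk i).2)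
    exact pmul (pmul (one 0 _) (one 1 _)) (one 2 _)

/-- The conjugates of `t` in `C(t)` are exactly the roots of the model. -/
theorem conj_el {m : ℕ} (hm : m < 110592) : IsConj S.t (F.el m) ↔ isRoot m = true := by
  refine ⟨fun hc => ?_, F.conj_of_isRoot⟩
  by_cases hQ : m < 512
  · exact isRoot_iff.2 (List.mem_append.2 (Or.inl ((F.conj_el_Q hQ).1 hc)))
  have hout : F.el m ∉ S.Q := fun h => hQ (F.lt_of_mem_Q hm h)
  obtain ⟨g0, hg0⟩ := isConj_iff.1 hc
  set S_u := S.conj g0 with hSu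
  have hu : S_u.t = F.el m := hg0
  have ho : Setup.Outer S S_u := ⟨isConj_iff.2 ⟨g0, rfl⟩, hu ▸ F.el_mem m, hu ▸ hout⟩
  -- it is enough to find a root conjugate to it under `C(t)`
  suffices hsuf : ∃ w ∈ S.C, ∃ r, isRoot r = true ∧ F.el m = w * F.el r * w⁻¹ by
    obtain ⟨w, hw, r, hr, e⟩ := hsuf
    obtain ⟨r', hr', e'⟩ := F.conj_closed hw hr
    rw [F.el_inj hm (isRoot_lt r' (isRoot_iff.1 hr')) (e.trans e')]
    exact hr'
  -- transport of `Q` at a conjugate
  have trans : ∀ w, ∀ x ∈ S.Q, w ∈ S.C → w⁻¹ * x * w ∈ S.Q := fun w x hx hw => by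
    simpa using S.Q_conj (inv_mem hw) hx
  have move : ∀ w ∈ S.C, ∀ x : G, IsConj S.t x → w⁻¹ * F.el m * w ∈ F.S'.Q →
      w * F.q * w⁻¹ ∈ Setup.D S S_u := by
    intro w hw x _ hwu
    refine ⟨S.Q_conj hw F.pair.mem, ?_⟩
    have hcu : IsConj F.q (w⁻¹ * F.el m * w) :=
      F.pair.conj.symm.trans (hc.trans (isConj_iff.2 ⟨w⁻¹, by rw [inv_inv]⟩))
    have h1 := (F.S').mem_symm (S_u.conj w⁻¹) (by simpa [hu, mul_assoc] using hcu) (by simpa [hu, mul_assoc] using hwu)
    obtain ⟨y, hy, hye⟩ := h1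
    have : y = w * F.q * w⁻¹ := by
      have e : w⁻¹ * y * w⁻¹⁻¹ = F.q := hye
      rw [← e]; group
    exact this ▸ hy
  by_cases hD : ∀ d ∈ Setup.D S S_u, d ≠ 1 → ¬ IsConj S.t d
  · exfalso
    obtain ⟨v1, v2, v3⟩ := ho.support hD
    rw [hu, F.im_el] at v1 v2 v3
    have hinv : dec (m / 512) * dec (m / 512) = 1 := by
      rw [← F.im_el, ← hu, ← S.im_mul ho.mem ho.mem, S_u.t_sq, S.im_one]
    simp only [dec, Prod.mk_mul_mk, Prod.mk_eq_one] at hinv
    obtain ⟨i, hi⟩ := s3_invol_conj _ hinv.1 v1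
    obtain ⟨j, hj⟩ := s3_invol_conj _ hinv.2.1 v2
    obtain ⟨l, hl⟩ := s3_invol_conj _ hinv.2.2 v3
    set w := F.k (tr (i, j, l)) with hw
    have hwC : w ∈ S.C := F.k_mem _
    obtain ⟨n, hn, hne⟩ := F.el_surj (c := w⁻¹ * F.el m * w) (mul_mem (mul_mem (inv_mem hwC) (F.el_mem m)) hwC)
    have him : dec (n / 512) = dec 129 := by
      rw [← F.im_el, hne, S.im_mul (mul_mem (inv_mem hwC) (F.el_mem m)) hwC, S.im_mul (inv_mem hwC) (F.el_mem m),
        S.im_inv hwC, hw, F.im_k, F.im_el, show dec 129 = (sig, sig, sig) by decide +kernel]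
      simp only [dec, tr, Prod.inv_mk, Prod.mk_mul_mk, ← hi, ← hj, ← hl]
      refine Prod.ext ?_ (Prod.ext ?_ ?_) <;> simp only [mul_assoc] <;> group
    simp only [dec, Prod.mk.injEq] at him
    have := d3_inj _ (by omega) _ (by norm_num) him.1
    have := d3_inj _ (by omega) _ (by norm_num) him.2.1
    have := d3_inj _ (by omega) _ (by norm_num) him.2.2
    have hn129 : n = n % 512 + 512 * 129 := by omega
    have hsq : mul n n = 0 := by
      refine F.el_inj (Frame.mul_lt hn hn) (by norm_num) ?_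
      rw [F.el_mul hn hn, F.el_zero, hne]
      calc w⁻¹ * F.el m * w * (w⁻¹ * F.el m * w) = w⁻¹ * (F.el m * F.el m) * w := by group
        _ = 1 := by rw [← hu, S_u.t_sq]; group
    rw [hn129] at hsq
    obtain ⟨p, -, hp1, hp2, hp3, hp4⟩ := fullInv_spec (n % 512) (Nat.mod_lt _ (by norm_num)) hsq
    rw [← hn129] at hp1
    set v := F.el p.2.1
    have hv : v ∈ S.C := F.el_mem _
    have hpe : F.el n * v = v * F.el p.2.2 := by
      rw [← hp1, ← F.el_mul (by omega) (by omega), hp4, F.el_mul (by omega) (by omega)]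
    have hQ' : F.el p.2.2 ∈ F.S'.Q := by
      have hk : F.k (dec 129) ∈ F.S'.Q := by
        rw [show dec 129 = ι 0 sig * ι 1 sig * ι 2 sig by decide +kernel, map_mul, map_mul]
        exact mul_mem (mul_mem (F.k_sig 0) (F.k_sig 1)) (F.k_sig 2)
      rcases hp3 with e | e <;> rw [e]
      · rw [F.el_k]; exact hk
      · rw [Frame.el, show (256 + 512 * 129) % 512 = 256 by norm_num, show (256 + 512 * 129) / 512 = 129 by norm_num,
          F.evQ_t]
        exact mul_mem F.pair.t_mem hk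
    have hd := move (w * v) (mul_mem hwC hv) _ (IsConj.refl _) (by
      have : (w * v)⁻¹ * F.el m * (w * v) = F.el p.2.2 := by
        calc (w * v)⁻¹ * F.el m * (w * v) = v⁻¹ * ((w⁻¹ * F.el m * w) * v) := by group
          _ = _ := by rw [← hne, hpe, inv_mul_cancel_left]
      rwa [this])
    refine hD _ hd (fun e => F.S'.t_ne (conj_eq_one_iff.1 e)) ?_
    exact F.pair.conj.trans (isConj_iff.2 ⟨_, rfl⟩)
  push Not at hD
  obtain ⟨d, hd, hd1, hdc⟩ := hD
  have hdt : d ≠ S.t := fun e => ho.swap.out (e ▸ hd.2)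
  obtain ⟨g, hg, hge⟩ : ∃ g ∈ S.C, g * F.q * g⁻¹ = d := by
    rcases F.conj_Q hd.1 hdc with e | ⟨u, e | e⟩
    · exact absurd e hdt
    · exact ⟨_, F.k_mem (tr u), e.symm⟩
    · obtain ⟨y, hy, hys⟩ := F.pair.exists_move
      refine ⟨F.k (tr u) * y, mul_mem (F.k_mem _) (S.Q_le hy), ?_⟩
      calc F.k (tr u) * y * F.q * (F.k (tr u) * y)⁻¹ = F.k (tr u) * (y * F.q * y⁻¹) * (F.k (tr u))⁻¹ := by group
        _ = (F.k (tr u) * S.t) * F.q * (F.k (tr u))⁻¹ := by rw [hys]; group
        _ = d := by rw [S.mem_C.1 (F.k_mem _), e, Frame.Psi]; group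
  set u := g⁻¹ * F.el m * g with hudef
  have huc : IsConj S.t u := hc.trans (isConj_iff.2 ⟨g⁻¹, by rw [inv_inv]⟩)
  have huC : u ∈ S.C := mul_mem (mul_mem (inv_mem hg) (F.el_mem m)) hg
  have huQ : u ∈ F.S'.Q := by
    have hdu : IsConj S_u.t d := ((isConj_iff.2 ⟨g0, rfl⟩ : IsConj S.t S_u.t)).symm.trans hdc
    have h1 := S_u.mem_symm (F.S'.conj g) (by simpa [hge] using hdu) (by simpa [hge] using hd.2)
    obtain ⟨y, hy, hye⟩ := h1
    have : y = u := by
      have e : g * y * g⁻¹ = F.el m := hye.trans hu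
      rw [hudef, ← e]; group
    exact this ▸ hy
  have huout : u ∉ S.Q := fun h => hout (by
    have := S.Q_conj hg h
    rwa [hudef, show g * (g⁻¹ * F.el m * g) * g⁻¹ = F.el m by group] at this)
  obtain ⟨dd, hdd, i, hiu, e, he, p, hp, hp1, hp2, hce⟩ := F.single_conj ⟨huQ, huC⟩ huout huc
  have he0 : e = 0 := by
    rcases he with h | h
    · exact h
    · exact absurd (by rwa [h, F.el_t] at hce) (F.not_conj_twist i)
  subst he0
  rw [Nat.xor_zero] at hp1
  refine ⟨g, hg, _, isRoot_iff.2 (List.mem_append.2 (Or.inr (List.mem_map.2 ⟨p, hp, rfl⟩))), ?_⟩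
  rw [hp1, hiu, hudef]; group

end Std

end CfsgLib.OmegaPlusEight
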