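import Cfsg.Agent.Lib.OmegaPlusEight.Basic

/-!
A conjugate `u` of `t` in `C(t) ∖ Q` with no conjugate of `t` in `Q ∩ Q_u`, and the existence of a
conjugate of `t` in `Q ∖ {t}`.
-/

set_option autoImplicit false
set_option maxRecDepth 4000
set_option linter.unusedSectionVars false

namespace CfsgLib.OmegaPlusEight

open Subgroup

theorem s3_invol_eq : ∀ a b : S3, a * a = 1 → b * b = 1 → a * b = b * a → a ≠ 1 → b ≠ 1 → a = b := by
  decide

theorem s3_fix : ∀ a s : S3, a * a = 1 → a ≠ 1 → s * a * s⁻¹ = a → s = 1 ∨ s = a := by decide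

theorem s3_rot : ∃ r : S3, r ^ 3 = 1 ∧ r ≠ 1 := by decide

/-- Central factors do not change a commutator. -/
theorem comm_central {G : Type*} [Group G] {a b c d : G} (hc : ∀ x ∈ [a, b, d], Commute c x)
    (hd : ∀ x ∈ [a, b], Commute d x) :
    c * a * (d * b) * (c * a)⁻¹ * (d * b)⁻¹ = a * b * a⁻¹ * b⁻¹ := by
  simp only [List.mem_cons, List.not_mem_nil, or_false, forall_eq_or_imp, forall_eq] at hc hd
  have h1 : Commute c (a * (d * b) * a⁻¹) :=
    (hc.1.mul_right (hc.2.2.mul_right hc.2.1)).mul_right hc.1.inv_right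
  calc c * a * (d * b) * (c * a)⁻¹ * (d * b)⁻¹ = c * (a * (d * b) * a⁻¹) * c⁻¹ * (d * b)⁻¹ := by group
    _ = a * d * b * a⁻¹ * b⁻¹ * d⁻¹ := by rw [h1.eq]; group
    _ = d * (a * b * a⁻¹ * b⁻¹) * d⁻¹ := by rw [← hd.1.eq]; group
    _ = _ := by
      rw [((((hd.1.mul_right hd.2).mul_right hd.1.inv_right).mul_right hd.2.inv_right)).eq]; group

theorem card_le_eight {H : Subgroup Top} (h : ∀ s ∈ H, s * s = 1) : Nat.card H ≤ 8 := by
  haveI : Fact (Nat.Prime 2) := ⟨Nat.prime_two⟩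
  have hp : IsPGroup 2 ↥H := fun s => ⟨1, Subtype.ext (by simpa [pow_two] using h s s.2)⟩
  obtain ⟨k, hk⟩ := IsPGroup.iff_card.1 hp
  have h216 : Nat.card Top = 216 := by simp [Top, S3, Fintype.card_perm, Nat.factorial]
  have h1 : 2 ^ k ∣ 216 := h216 ▸ hk ▸ H.card_subgroup_dvd_card
  rw [hk]
  rcases Nat.lt_or_ge k 4 with h4 | h4
  · calc 2 ^ k ≤ 2 ^ 3 := Nat.pow_le_pow_right (by norm_num) (by omega)
      _ = 8 := by norm_num
  · exact absurd ((pow_dvd_pow 2 h4).trans h1) (by norm_num)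

/-- An elementary abelian subgroup of order `8` is a product of three transpositions. -/
theorem top_eight {H : Subgroup Top} (h : ∀ s ∈ H, s * s = 1) (h8 : Nat.card H = 8) :
    ∃ a b c : S3, (a * a = 1 ∧ a ≠ 1) ∧ (b * b = 1 ∧ b ≠ 1) ∧ (c * c = 1 ∧ c ≠ 1) ∧
      ∀ s : Top, s ∈ H ↔ (s.1 = 1 ∨ s.1 = a) ∧ (s.2.1 = 1 ∨ s.2.1 = b) ∧ (s.2.2 = 1 ∨ s.2.2 = c) := by
  classical
  have hcomm : ∀ s ∈ H, ∀ r ∈ H, s * r = r * s := fun s hs r hr => by
    have h1 : ∀ x ∈ H, x⁻¹ = x := fun x hx => inv_eq_of_mul_eq_one_right (h x hx)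
    calc s * r = (s * r)⁻¹ := (h1 _ (mul_mem hs hr)).symm
      _ = r * s := by rw [mul_inv_rev, h1 s hs, h1 r hr]
  have pick : ∀ (p : Top →* S3), ∃ a : S3, a * a = 1 ∧ a ≠ 1 ∧ ∀ s ∈ H, p s = 1 ∨ p s = a := by
    intro p
    by_cases hx : ∃ x ∈ H, p x ≠ 1
    · obtain ⟨x, hx, hne⟩ := hx
      refine ⟨p x, by rw [← map_mul, h x hx, map_one], hne, fun s hs => or_iff_not_imp_left.2 fun hs1 => ?_⟩
      exact s3_invol_eq _ _ (by rw [← map_mul, h s hs, map_one]) (by rw [← map_mul, h x hx, map_one])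
        (by rw [← map_mul, ← map_mul, hcomm s hs x hx]) hs1 hne
    · push Not at hx
      exact ⟨Equiv.swap 0 1, by decide, by decide, fun s hs => Or.inl (hx s hs)⟩
  obtain ⟨a, ha, ha1, hA⟩ := pick (MonoidHom.fst _ _)
  obtain ⟨b, hb, hb1, hB⟩ := pick ((MonoidHom.fst _ _).comp (MonoidHom.snd _ _))
  obtain ⟨c, hc, hc1, hC⟩ := pick ((MonoidHom.snd _ _).comp (MonoidHom.snd _ _))
  refine ⟨a, b, c, ⟨ha, ha1⟩, ⟨hb, hb1⟩, ⟨hc, hc1⟩, ?_⟩
  let T : Finset Top := ({1, a} : Finset S3) ×ˢ (({1, b} : Finset S3) ×ˢ ({1, c} : Finset S3))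
  have hsub : (Finset.univ.filter fun s => s ∈ H) ⊆ T := fun s hs => by
    have hs' := (Finset.mem_filter.1 hs).2
    simpa [T] using ⟨hA s hs', hB s hs', hC s hs'⟩
  have hT : T.card = 8 := by
    simp [T, Finset.card_product, Finset.card_pair ha1.symm, Finset.card_pair hb1.symm,
      Finset.card_pair hc1.symm]
  have hf : (Finset.univ.filter fun s => s ∈ H).card = 8 := by
    rw [← h8, Nat.card_eq_fintype_card, Fintype.card_subtype]
  have heq := Finset.eq_of_subset_of_card_le hsub (by omega)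
  intro s
  have : s ∈ (Finset.univ.filter fun s => s ∈ H) ↔ s ∈ T := by rw [heq]
  simpa [T] using this

/-- A subgroup of order `8` is self-normalizing. -/
theorem top_eight_normalizer {H : Subgroup Top} (h : ∀ s ∈ H, s * s = 1) (h8 : Nat.card H = 8)
    {s : Top} (hs : ∀ x ∈ H, s * x * s⁻¹ ∈ H) : s ∈ H := by
  obtain ⟨a, b, c, ⟨ha, ha1⟩, ⟨hb, hb1⟩, ⟨hc, hc1⟩, hH⟩ := top_eight h h8
  have fix : ∀ {a r : S3}, a * a = 1 → a ≠ 1 → (r * a * r⁻¹ = 1 ∨ r * a * r⁻¹ = a) → r = 1 ∨ r = a :=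
    fun ha ha1 hr => s3_fix _ _ ha ha1 (hr.resolve_left fun e => ha1 (conj_eq_one_iff.1 e))
  have h1 := (hH _).1 (hs (a, 1, 1) ((hH _).2 ⟨Or.inr rfl, Or.inl rfl, Or.inl rfl⟩))
  have h2 := (hH _).1 (hs (1, b, 1) ((hH _).2 ⟨Or.inl rfl, Or.inr rfl, Or.inl rfl⟩))
  have h3 := (hH _).1 (hs (1, 1, c) ((hH _).2 ⟨Or.inl rfl, Or.inl rfl, Or.inr rfl⟩))
  exact (hH s).2 ⟨fix ha ha1 h1.1, fix hb hb1 h2.2.1, fix hc hc1 h3.2.2⟩

namespace Setup

variable {G : Type*} [Group G] [Finite G] (S S' : Setup G)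

theorem mem_symm (h : IsConj S.t S'.t) (hm : S'.t ∈ S.Q) : S.t ∈ S'.Q := by
  obtain ⟨g, hg⟩ := isConj_iff.1 h
  rw [(S.conj g).Q_eq S' hg.symm]
  exact S.symm (hg ▸ hm)

/-- Both lifts of a conjugate of `t` in `Q ∖ ⟨t⟩` are conjugate to `t`. -/
theorem isConj_mul {x : G} (hx : x ∈ S.Q) (hne : x ≠ S.t) (hc : IsConj S.t x) : IsConj S.t (S.t * x) := by
  have h1 : x ≠ 1 := fun e => S.t_ne (isConj_one_left.1 (e ▸ hc))
  obtain ⟨y, -, hy⟩ := S.extra.exists_conj_eq hx h1 hne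
  exact hc.trans (isConj_iff.2 ⟨y, hy⟩)

/-- `C_Q(u)` -/
def P : Subgroup G := S.Q ⊓ S'.C

/-- `Q ∩ Q_u` -/
def D : Subgroup G := S.Q ⊓ S'.Q

/-- the `Q`-orbit of `u` -/
def orb (u : G) : Set G := Set.range fun q : ↥S.Q => (q : G) * u * (q : G)⁻¹

/-- the elements of `Q` fixing `u` modulo `t` -/
def Pt (u : G) (hu : u ∈ S.C) : Subgroup G where
  carrier := {q | q ∈ S.Q ∧ (q * u * q⁻¹ = u ∨ q * u * q⁻¹ = S.t * u)}
  one_mem' := ⟨one_mem _, Or.inl (by group)⟩
  mul_mem' := by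
    rintro p q ⟨hp, hp'⟩ ⟨hq, hq'⟩
    refine ⟨mul_mem hp hq, ?_⟩
    have e : p * q * u * (p * q)⁻¹ = p * (q * u * q⁻¹) * p⁻¹ := by group
    have et : p * (S.t * u) * p⁻¹ = S.t * (p * u * p⁻¹) := by
      rw [← mul_assoc p, S.Q_comm hp]; group
    rw [e]
    rcases hq' with hq' | hq' <;> rcases hp' with hp' | hp' <;>
      simp only [hq', et, hp', ← mul_assoc (a := S.t) (b := S.t), S.t_sq, one_mul, true_or, or_true]
  inv_mem' := by
    rintro p ⟨hp, hp'⟩
    refine ⟨inv_mem hp, ?_⟩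
    have hpt : p⁻¹ * S.t * p = S.t := by rw [mul_assoc, ← S.Q_comm hp]; group
    rw [inv_inv]
    rcases hp' with hp' | hp'
    · left
      conv_lhs => rw [← hp']
      group
    · right
      have e : u = S.t * (p⁻¹ * u * p) := by
        calc u = p⁻¹ * (p * u * p⁻¹) * p := by group
          _ = (p⁻¹ * S.t * p) * (p⁻¹ * u * p) := by rw [hp']; group
          _ = _ := by rw [hpt]
      conv_rhs => rw [e, ← mul_assoc, S.t_sq, one_mul]

/-- The standing hypotheses of this file. -/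
structure Outer : Prop where
  conj : IsConj S.t S'.t
  mem : S'.t ∈ S.C
  out : S'.t ∉ S.Q

namespace Outer

variable {S S'}
variable (h : Outer S S')
include h

theorem swap : Outer S' S :=
  ⟨h.conj.symm, S'.mem_C.2 (S.mem_C.1 h.mem).symm, fun hm => h.out (S'.mem_symm S h.conj.symm hm)⟩

theorem elem {p : G} (hp : p ∈ P S S') : p * p = 1 := by
  obtain ⟨k, hk⟩ := S.pow_two_pow hp.1
  exact (S.extra.sq_cases hp.1).resolve_right fun e => h.swap.out (e ▸ S'.sq_mem hp.2 hk)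

theorem comm {p q : G} (hp : p ∈ P S S') (hq : q ∈ P S S') : p * q = q * p := by
  have h1 : ∀ x ∈ P S S', x⁻¹ = x := fun x hx => inv_eq_of_mul_eq_one_right (h.elem hx)
  calc p * q = (p * q)⁻¹ := (h1 _ (mul_mem hp hq)).symm
    _ = q * p := by rw [mul_inv_rev, h1 p hp, h1 q hq]

theorem card_P_le : Nat.card (P S S') ≤ 32 := S.card_le_of_abelian inf_le_left fun _ ha _ hb => h.comm ha hb

omit h in
/-- the image of `C_Q(u)` in `Sym(3)³` -/
noncomputable def img' (S S' : Setup G) : ↥(P S S') →* Top :=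
  S'.img.comp (inclusion (show P S S' ≤ centralizer ({S'.t} : Set G) from inf_le_right))

omit h in
theorem img'_apply (p : ↥(P S S')) : img' S S' p = S'.im p := (S'.im_eq p.2.2).symm

theorem card_range : Nat.card (img' S S').range ≤ 8 := card_le_eight (by
  rintro _ ⟨p, rfl⟩
  rw [← map_mul, show p * p = 1 from Subtype.ext (h.elem p.2), map_one])

omit h in
theorem card_P_eq : Nat.card (P S S') = Nat.card (img' S S').range * Nat.card (D S S') := by
  rw [card_eq_card_quotient_mul_card_subgroup (img' S S').ker,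
    Nat.card_congr (QuotientGroup.quotientKerEquivRange _).toEquiv]
  congr 1
  refine Nat.card_congr ⟨fun x => ⟨x.1.1, x.1.2.1, ?_⟩, fun d => ⟨⟨d.1, d.2.1, S'.Q_le d.2.2⟩, ?_⟩,
    fun _ => rfl, fun _ => rfl⟩
  · exact S'.mem_Q.2 ⟨x.1.2.2, (img'_apply x.1).symm.trans x.2⟩
  · exact (img'_apply _).trans (S'.im_Q d.2.2)

theorem card_P_le_D : Nat.card (P S S') ≤ 8 * Nat.card (D S S') := by
  rw [card_P_eq]; exact Nat.mul_le_mul_right _ h.card_range

theorem P_le_Pt : P S S' ≤ S.Pt S'.t h.mem := fun p hp => ⟨hp.1, Or.inl (by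
  rw [S'.mem_C.1 hp.2]; group)⟩

theorem orb_card : Nat.card (S.orb S'.t) * Nat.card (P S S') = 512 := by
  let f : ↥S.Q → ↥(S.orb S'.t) := fun q => ⟨_, q, rfl⟩
  have hker : ∀ q r : ↥S.Q, f q = f r ↔ q⁻¹ * r ∈ (P S S').subgroupOf S.Q := by
    intro q r
    rw [mem_subgroupOf]
    constructor
    · intro e
      refine ⟨(q⁻¹ * r).2, S'.mem_C.2 ?_⟩
      have e' : (q : G) * S'.t * (q : G)⁻¹ = r * S'.t * (r : G)⁻¹ := congrArg Subtype.val e
      simp only [Subgroup.coe_mul, Subgroup.coe_inv]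
      calc (q : G)⁻¹ * r * S'.t = (q : G)⁻¹ * (r * S'.t * (r : G)⁻¹) * r := by group
        _ = S'.t * ((q : G)⁻¹ * r) := by rw [← e']; group
    · intro e
      refine Subtype.ext ?_
      have e' := S'.mem_C.1 e.2
      simp only [Subgroup.coe_mul, Subgroup.coe_inv] at e'
      show (q : G) * S'.t * (q : G)⁻¹ = r * S'.t * (r : G)⁻¹
      calc (q : G) * S'.t * (q : G)⁻¹ = q * (S'.t * ((q : G)⁻¹ * r)) * (r : G)⁻¹ := by group
        _ = r * S'.t * (r : G)⁻¹ := by rw [← e']; group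
  let e : ↥S.Q ⧸ (P S S').subgroupOf S.Q ≃ ↥(S.orb S'.t) := Equiv.ofBijective
    (Quotient.lift f fun a b hab => (hker a b).2 (QuotientGroup.leftRel_apply.1 hab))
    ⟨fun a b => by
      induction a using QuotientGroup.induction_on with
      | H a => induction b using QuotientGroup.induction_on with
        | H b => exact fun hab => QuotientGroup.eq.2 ((hker a b).1 hab),
    fun x => by obtain ⟨_, q, rfl⟩ := x; exact ⟨QuotientGroup.mk q, rfl⟩⟩
  rw [← Nat.card_congr e, ← Nat.card_congr (subgroupOfEquivOfLe (H := P S S') (K := S.Q) inf_le_left).toEquiv,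
    ← card_eq_card_quotient_mul_card_subgroup, S.card_Q]

/-- The elements `y` with `u * y` in the orbit lie in `Pt` and are central there. -/
theorem mem_Pt_of_orb {y : G} (hy : S'.t * y ∈ S.orb S'.t) :
    y ∈ S.Pt S'.t h.mem ∧ ∀ p ∈ S.Pt S'.t h.mem, p * y = y * p := by
  obtain ⟨⟨q, hq⟩, e⟩ := hy
  have u2 : S'.t * S'.t = 1 := S'.t_sq
  have ey : y = S'.t * q * S'.t⁻¹ * q⁻¹ := by
    rw [S'.t_inv]
    calc y = S'.t * (S'.t * y) := by rw [← mul_assoc, u2, one_mul]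
      _ = _ := by rw [← e]; group
  have hyQ : y ∈ S.Q := ey ▸ mul_mem (S.Q_conj h.mem hq) (inv_mem hq)
  have hinv : S'.t * y * S'.t⁻¹ = y⁻¹ := by
    have : (S'.t * y) * (S'.t * y) = 1 := by
      rw [← e]
      calc q * S'.t * q⁻¹ * (q * S'.t * q⁻¹) = q * (S'.t * S'.t) * q⁻¹ := by group
        _ = 1 := by rw [u2]; group
    rw [S'.t_inv, eq_inv_iff_mul_eq_one, mul_assoc (S'.t * y)]
    exact this
  refine ⟨⟨hyQ, ?_⟩, fun p ⟨hp, hp'⟩ => ?_⟩
  · have hc : y * S'.t * y⁻¹ = y * y * S'.t := by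
      calc y * S'.t * y⁻¹ = y * (S'.t * y * S'.t⁻¹)⁻¹ * S'.t := by group
        _ = _ := by rw [hinv, inv_inv]
    rw [hc]
    exact (S.extra.sq_cases hyQ).imp (fun e => by rw [e, one_mul]) fun e => by rw [e]
  · have key : p * y * p⁻¹ = (p * S'.t * p⁻¹) * (p * q * p⁻¹) * (p * S'.t * p⁻¹)⁻¹ * (p * q * p⁻¹)⁻¹ := by
      rw [ey]; group
    have hct : ∀ x ∈ [S'.t, q, S.t, 1], Commute S.t x := by
      simp only [List.mem_cons, List.not_mem_nil, or_false, forall_eq_or_imp, forall_eq]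
      exact ⟨(S.mem_C.1 h.mem).symm, (S.Q_comm hq).symm, Commute.refl _, Commute.one_right _⟩
    have h1 : ∀ x : G, Commute (1 : G) x := Commute.one_left
    refine mul_inv_eq_iff_eq_mul.1 (key.trans ?_)
    rw [ey]
    rcases S.extra.conj_cases hp hq with eq' | eq' <;> rcases hp' with eu | eu <;> rw [eq', eu]
    · exact Eq.trans (by rw [one_mul]) (comm_central (c := S.t) (d := 1)
        (fun x hx => hct x (by simp at hx ⊢; tauto)) fun x _ => h1 x)
    · exact Eq.trans (by rw [one_mul]) (comm_central (c := 1) (d := S.t) (fun x _ => h1 x)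
        fun x hx => hct x (by simp at hx ⊢; tauto))
    · exact comm_central (fun x hx => hct x (by simp at hx ⊢; tauto))
        fun x hx => hct x (by simp at hx ⊢; tauto)

theorem card_Pt_le : Nat.card (S.Pt S'.t h.mem) ≤ 2 * Nat.card (P S S') := by
  classical
  set Pt := S.Pt S'.t h.mem
  let g : ↥Pt → Bool := fun p => decide ((p : G) * S'.t * (p : G)⁻¹ = S'.t)
  by_cases hex : ∃ z : ↥Pt, g z = false
  · obtain ⟨z, hz⟩ := hex
    have hout : ∀ p : ↥Pt, g p = false → (p : G) * S'.t * (p : G)⁻¹ = S.t * S'.t := fun p hp =>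
      p.2.2.resolve_left (by simpa [g] using hp)
    have hin : ∀ p : ↥Pt, g p = false → (z : G)⁻¹ * p ∈ P S S' := fun p hp => by
      refine ⟨S.Q.mul_mem (S.Q.inv_mem z.2.1) p.2.1, S'.mem_C.2 ?_⟩
      have e : (p : G) * S'.t * (p : G)⁻¹ = z * S'.t * (z : G)⁻¹ := by rw [hout p hp, hout z hz]
      calc (z : G)⁻¹ * p * S'.t = (z : G)⁻¹ * (p * S'.t * (p : G)⁻¹) * p := by group
        _ = _ := by rw [e]; group
    let f : ↥Pt → Bool × ↥(P S S') := fun p => if hp : g p = false then (false, ⟨_, hin p hp⟩) else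
      (true, ⟨p, p.2.1, S'.mem_C.2 (mul_inv_eq_iff_eq_mul.1 (by simpa [g] using hp : _ = S'.t))⟩)
    have hf : Function.Injective f := by
      intro a b hab
      by_cases ha : g a = false <;> by_cases hb : g b = false <;>
        simp only [f, dif_pos, dif_neg, ha, hb, not_false_eq_true, Prod.mk.injEq, Bool.true_eq_false,
          Bool.false_eq_true, false_and, true_and, Subtype.mk.injEq] at hab
      · exact Subtype.ext (mul_left_cancel hab)
      · exact Subtype.ext (congrArg Subtype.val hab :)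
    calc Nat.card Pt ≤ Nat.card (Bool × ↥(P S S')) := Nat.card_le_card_of_injective f hf
      _ = 2 * Nat.card (P S S') := by simp [Nat.card_prod]
  · push Not at hex
    have : Pt ≤ P S S' := fun p hp => ⟨hp.1, S'.mem_C.2 (mul_inv_eq_iff_eq_mul.1
      (by simpa [g] using hex ⟨p, hp⟩))⟩
    exact (card_le_of_le this).trans (Nat.le_mul_of_pos_left _ two_pos)

/-- the elements `y` with `u y` or `u t y` in the orbit -/
def W : Subgroup G where
  carrier := {y | S'.t * y ∈ S.orb S'.t ∨ S'.t * (S.t * y) ∈ S.orb S'.t}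
  one_mem' := Or.inl ⟨⟨1, one_mem _⟩, by simp⟩
  mul_mem' := by
    intro y' y hy' hy
    -- reduce to the products of orbit elements
    have hc : ∀ z, (S'.t * z ∈ S.orb S'.t ∨ S'.t * (S.t * z) ∈ S.orb S'.t) →
        ∃ z', S'.t * z' ∈ S.orb S'.t ∧ (z = z' ∨ z = S.t * z') := fun z hz => hz.elim
      (fun e => ⟨z, e, Or.inl rfl⟩) fun e => ⟨_, e, Or.inr (by rw [← mul_assoc, S.t_sq, one_mul])⟩
    have hW : ∀ a b : G, (S'.t * a ∈ S.orb S'.t ∧ (b = a ∨ b = S.t * a)) →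
        (S'.t * b ∈ S.orb S'.t ∨ S'.t * (S.t * b) ∈ S.orb S'.t) := fun a b hab => hab.2.elim
      (fun e => Or.inl (e ▸ hab.1)) fun e => Or.inr (by rw [e, ← mul_assoc S.t, S.t_sq, one_mul]; exact hab.1)
    obtain ⟨a, ha, ea⟩ := hc y' hy'
    obtain ⟨b, hb, eb⟩ := hc y hy
    obtain ⟨haP, -⟩ := h.mem_Pt_of_orb ha
    obtain ⟨hbP, -⟩ := h.mem_Pt_of_orb hb
    obtain ⟨⟨r, hr⟩, er⟩ := ha
    obtain ⟨⟨q, hq⟩, eq⟩ := hb
    have e3 : r * q * S'.t * (r * q)⁻¹ = S'.t * a * (r * b * r⁻¹) := by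
      calc r * q * S'.t * (r * q)⁻¹ = r * (q * S'.t * q⁻¹) * r⁻¹ := by group
        _ = (r * S'.t * r⁻¹) * (r * b * r⁻¹) := by
          rw [show q * S'.t * q⁻¹ = S'.t * b from eq]; group
        _ = _ := by rw [show r * S'.t * r⁻¹ = S'.t * a from er]
    refine hW (a * (r * b * r⁻¹)) (y' * y) ⟨⟨⟨r * q, mul_mem hr hq⟩, e3.trans (mul_assoc _ _ _)⟩, ?_⟩
    have hat : Commute a S.t := S.Q_comm haP.1
    have hl : ∀ z, a * (S.t * z) = S.t * (a * z) := fun z => by rw [← mul_assoc, hat.eq, mul_assoc]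
    have htt : ∀ z, S.t * (S.t * z) = z := fun z => by rw [← mul_assoc, S.t_sq, one_mul]
    rcases S.extra.conj_cases hr hbP.1 with e | e <;> rw [e] <;> rcases ea with rfl | rfl <;>
      rcases eb with rfl | rfl <;> simp [hl, htt, mul_assoc]
  inv_mem' := by
    intro y hy
    have hyQ : y ∈ S.Q := hy.elim (fun e => (h.mem_Pt_of_orb e).1.1) fun e => by
      simpa [← mul_assoc, S.t_sq] using mul_mem S.t_mem (h.mem_Pt_of_orb e).1.1
    rcases S.extra.inv_mem_cases hyQ with e | e <;> rw [Set.mem_setOf_eq, e]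
    · exact hy
    · rcases hy with hy | hy
      · exact Or.inr (by rwa [← mul_assoc S.t, S.t_sq, one_mul])
      · exact Or.inl hy

theorem W_le : h.W ≤ S.Pt S'.t h.mem := fun y hy => hy.elim (fun e => (h.mem_Pt_of_orb e).1) fun e => by
  have := mul_mem (h.P_le_Pt (show S.t ∈ P S S' from ⟨S.t_mem, h.swap.mem⟩)) (h.mem_Pt_of_orb e).1
  rwa [← mul_assoc, S.t_sq, one_mul] at this

theorem W_central {y p : G} (hy : y ∈ h.W) (hp : p ∈ S.Pt S'.t h.mem) : p * y = y * p := by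
  rcases hy with e | e
  · exact (h.mem_Pt_of_orb e).2 p hp
  · have : Commute p (S.t * (S.t * y)) := Commute.mul_right (S.Q_comm hp.1) ((h.mem_Pt_of_orb e).2 p hp)
    rwa [← mul_assoc, S.t_sq, one_mul] at this

theorem card_W : Nat.card h.W * Nat.card (S.Pt S'.t h.mem) = 1024 := by
  set Pt := S.Pt S'.t h.mem
  have htW : zpowers S.t ≤ h.W :=
    zpowers_le.2 (Or.inr ⟨⟨1, one_mem _⟩, by simp [← mul_assoc, S.t_sq, mul_assoc]⟩)
  have hmem : ∀ q : ↥S.Q, S'.t * ((q : G) * S'.t * (q : G)⁻¹) ∈ h.W := fun q => Or.inl (by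
    rw [← mul_assoc, S'.t_sq, one_mul]; exact ⟨q, rfl⟩)
  let g : ↥S.Q → ↥h.W ⧸ (zpowers S.t).subgroupOf h.W := fun q => QuotientGroup.mk ⟨_, hmem q⟩
  have hiff : ∀ q r : ↥S.Q, g q = g r ↔ q⁻¹ * r ∈ Pt.subgroupOf S.Q := by
    intro q r
    have hq : (q : G)⁻¹ * S.t * q = S.t := by rw [mul_assoc, ← S.Q_comm q.2]; group
    rw [show (g q = g r) ↔ _ from QuotientGroup.eq, mem_subgroupOf, mem_subgroupOf,
      S.extra.mem_zpowers_z]
    simp only [Subgroup.coe_mul, Subgroup.coe_inv]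
    have e0 : (q : G)⁻¹ * r * S'.t * ((q : G)⁻¹ * r)⁻¹ = (q : G)⁻¹ * (r * S'.t * (r : G)⁻¹) * q := by group
    have e1 : (S'.t * ((q : G) * S'.t * (q : G)⁻¹))⁻¹ * (S'.t * (r * S'.t * (r : G)⁻¹)) =
        q * (S'.t * ((q : G)⁻¹ * (r * S'.t * (r : G)⁻¹) * q)) * (q : G)⁻¹ := by
      calc _ = (q : G) * S'.t⁻¹ * (q : G)⁻¹ * (r * S'.t * (r : G)⁻¹) := by group
        _ = _ := by rw [S'.t_inv]; group
    rw [e1]
    constructor
    · rintro (e | e)
      · refine ⟨(q⁻¹ * r).2, Or.inl (e0.trans ?_)⟩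
        exact (inv_eq_of_mul_eq_one_right (conj_eq_one_iff.1 e)).symm.trans S'.t_inv
      · refine ⟨(q⁻¹ * r).2, Or.inr (e0.trans ?_)⟩
        have : S'.t * ((q : G)⁻¹ * (r * S'.t * (r : G)⁻¹) * q) = S.t := by
          conv_rhs => rw [← hq, ← e]
          group
        rw [← S.mem_C.1 h.mem]
        conv_rhs => rw [← this, ← mul_assoc, S'.t_sq, one_mul]
    · rintro ⟨-, e | e⟩ <;> rw [e0] at e <;> rw [e]
      · left; rw [S'.t_sq]; group
      · right
        rw [← S.mem_C.1 h.mem, ← mul_assoc S'.t, S'.t_sq, one_mul]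
        rw [S.Q_comm q.2]; group
  let e : ↥S.Q ⧸ Pt.subgroupOf S.Q ≃ ↥h.W ⧸ (zpowers S.t).subgroupOf h.W := Equiv.ofBijective
    (Quotient.lift g fun a b hab => (hiff a b).2 (QuotientGroup.leftRel_apply.1 hab))
    ⟨fun a b => by
      induction a using QuotientGroup.induction_on with
      | H a => induction b using QuotientGroup.induction_on with
        | H b => exact fun hab => QuotientGroup.eq.2 ((hiff a b).1 hab),
    fun x => by
      induction x using QuotientGroup.induction_on with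
      | H x =>
        obtain ⟨y, hy⟩ := x
        rcases hy with hy | hy <;> obtain ⟨q, e⟩ := hy <;> refine ⟨QuotientGroup.mk q, QuotientGroup.eq.2 ?_⟩ <;>
          rw [mem_subgroupOf, S.extra.mem_zpowers_z] <;> simp only [Subgroup.coe_mul, Subgroup.coe_inv] <;>
          rw [show (q : G) * S'.t * (q : G)⁻¹ = _ from e, ← mul_assoc S'.t S'.t, S'.t_sq, one_mul]
        · exact Or.inl (inv_mul_cancel _)
        · exact Or.inr (by
            rw [mul_inv_rev, S.t_inv, mul_assoc]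
            have := S.Q_comm (x := y) (by
              simpa [← mul_assoc, S.t_sq] using mul_mem S.t_mem
                (h.mem_Pt_of_orb (⟨q, e⟩ : S'.t * (S.t * y) ∈ S.orb S'.t)).1.1)
            rw [← this, ← mul_assoc, inv_mul_cancel, one_mul])⟩
  have h1 := card_eq_card_quotient_mul_card_subgroup ((zpowers S.t).subgroupOf h.W)
  have h2 := card_eq_card_quotient_mul_card_subgroup (Pt.subgroupOf S.Q)
  rw [Nat.card_congr (subgroupOfEquivOfLe htW).toEquiv, Nat.card_zpowers, S.extra.order_z,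
    ← Nat.card_congr e] at h1
  rw [Nat.card_congr (subgroupOfEquivOfLe ((fun _ hx => hx.1) : Pt ≤ S.Q)).toEquiv, S.card_Q] at h2
  rw [h1]
  calc Nat.card (↥S.Q ⧸ Pt.subgroupOf S.Q) * 2 * Nat.card Pt
      = 2 * (Nat.card (↥S.Q ⧸ Pt.subgroupOf S.Q) * Nat.card Pt) := by ring
    _ = 1024 := by rw [← h2]

/-- `P = Pt` has order `32` and every pair `{u y, u t y}`, `y ∈ P`, meets the orbit. -/
theorem shape (hD : ∀ d ∈ D S S', d ≠ 1 → ¬ IsConj S.t d) :
    Nat.card (P S S') = 32 ∧ S.Pt S'.t h.mem = P S S' ∧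
      ∀ y ∈ P S S', S'.t * y ∈ S.orb S'.t ∨ S'.t * (S.t * y) ∈ S.orb S'.t := by
  classical
  haveI : Fact (Nat.Prime 2) := ⟨Nat.prime_two⟩
  set Pt := S.Pt S'.t h.mem
  have horb := h.orb_card
  have hW := h.card_W
  have h32 := h.card_P_le
  have h2 : Nat.card Pt ≤ 2 * Nat.card (P S S') := h.card_Pt_le
  have hWle : Nat.card h.W ≤ Nat.card Pt := card_le_of_le h.W_le
  have hPPt : Nat.card (P S S') ≤ Nat.card Pt := card_le_of_le h.P_le_Pt
  obtain ⟨k, hk⟩ : ∃ k, Nat.card (P S S') = 2 ^ k :=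
    IsPGroup.iff_card.1 (S.isPGroup.to_le inf_le_left)
  obtain ⟨l, hl⟩ := IsPGroup.iff_card.1 (S.isPGroup.to_le ((fun _ hx => hx.1) : Pt ≤ S.Q))
  have hl5 : 5 ≤ l := by
    by_contra hlt
    have := Nat.pow_le_pow_right (n := 2) (by norm_num) (show l ≤ 4 by omega)
    nlinarith
  have hk5 : k ≤ 5 := (Nat.pow_le_pow_iff_right (by norm_num)).1 (show 2 ^ k ≤ 2 ^ 5 by omega)
  have hlk : l ≤ k + 1 := (Nat.pow_le_pow_iff_right (by norm_num)).1
    (show 2 ^ l ≤ 2 ^ (k + 1) by rw [pow_succ]; omega)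
  have hkl : k ≤ l := (Nat.pow_le_pow_iff_right (by norm_num)).1 (show 2 ^ k ≤ 2 ^ l by omega)
  have hcases : (k = 5 ∧ l = 5) ∨ (k = 4 ∧ l = 5) ∨ (k = 5 ∧ l = 6) := by omega
  rcases hcases with ⟨rfl, rfl⟩ | hbad
  · have hPeq : P S S' = Pt := eq_of_le_of_card_ge h.P_le_Pt (by omega)
    have hWeq : h.W = Pt := eq_of_le_of_card_ge h.W_le (by rw [hl] at hW; omega)
    refine ⟨hk, hPeq.symm, fun y hy => ?_⟩
    exact (hWeq ▸ hPeq ▸ hy : y ∈ h.W)
  · exfalso
    -- the orbit is closed under multiplication by `t`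
    have hY : ∀ y ∈ h.W, S'.t * y ∈ S.orb S'.t := by
      have hsub : S.orb S'.t ⊆ (fun y => S'.t * y) '' (h.W : Set G) := fun x hx =>
        ⟨S'.t⁻¹ * x, Or.inl (by simpa using hx), by simp⟩
      have hcard : Nat.card ((fun y => S'.t * y) '' (h.W : Set G)) = Nat.card (S.orb S'.t) := by
        rw [Nat.card_image_of_injective (mul_right_injective _)]
        change Nat.card h.W = _
        rcases hbad with ⟨rfl, rfl⟩ | ⟨rfl, rfl⟩ <;> rw [hl] at hW <;> rw [hk] at horb <;> omega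
      have heq := Set.eq_of_subset_of_ncard_le hsub (le_of_eq (by
        rwa [← Nat.card_coe_set_eq, ← Nat.card_coe_set_eq])) (Set.toFinite _)
      exact fun y hy => heq ▸ ⟨y, hy, rfl⟩
    -- `W ≤ P`
    have hWP : h.W ≤ P S S' ∨ P S S' ≤ h.W := by
      rcases hbad with ⟨rfl, rfl⟩ | ⟨rfl, rfl⟩
      · exact Or.inr (h.P_le_Pt.trans (eq_of_le_of_card_ge h.W_le (by rw [hl] at hW; change Nat.card Pt ≤ _; omega)).ge)
      · left
        set A := P S S' ⊔ h.W
        have hA : ∀ a ∈ A, ∀ b ∈ A, a * b = b * a := by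
          have hgen : ∀ a ∈ (P S S' : Set G) ∪ h.W, ∀ b ∈ (P S S' : Set G) ∪ h.W, a * b = b * a := by
            rintro a (ha | ha) b (hb | hb)
            · exact h.comm ha hb
            · exact h.W_central hb (h.P_le_Pt ha)
            · exact (h.W_central ha (h.P_le_Pt hb)).symm
            · exact h.W_central hb (h.W_le ha)
          have hle : A ≤ centralizer (A : Set G) := by
            have heq : A = closure ((P S S' : Set G) ∪ h.W) := by
              rw [Subgroup.closure_union, closure_eq, closure_eq]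
            rw [heq, centralizer_closure, closure_le]
            exact fun a ha => mem_centralizer_iff.2 fun b hb => hgen b hb a ha
          exact fun a ha b hb => mem_centralizer_iff.1 (hle hb) a ha
        have h1 := S.card_le_of_abelian (A := A)
          (sup_le inf_le_left fun y hy => (h.W_le hy).1) hA
        exact le_sup_right.trans (eq_of_le_of_card_ge le_sup_left (by change Nat.card A ≤ _; omega)).ge
    -- `D` meets `W`
    obtain ⟨d, hd, hdW, hne⟩ : ∃ d ∈ D S S', d ∈ h.W ∧ d ≠ 1 := by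
      have hD8 := h.card_P_le_D
      have hDP : D S S' ≤ P S S' := fun x hx => ⟨hx.1, S'.Q_le hx.2⟩
      rcases hWP with hWP | hWP
      · by_contra hno
        push Not at hno
        have hinj : Function.Injective (fun p : ↥(D S S') × ↥h.W =>
            (⟨p.1 * p.2, mul_mem (hDP p.1.2) (hWP p.2.2)⟩ : ↥(P S S'))) := by
          rintro ⟨a, b⟩ ⟨c, d⟩ e
          have e' : (a : G) * b = c * d := congrArg Subtype.val e
          have hac : (c : G)⁻¹ * a = d * (b : G)⁻¹ := by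
            rw [eq_mul_inv_iff_mul_eq, mul_assoc, e', inv_mul_cancel_left]
          have hone := hno _ (mul_mem (inv_mem c.2) a.2) (hac ▸ mul_mem d.2 (inv_mem b.2))
          exact Prod.ext (Subtype.ext (inv_mul_eq_one.1 hone).symm)
            (Subtype.ext (mul_inv_eq_one.1 (hac ▸ hone)).symm)
        have := Nat.card_le_card_of_injective _ hinj
        rw [Nat.card_prod] at this
        rcases hbad with ⟨rfl, rfl⟩ | ⟨rfl, rfl⟩ <;> rw [hl] at hW <;> rw [hk] at this hD8 <;> nlinarith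
      · have h1 : 1 < Nat.card (D S S') := by
          rcases hbad with ⟨rfl, rfl⟩ | ⟨rfl, rfl⟩ <;> omega
        haveI := Finite.one_lt_card_iff_nontrivial.1 h1
        obtain ⟨d, hd⟩ := exists_ne (1 : ↥(D S S'))
        exact ⟨d, d.2, hWP (hDP d.2), fun e => hd (Subtype.ext e)⟩
    obtain ⟨⟨q, hq⟩, e⟩ := hY d hdW
    have hx : S'.t * d ∈ S'.Q := mul_mem S'.t_mem hd.2
    have hconj := S'.isConj_mul hx (fun e' => hne (mul_eq_left.1 e')) (isConj_iff.2 ⟨q, e⟩)
    rw [← mul_assoc, S'.t_sq, one_mul] at hconj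
    exact hD d hd hne (h.conj.trans hconj)

variable (hD : ∀ d ∈ D S S', d ≠ 1 → ¬ IsConj S.t d)
include hD

omit h hD in
theorem D_symm (x : G) : x ∈ D S S' ↔ x ∈ D S' S := And.comm

theorem hD' : ∀ d ∈ D S' S, d ≠ 1 → ¬ IsConj S'.t d := fun d hd hne hc =>
  hD d ((D_symm d).2 hd) hne (h.conj.trans hc)

/-- For `d` in `D ∖ 1` the element `u d t` is conjugate to `t` under `Q`. -/
theorem mem_orb {d : G} (hd : d ∈ D S S') (hne : d ≠ 1) : S'.t * (S.t * d) ∈ S.orb S'.t := by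
  obtain ⟨-, -, hY⟩ := h.shape hD
  refine (hY d ⟨hd.1, S'.Q_le hd.2⟩).resolve_left fun ⟨⟨q, hq⟩, e⟩ => ?_
  have hc := S'.isConj_mul (mul_mem S'.t_mem hd.2) (fun e' => hne (mul_eq_left.1 e')) (isConj_iff.2 ⟨q, e⟩)
  rw [← mul_assoc, S'.t_sq, one_mul] at hc
  exact hD d hd hne (h.conj.trans hc)

theorem card_D : Nat.card (D S S') = 4 := by
  classical
  haveI : Fact (Nat.Prime 2) := ⟨Nat.prime_two⟩
  obtain ⟨h32, -, -⟩ := h.shape hD
  have h8 := h.card_P_le_D
  obtain ⟨k, hk⟩ : ∃ k, Nat.card (D S S') = 2 ^ k := IsPGroup.iff_card.1 (S.isPGroup.to_le inf_le_left)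
  rcases Nat.lt_or_ge k 3 with hk3 | hk3
  · have : k = 2 := by
      by_contra hne
      have := Nat.pow_le_pow_right (n := 2) (by norm_num) (show k ≤ 1 by omega)
      omega
    rw [hk, this]; norm_num
  exfalso
  have hge : 8 ≤ Nat.card (D S S') := hk ▸ Nat.pow_le_pow_right (n := 2) (by norm_num) hk3
  haveI := Finite.one_lt_card_iff_nontrivial.1 (show 1 < Nat.card (D S S') by omega)
  obtain ⟨⟨d₁, hd₁⟩, hne₁'⟩ := exists_ne (1 : ↥(D S S'))
  have hne₁ : d₁ ≠ 1 := fun e => hne₁' (Subtype.ext e)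
  -- the same element is a conjugate of `t` under `Q_u`
  obtain ⟨⟨w, hw⟩, ew⟩ := h.swap.mem_orb (h.hD' hD) ((D_symm d₁).1 hd₁) hne₁
  set T := S.conj w
  have hT : T.t = S.t * (S'.t * d₁) := ew
  -- the part of `D` centralised by `w`
  let K : Subgroup G := D S S' ⊓ centralizer ({w} : Set G)
  have hKT : ∀ a ∈ K, a ∈ T.Q := fun a ha => ⟨a, ha.1.1, by
    have := mem_centralizer_singleton_iff.1 ha.2
    simp [← this]⟩
  have hK2 : Nat.card (D S S') ≤ 2 * Nat.card K := by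
    let g : ↥(D S S') → Bool := fun d => decide ((d : G) * w * (d : G)⁻¹ = w)
    have hin : ∀ d z : ↥(D S S'), g d = g z → (z : G)⁻¹ * d ∈ K := fun d z e => by
      refine ⟨(D S S').mul_mem ((D S S').inv_mem z.2) d.2, mem_centralizer_singleton_iff.2 ?_⟩
      have e' : (d : G) * w * (d : G)⁻¹ = z * w * (z : G)⁻¹ := by
        rcases S'.extra.conj_cases d.2.2 hw with e1 | e1 <;>
          rcases S'.extra.conj_cases z.2.2 hw with e2 | e2 <;>
          simp only [g, e1, e2, decide_eq_decide] at e ⊢ <;>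
          first
          | rfl
          | exact (mul_eq_right.not.2 S'.t_ne (e.2 trivial)).elim
          | exact (mul_eq_right.not.2 S'.t_ne (e.1 trivial)).elim
      calc (z : G)⁻¹ * d * w = (z : G)⁻¹ * (d * w * (d : G)⁻¹) * d := by group
        _ = w * ((z : G)⁻¹ * d) := by rw [e']; group
    by_cases hex : ∃ z, g z = false
    · obtain ⟨z, hz⟩ := hex
      let f : ↥(D S S') → Bool × ↥K := fun d => if hd : g d = false then
        (false, ⟨_, hin d z (hd.trans hz.symm)⟩) else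
        (true, ⟨d, by simpa using hin d 1 (by simp only [Bool.not_eq_false] at hd; rw [hd]; simp [g])⟩)
      have hf : Function.Injective f := by
        intro a b hab
        by_cases ha : g a = false <;> by_cases hb : g b = false <;>
          simp only [f, dif_pos, dif_neg, ha, hb, not_false_eq_true, Prod.mk.injEq, Bool.true_eq_false,
            Bool.false_eq_true, false_and, true_and, Subtype.mk.injEq] at hab
        · exact Subtype.ext (mul_left_cancel hab)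
        · exact Subtype.ext hab
      calc Nat.card (D S S') ≤ Nat.card (Bool × ↥K) := Nat.card_le_card_of_injective f hf
        _ = 2 * Nat.card K := by simp [Nat.card_prod]
    · push Not at hex
      refine (card_le_of_le (?_ : D S S' ≤ K)).trans (Nat.le_mul_of_pos_left _ two_pos)
      intro d hd
      have := hin ⟨d, hd⟩ 1 (by
        have := hex ⟨d, hd⟩
        simp only [ne_eq, Bool.not_eq_false] at this
        rw [this]; simp [g])
      simpa using this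
  obtain ⟨a, ha, ha1, had⟩ : ∃ a ∈ K, a ≠ 1 ∧ a ≠ d₁ := by
    by_contra hno
    push Not at hno
    let f : ↥K → Bool := fun a => decide ((a : G) = 1)
    have hf : Function.Injective f := fun a b e => by
      apply Subtype.ext
      simp only [f, decide_eq_decide] at e
      by_cases h1 : (a : G) = 1
      · rw [h1, e.1 h1]
      · rw [hno a a.2 h1, hno b b.2 fun hb => h1 (e.2 hb)]
    have := Nat.card_le_card_of_injective f hf
    rw [show Nat.card Bool = 2 by simp] at this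
    omega
  have hda : d₁ * a ≠ 1 := by
    intro e
    refine had ?_
    rw [eq_inv_of_mul_eq_one_right e]
    exact inv_eq_of_mul_eq_one_right (h.elem ⟨hd₁.1, S'.Q_le hd₁.2⟩)
  obtain ⟨⟨q, hqQ⟩, hq⟩ := h.mem_orb hD (mul_mem hd₁ ha.1) hda
  have hu : S'.t * S.t = S.t * S'.t := S.mem_C.1 h.mem
  have hxa : T.t * a = S'.t * (S.t * (d₁ * a)) := by
    rw [hT, ← mul_assoc S'.t, hu]; group
  have hc : IsConj T.t (T.t * a) := by
    have h1 : IsConj S.t T.t := isConj_iff.2 ⟨w, rfl⟩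
    exact h1.symm.trans (h.conj.trans (isConj_iff.2 ⟨q, hxa ▸ hq⟩))
  have := T.isConj_mul (mul_mem T.t_mem (hKT a ha)) (fun e => ha1 (mul_eq_left.1 e)) hc
  rw [← mul_assoc, T.t_sq, one_mul] at this
  exact hD a ha.1 ha1 ((isConj_iff.2 ⟨w, rfl⟩ : IsConj S.t T.t).trans this)

theorem card_range_eq : Nat.card (img' S S').range = 8 := by
  have h1 := card_P_eq (S := S) (S' := S')
  obtain ⟨h32, -, -⟩ := h.shape hD
  rw [h32, h.card_D hD] at h1
  omega

/-- The image of `C_{Q_u}(t)` contains the image of every element of `C(t, u)`. -/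
theorem im_mem_range {c : G} (hc : c ∈ S.C) (hcu : c ∈ S'.C) : S.im c ∈ (img' S' S).range := by
  refine top_eight_normalizer (H := (img' S' S).range) ?_ (h.swap.card_range_eq (h.hD' hD)) ?_
  · rintro _ ⟨p, rfl⟩
    rw [← map_mul, show p * p = 1 from Subtype.ext (h.swap.elem p.2), map_one]
  · rintro _ ⟨p, rfl⟩
    refine ⟨⟨c * p * c⁻¹, S'.Q_conj hcu p.2.1, S.C.mul_mem (S.C.mul_mem hc p.2.2) (S.C.inv_mem hc)⟩, ?_⟩
    rw [img'_apply, img'_apply]
    exact S.im_conj hc p.2.2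

theorem im_sq {c : G} (hc : c ∈ S.C) (hcu : c ∈ S'.C) : S.im c * S.im c = 1 := by
  obtain ⟨p, hp⟩ := h.im_mem_range hD hc hcu
  rw [← hp, ← map_mul, show p * p = 1 from Subtype.ext (h.swap.elem p.2), map_one]

/-- No element of order `3` of `Sym(3)³` commutes with the image of `u`. -/
theorem eq_one_of_commute {s : Top} (hs : s ^ 3 = 1) (hcomm : s * S.im S'.t = S.im S'.t * s) : s = 1 := by
  obtain ⟨-, hPt, hY⟩ := h.shape hD
  obtain ⟨c, hc, rfl⟩ := S.exists_im s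
  have hu : S'.t * S'.t = 1 := S'.t_sq
  have hcu : c * S'.t * c⁻¹ ∈ S.C := mul_mem (mul_mem hc h.mem) (inv_mem hc)
  set y := S'.t * (c * S'.t * c⁻¹) with hy
  have hyQ : y ∈ S.Q := S.mem_Q.2 ⟨mul_mem h.mem hcu, by
    rw [hy, S.im_mul h.mem hcu, S.im_conj hc h.mem, hcomm, mul_inv_cancel_right,
      ← S.im_mul h.mem h.mem, hu, S.im_one]⟩
  have hyP : y ∈ P S S' := by
    rw [← hPt]
    refine ⟨hyQ, ?_⟩
    have hinv : y⁻¹ = c * S'.t * c⁻¹ * S'.t := by
      rw [hy]; simp [mul_assoc, S'.t_inv]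
    have : y * S'.t * y⁻¹ = y * y * S'.t := by
      calc y * S'.t * y⁻¹ = y * (S'.t * (c * S'.t * c⁻¹) * S'.t) := by rw [hinv]; group
        _ = y * y * S'.t := by rw [hy]; group
    rw [this]
    exact (S.extra.sq_cases hyQ).imp (fun e => by rw [e, one_mul]) fun e => by rw [e]
  have heq : S'.t * y = c * S'.t * c⁻¹ := by rw [hy, ← mul_assoc, hu, one_mul]
  have conclude : ∀ r ∈ S.C, r ∈ S'.C → ∀ n : ℕ, S.im r = S.im c ^ n → (2 * n) % 3 ≠ 0 → S.im c = 1 := by
    intro r hr hr' n hn h2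
    have h1 := h.im_sq hD hr hr'
    rw [hn, ← pow_add, show n + n = 3 * ((2 * n) / 3) + (2 * n) % 3 by omega, pow_add, pow_mul, hs,
      one_pow, one_mul] at h1
    have h3 : (2 * n) % 3 = 1 ∨ (2 * n) % 3 = 2 := by omega
    rcases h3 with e | e <;> rw [e] at h1
    · simpa using h1
    · calc S.im c = S.im c ^ 3 := by rw [pow_succ, h1, one_mul]
        _ = 1 := hs
  rcases hY y hyP with ⟨⟨q, hq⟩, e⟩ | ⟨⟨q, hq⟩, e⟩
  · replace e : q * S'.t * q⁻¹ = c * S'.t * c⁻¹ := e.trans heq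
    refine conclude (q⁻¹ * c) (mul_mem (inv_mem (S.Q_le hq)) hc) (S'.mem_C.2 ?_) 1 ?_ (by norm_num)
    · calc q⁻¹ * c * S'.t = q⁻¹ * (c * S'.t * c⁻¹) * c := by group
        _ = _ := by rw [← e]; group
    · rw [S.im_mul (inv_mem (S.Q_le hq)) hc, S.im_inv (S.Q_le hq), S.im_Q hq, inv_one, one_mul, pow_one]
  · replace e : q * S'.t * q⁻¹ = S.t * (c * S'.t * c⁻¹) := by
      refine e.trans ?_
      rw [← mul_assoc, S.mem_C.1 h.mem, mul_assoc, heq]
    have e1 : c * S'.t * c⁻¹ = S.t * (q * S'.t * q⁻¹) := by rw [e, ← mul_assoc, S.t_sq, one_mul]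
    have hct : ∀ z : G, z ∈ S.C → ∀ x, z * (S.t * x) * z⁻¹ = S.t * (z * x * z⁻¹) := fun z hz x => by
      rw [← mul_assoc z, S.mem_C.1 hz]; group
    set q' := c * q * c⁻¹ with hq'
    have hq'Q : q' ∈ S.Q := S.Q_conj hc hq
    have e2 : (c * c) * S'.t * (c * c)⁻¹ = (q' * q) * S'.t * (q' * q)⁻¹ := by
      calc (c * c) * S'.t * (c * c)⁻¹ = c * (c * S'.t * c⁻¹) * c⁻¹ := by group
        _ = S.t * (c * (q * S'.t * q⁻¹) * c⁻¹) := by rw [e1, hct c hc]
        _ = S.t * (q' * (c * S'.t * c⁻¹) * q'⁻¹) := by rw [hq']; group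
        _ = S.t * (S.t * (q' * (q * S'.t * q⁻¹) * q'⁻¹)) := by rw [e1, hct q' (S.Q_le hq'Q)]
        _ = _ := by rw [← mul_assoc S.t, S.t_sq, one_mul]; group
    have hqq := mul_mem hq'Q hq
    refine conclude ((q' * q)⁻¹ * (c * c)) (mul_mem (inv_mem (S.Q_le hqq)) (mul_mem hc hc)) (S'.mem_C.2 ?_)
      2 ?_ (by norm_num)
    · calc (q' * q)⁻¹ * (c * c) * S'.t = (q' * q)⁻¹ * ((c * c) * S'.t * (c * c)⁻¹) * (c * c) := by group
        _ = _ := by rw [e2]; group
    · rw [S.im_mul (inv_mem (S.Q_le hqq)) (mul_mem hc hc), S.im_inv (S.Q_le hqq), S.im_Q hqq, inv_one,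
        one_mul, S.im_mul hc hc, pow_two]

/-- All three components of the image of `u` are nontrivial. -/
theorem support : (S.im S'.t).1 ≠ 1 ∧ (S.im S'.t).2.1 ≠ 1 ∧ (S.im S'.t).2.2 ≠ 1 := by
  obtain ⟨r, hr, hr1⟩ := s3_rot
  refine ⟨fun e => ?_, fun e => ?_, fun e => ?_⟩
  · exact hr1 (congrArg Prod.fst (h.eq_one_of_commute hD (s := (r, 1, 1))
      (by simp [Prod.pow_def, hr]) (by simp [Prod.ext_iff, e])))
  · exact hr1 (congrArg (fun x : Top => x.2.1) (h.eq_one_of_commute hD (s := (1, r, 1))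
      (by simp [Prod.pow_def, hr]) (by simp [Prod.ext_iff, e])))
  · exact hr1 (congrArg (fun x : Top => x.2.2) (h.eq_one_of_commute hD (s := (1, 1, r))
      (by simp [Prod.pow_def, hr]) (by simp [Prod.ext_iff, e])))

end Outer

/-- If `t` is not isolated in `C(t)`, it has a second conjugate in `Q`. -/
theorem exists_conj_mem_Q (hex : ∃ g : G, g * S.t * g⁻¹ ∈ S.C ∧ g * S.t * g⁻¹ ≠ S.t) :
    ∃ g : G, g * S.t * g⁻¹ ∈ S.Q ∧ g * S.t * g⁻¹ ≠ S.t := by
  by_contra hno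
  push Not at hno
  have hout : ∀ g : G, g * S.t * g⁻¹ ∈ S.C → g * S.t * g⁻¹ ∉ S.Q →
      Outer S (S.conj g) ∧ ∀ d ∈ D S (S.conj g), d ≠ 1 → ¬ IsConj S.t d := by
    intro g hC hQ
    have ho : Outer S (S.conj g) := ⟨isConj_iff.2 ⟨g, rfl⟩, hC, hQ⟩
    refine ⟨ho, fun d hd _ hdc => ?_⟩
    obtain ⟨k, hk⟩ := isConj_iff.1 hdc
    have := hno k (hk ▸ hd.1)
    rw [hk] at this
    exact ho.swap.out (this ▸ hd.2)
  obtain ⟨g, hgC, hgne⟩ := hex
  obtain ⟨h, hD⟩ := hout g hgC fun hm => hgne (hno g hm)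
  set S' := S.conj g
  obtain ⟨a, b, c, ⟨ha, ha1⟩, ⟨hb, hb1⟩, ⟨hc, hc1⟩, hH⟩ := top_eight
    (H := (Outer.img' S' S).range) (by
      rintro _ ⟨p, rfl⟩
      rw [← map_mul, show p * p = 1 from Subtype.ext (h.swap.elem p.2), map_one])
    (h.swap.card_range_eq (h.hD' hD))
  have hu : S.im S'.t = (a, b, c) := by
    obtain ⟨u1, u2, u3⟩ := h.support hD
    obtain ⟨e1, e2, e3⟩ := (hH _).1 (h.im_mem_range hD h.mem (S'.Q_le S'.t_mem))
    exact Prod.ext (e1.resolve_left u1) (Prod.ext (e2.resolve_left u2) (e3.resolve_left u3))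
  obtain ⟨y, hy⟩ := (hH (a, 1, 1)).2 ⟨Or.inr rfl, Or.inl rfl, Or.inl rfl⟩
  rw [Outer.img'_apply] at hy
  obtain ⟨-, -, hY⟩ := h.swap.shape (h.hD' hD)
  -- a conjugate of `t` whose image is not of full support
  obtain ⟨x, hx, hxc, hxs⟩ : ∃ x ∈ S.C, IsConj S.t x ∧ S.im x ≠ 1 ∧
      ((S.im x).1 = 1 ∨ (S.im x).2.1 = 1 ∨ (S.im x).2.2 = 1) := by
    rcases hY y y.2 with ⟨⟨q, hq⟩, e⟩ | ⟨⟨q, hq⟩, e⟩
    · refine ⟨S.t * y, mul_mem S.t_mem_C y.2.2, isConj_iff.2 ⟨q, e⟩, ?_, Or.inr (Or.inl ?_)⟩ <;>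
        rw [S.im_mul S.t_mem_C y.2.2, S.im_Q S.t_mem, one_mul, hy]
      simp [ha1]
    · refine ⟨S.t * (S'.t * y), mul_mem S.t_mem_C (mul_mem h.mem y.2.2), isConj_iff.2 ⟨q, e⟩, ?_, Or.inl ?_⟩ <;>
        rw [S.im_mul S.t_mem_C (mul_mem h.mem y.2.2), S.im_mul h.mem y.2.2, S.im_Q S.t_mem, one_mul, hy, hu]
      · simp [ha, hb1]
      · exact ha
  obtain ⟨k, rfl⟩ := isConj_iff.1 hxc
  obtain ⟨h', hD'⟩ := hout k hx fun hm => hxs.1 (S.im_Q hm)
  obtain ⟨v1, v2, v3⟩ := h'.support hD'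
  rcases hxs.2 with e | e | e
  exacts [v1 e, v2 e, v3 e]

end Setup

end CfsgLib.OmegaPlusEight
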