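import Cfsg.Agent.Lib.OmegaPlusEight.Opposite
import Cfsg.Agent.Lib.OmegaPlusEight.EndTables

/-!
A subgroup containing the centraliser and the opposite involution, of odd index over the centraliser,
in which four pairs of involutions are distinguished by a class function, is the whole group.
-/

set_option autoImplicit false
set_option maxRecDepth 8000
set_option linter.unusedSectionVars false
set_option linter.style.haveILetI false

namespace CfsgLib.OmegaPlusEight

open Subgroup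

open Model

/-- The code of a word in the seven generators of `C(t)`. -/
def wordVal (l : List (Fin 7)) : ℕ :=
  l.foldr (fun i m => Model.mul ([1536, 9216, 55296, 2560, 15360, 92160, 128].getD i.val 0) m) 0

namespace Std

variable {G : Type*} [Group G] [Finite G] {S : Setup G}

section Generators

variable (F : Std S) (H : Subgroup G)
  (hgen : ∀ i : Fin 7, F.el ([1536, 9216, 55296, 2560, 15360, 92160, 128].getD i.val 0) ∈ H)
include hgen

theorem wordVal_mem (l : List (Fin 7)) : wordVal l < 110592 ∧ F.el (wordVal l) ∈ H := by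
  induction l with
  | nil => exact ⟨by norm_num [wordVal], by simp [wordVal, F.el_zero]⟩
  | cons i l ih =>
    have hlt : ∀ i : Fin 7, [1536, 9216, 55296, 2560, 15360, 92160, 128].getD i.val 0 < 110592 := by decide
    have e : wordVal (i :: l) =
        Model.mul ([1536, 9216, 55296, 2560, 15360, 92160, 128].getD i.val 0) (wordVal l) := rfl
    rw [e, F.el_mul (hlt i) ih.1]
    exact ⟨Frame.mul_lt (hlt i) ih.1, mul_mem (hgen i) ih.2⟩

theorem genCode_mem {g : ℕ} (hg : g ∈ genWords.map Prod.fst) : F.el g ∈ H := by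
  obtain ⟨p, hp, rfl⟩ := List.mem_map.1 hg
  rw [← (genWords_spec p hp).2]
  exact (F.wordVal_mem H hgen p.2).2

theorem el_Q_mem {n : ℕ} (hn : n < 512) : F.el n ∈ H := by
  obtain ⟨e, hb⟩ := bitsQ_spec n hn
  rw [← e]
  have hsub : ∀ b ∈ [1, 2, 4, 8, 16, 32, 64, 128, 256], b ∈ genWords.map Prod.fst ∧ b < 110592 := by decide
  have key : ∀ l : List ℕ, (∀ b ∈ l, b ∈ [1, 2, 4, 8, 16, 32, 64, 128, 256]) →
      l.foldr Model.mul 0 < 110592 ∧ F.el (l.foldr Model.mul 0) ∈ H := by
    intro l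
    induction l with
    | nil => exact fun _ => ⟨by norm_num, by simp [F.el_zero]⟩
    | cons b l ih =>
      intro hl
      obtain ⟨h1, h2⟩ := ih fun c hc => hl c (List.mem_cons_of_mem _ hc)
      obtain ⟨hb1, hb2⟩ := hsub b (hl b (List.mem_cons_self ..))
      rw [List.foldr_cons, F.el_mul hb2 h1]
      exact ⟨Frame.mul_lt hb2 h1, mul_mem (F.genCode_mem H hgen hb1) h2⟩
  exact (key _ hb).2

theorem gen_k_mem (s : Top) : F.k s ∈ H := by
  have hrot : ∀ i : Fin 3, F.k (ι i rot) ∈ H := by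
    intro i
    have e : ∀ i : Fin 3, dec ([1, 6, 36].getD i.val 0) = ι i rot ∧
        512 * [1, 6, 36].getD i.val 0 ∈ genWords.map Prod.fst := by decide +kernel
    rw [← (e i).1, ← F.el_k]
    exact F.genCode_mem H hgen (e i).2
  have hsig : ∀ i : Fin 3, F.k (ι i sig) ∈ H := by
    intro i
    have e : ∀ i : Fin 3, Frame.sigma i ∈ genWords.map Prod.fst := by decide +kernel
    rw [← F.el_sigma]
    exact F.genCode_mem H hgen (e i)
  let K : Subgroup Top := H.comap F.k
  have hi : ∀ (i : Fin 3) (a : S3), ι i a ∈ K := by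
    intro i a
    have e : ∀ a : S3, a = 1 ∨ a = rot ∨ a = rot * rot ∨ a = sig ∨ a = rot * sig ∨ a = rot * rot * sig := by
      decide
    have hm : ∀ (i : Fin 3) (a b : S3), ι i (a * b) = ι i a * ι i b := by decide
    have h1 : ι i 1 = (1 : Top) := by revert i; decide
    rcases e a with rfl | rfl | rfl | rfl | rfl | rfl <;> (try simp only [hm, h1])
    · exact one_mem _
    · exact hrot i
    · exact mul_mem (hrot i) (hrot i)
    · exact hsig i
    · exact mul_mem (hrot i) (hsig i)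
    · exact mul_mem (mul_mem (hrot i) (hrot i)) (hsig i)
  rw [X0_decomp s]
  exact mul_mem (mul_mem (hi 0 _) (hi 1 _)) (hi 2 _)

theorem gen_el_mem (m : ℕ) : F.el m ∈ H := by
  have hn : m % 512 < 512 := Nat.mod_lt _ (by norm_num)
  have h := F.el_Q_mem H hgen hn
  rw [F.el_of_lt hn] at h
  exact mul_mem h (F.gen_k_mem H hgen _)

theorem gen_C_le : S.C ≤ H := fun c hc => by
  obtain ⟨m, -, rfl⟩ := F.el_surj hc
  exact F.gen_el_mem H hgen m

end Generators

/-- What the model of `Ω⁺(8,2)` supplies. -/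
structure Ambient (F : Std S) where
  /-- the opposite involution -/
  y : G
  opp : F.Opp y
  /-- the subgroup -/
  H : Subgroup G
  y_mem : y ∈ H
  gen_mem : ∀ i : Fin 7, F.el ([1536, 9216, 55296, 2560, 15360, 92160, 128].getD i.val 0) ∈ H
  odd : ¬ 2 ∣ (S.C.subgroupOf H).index
  /-- a class function -/
  inv : G → ℕ
  inv_conj : ∀ h ∈ H, ∀ v ∈ H, inv (h * v * h⁻¹) = inv v
  inv_cert : ∀ c ∈ Model.certs, inv (F.el (wordVal c.2.2.1)) ≠ inv (F.el (wordVal c.2.2.2))

namespace Ambient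

variable {F : Std S} (A : F.Ambient)

theorem el_mem_H (m : ℕ) : F.el m ∈ A.H := F.gen_el_mem A.H A.gen_mem m

theorem C_le : S.C ≤ A.H := F.gen_C_le A.H A.gen_mem

theorem t_mem : S.t ∈ A.H := A.C_le S.t_mem_C

/-- `x y x` -/
def flip : G := F.ex * A.y * F.ex

theorem flip_mem : A.flip ∈ A.H :=
  mul_mem (mul_mem (A.el_mem_H _) A.y_mem) (A.el_mem_H _)

theorem flip_sq : A.flip * A.flip = 1 := by
  obtain ⟨b', P⟩ := F.exists_plane A.opp 0
  obtain ⟨-, -, -, -, hx, hy⟩ := P.sq
  show F.ex * A.y * F.ex * (F.ex * A.y * F.ex) = 1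
  calc F.ex * A.y * F.ex * (F.ex * A.y * F.ex) = F.ex * A.y * (F.ex * F.ex) * A.y * F.ex := by group
    _ = F.ex * (A.y * A.y) * F.ex := by rw [hx]; group
    _ = 1 := by rw [hy, mul_one, hx]

theorem flip_a (i : Fin 3) : A.flip * F.ea i * A.flip = F.eb i := by
  obtain ⟨b', P⟩ := F.exists_plane A.opp i
  obtain ⟨ha, -, hb, -, hx, hy⟩ := P.sq
  have e1 : F.ex * F.ea i * F.ex = F.ea i * F.eb i := by
    calc F.ex * F.ea i * F.ex = F.ea i * F.ea i * (F.ex * F.ea i * F.ex) := by rw [ha, one_mul]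
      _ = F.ea i * (F.ea i * F.ex * F.ea i * F.ex) := by group
      _ = _ := by rw [P.r_ax]
  have e2 : A.y * F.eb i * A.y = F.eb i * F.ea i := by
    calc A.y * F.eb i * A.y = F.eb i * F.eb i * (A.y * F.eb i * A.y) := by rw [hb, one_mul]
      _ = F.eb i * (F.eb i * A.y * F.eb i * A.y) := by group
      _ = _ := by rw [P.r_by]
  show F.ex * A.y * F.ex * F.ea i * (F.ex * A.y * F.ex) = F.eb i
  calc F.ex * A.y * F.ex * F.ea i * (F.ex * A.y * F.ex)
      = F.ex * A.y * (F.ex * F.ea i * F.ex) * A.y * F.ex := by group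
    _ = F.ex * A.y * (F.ea i * F.eb i) * A.y * F.ex := by rw [e1]
    _ = F.ex * (A.y * F.ea i) * F.eb i * A.y * F.ex := by group
    _ = F.ex * F.ea i * (A.y * F.eb i * A.y) * F.ex := by rw [← P.ay]; group
    _ = F.ex * F.ea i * (F.eb i * F.ea i) * F.ex := by rw [e2]
    _ = F.ex * (F.ea i * F.ea i) * F.eb i * F.ex := by rw [← P.ab]; group
    _ = F.ex * (F.eb i * F.ex) := by rw [ha]; group
    _ = F.ex * F.ex * F.eb i := by rw [P.bx]; group
    _ = _ := by rw [hx, one_mul]

theorem flip_t : A.flip * S.t * A.flip = F.q := by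
  obtain ⟨b', P⟩ := F.exists_plane A.opp 0
  obtain ⟨-, -, -, -, hx, -⟩ := P.sq
  have hxC : F.ex * S.t = S.t * F.ex := S.mem_C.1 (F.el_mem 128)
  have e1 : F.ex * F.q * F.ex = F.q * S.t := by
    have k : Model.mul (Model.mul 128 1) 128 = Model.mul 1 256 := by decide +kernel
    have h : F.el (Model.mul (Model.mul 128 1) 128) = F.el (Model.mul 1 256) := by rw [k]
    rw [F.el_mul (Frame.mul_lt (by norm_num) (by norm_num)) (by norm_num), F.el_mul (by norm_num) (by norm_num),
      F.el_mul (by norm_num) (by norm_num), F.el_one, F.el_t] at h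
    exact h
  show F.ex * A.y * F.ex * S.t * (F.ex * A.y * F.ex) = F.q
  calc F.ex * A.y * F.ex * S.t * (F.ex * A.y * F.ex)
      = F.ex * A.y * (F.ex * S.t) * F.ex * A.y * F.ex := by group
    _ = F.ex * A.y * S.t * (F.ex * F.ex) * A.y * F.ex := by rw [hxC]; group
    _ = F.ex * (A.y * S.t * A.y) * F.ex := by rw [hx]; group
    _ = F.ex * F.q * (S.t * F.ex) := by rw [A.opp.moveT]; group
    _ = F.ex * F.q * F.ex * S.t := by rw [← hxC]; group
    _ = F.q := by rw [e1, mul_assoc, S.t_sq, mul_one]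

/-- conjugacy within the subgroup -/
def ConjH (u v : G) : Prop := ∃ h ∈ A.H, h * u * h⁻¹ = v

theorem ConjH.trans {u v w : G} (h1 : A.ConjH u v) (h2 : A.ConjH v w) : A.ConjH u w := by
  obtain ⟨a, ha, rfl⟩ := h1
  obtain ⟨b, hb, rfl⟩ := h2
  exact ⟨b * a, mul_mem hb ha, by group⟩

theorem ConjH.symm {u v : G} (h : A.ConjH u v) : A.ConjH v u := by
  obtain ⟨a, ha, rfl⟩ := h
  exact ⟨a⁻¹, inv_mem ha, by group⟩

theorem conjH_code {m c n : ℕ} (hm : m < 110592) (hc : c < 110592) (hn : n < 110592)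
    (h : Model.mul m c = Model.mul c n) : A.ConjH (F.el n) (F.el m) := by
  refine ⟨F.el c, A.el_mem_H c, ?_⟩
  rw [← F.el_mul hc hn, ← h, F.el_mul hm hc]; group

theorem conjH_flip {u v : G} (h : A.flip * u * A.flip = v) : A.ConjH u v :=
  ⟨A.flip, A.flip_mem, by rw [inv_eq_of_mul_eq_one_right A.flip_sq]; exact h⟩

theorem root_conjH {m : ℕ} (hm : isRoot m = true) : A.ConjH S.t (F.el m) := by
  have hQ : ∀ {n : ℕ}, n ∈ rootsQ → A.ConjH S.t (F.el n) := by
    intro n hn
    rcases qWit_cover n hn with rfl | h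
    · exact ⟨1, one_mem _, by rw [F.el_t]; group⟩
    · obtain ⟨p, hp, rfl⟩ := List.mem_map.1 h
      obtain ⟨h1, h2, h3⟩ := qWit_spec p hp
      refine ConjH.trans A (A.conjH_flip A.flip_t) ?_
      rw [← F.el_one]
      exact A.conjH_code h1 h2 (by norm_num) h3
  rcases List.mem_append.1 (isRoot_iff.1 hm) with h | h
  · exact hQ h
  · obtain ⟨p, hp, rfl⟩ := List.mem_map.1 h
    obtain ⟨h1, h2, -, h3, h4⟩ := rootsOut_spec p hp
    have hb : [64, 32, 8].getD 0 0 ∈ rootsQ ∧ [64, 32, 8].getD 1 0 ∈ rootsQ ∧ [64, 32, 8].getD 2 0 ∈ rootsQ := by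
      decide
    have hi : ∀ i : Fin 3, A.ConjH S.t (F.ea i) := by
      intro i
      refine ConjH.trans A ?_ (ConjH.symm A (A.conjH_flip (A.flip_a i)))
      fin_cases i
      · exact hQ hb.1
      · exact hQ hb.2.1
      · exact hQ hb.2.2
    refine ConjH.trans A ?_ (A.conjH_code h1 h2 (by rcases h3 with e | e | e <;> rw [e] <;> norm_num) h4)
    rcases h3 with e | e | e <;> rw [e]
    · exact hi 0
    · exact hi 1
    · exact hi 2

/-- Conjugates of `t` in `H` are conjugate in `H`, and `C ≤ H`. -/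
theorem strong {g : G} (hg : g * S.t * g⁻¹ ∈ A.H) : g ∈ A.H := by
  classical
  haveI : Fact (Nat.Prime 2) := ⟨Nat.prime_two⟩
  let K : Subgroup A.H := S.C.subgroupOf A.H
  let u : A.H := ⟨g * S.t * g⁻¹, hg⟩
  have hu : u * u = 1 := Subtype.ext (by
    show g * S.t * g⁻¹ * (g * S.t * g⁻¹) = 1
    calc g * S.t * g⁻¹ * (g * S.t * g⁻¹) = g * (S.t * S.t) * g⁻¹ := by group
      _ = 1 := by rw [S.t_sq]; group)
  haveI : Fintype (A.H ⧸ K) := Fintype.ofFinite _
  let σ : Equiv.Perm (A.H ⧸ K) := MulAction.toPermHom A.H (A.H ⧸ K) u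
  have hσ : σ ^ 2 ^ 1 = 1 := by
    rw [pow_one, pow_two, ← map_mul, hu, map_one]
  have hα : ¬ 2 ∣ Fintype.card (A.H ⧸ K) := by rw [← Nat.card_eq_fintype_card]; exact A.odd
  obtain ⟨x, hx⟩ := Equiv.Perm.exists_fixed_point_of_prime hα hσ
  obtain ⟨h, rfl⟩ := QuotientGroup.mk_surjective x
  have hh : (u • h)⁻¹ * h ∈ K := QuotientGroup.eq.1 hx
  have hC : (h : G)⁻¹ * (g * S.t * g⁻¹) * h ∈ S.C := by
    have := inv_mem hh
    simpa [K, u, mem_subgroupOf, mul_assoc, smul_eq_mul] using this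
  obtain ⟨m, hm, e⟩ := F.el_surj hC
  have hroot : isRoot m = true := (F.conj_el hm).1 (isConj_iff.2 ⟨(h : G)⁻¹ * g, by rw [e]; group⟩)
  obtain ⟨a, ha, ea⟩ := A.root_conjH hroot
  have hc : a⁻¹ * (h : G)⁻¹ * g ∈ S.C := by
    refine S.mem_C.2 ?_
    rw [e] at ea
    calc a⁻¹ * (h : G)⁻¹ * g * S.t = a⁻¹ * ((h : G)⁻¹ * (g * S.t * g⁻¹) * h) * (h : G)⁻¹ * g := by group
      _ = a⁻¹ * (a * S.t * a⁻¹) * (h : G)⁻¹ * g := by rw [ea]
      _ = _ := by group
  have := mul_mem (mul_mem h.2 ha) (A.C_le hc)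
  convert this using 1
  group

/-- the centraliser of `v` lies in `H` -/
def Good (v : G) : Prop := ∀ g : G, g * v = v * g → g ∈ A.H

theorem good_t : A.Good S.t := fun g hg => A.strong (by
  rw [hg, mul_assoc, mul_inv_cancel, mul_one]; exact A.t_mem)

theorem good_conj {u v : G} (hu : A.Good u) (h : A.ConjH u v) : A.Good v := by
  obtain ⟨a, ha, rfl⟩ := h
  intro g hg
  have := hu (a⁻¹ * g * a) (by
    calc a⁻¹ * g * a * u = a⁻¹ * (g * (a * u * a⁻¹)) * a := by group
      _ = a⁻¹ * (a * u * a⁻¹ * g) * a := by rw [hg]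
      _ = u * (a⁻¹ * g * a) := by group)
  convert mul_mem (mul_mem ha this) (inv_mem ha) using 1
  group

theorem good_of_root {v : G} (hv : v ∈ A.H) (hc : IsConj S.t v) : A.Good v := by
  obtain ⟨g, rfl⟩ := isConj_iff.1 hc
  exact A.good_conj A.good_t ⟨g, A.strong hv, rfl⟩

theorem flip_pow {a b : G} (ha : a * a = 1) (hb : b * b = 1) (n : ℕ) :
    a * (b * a) ^ n = ((b * a) ^ n)⁻¹ * a := by
  induction n with
  | zero => simp
  | succ n ih =>
    rw [pow_succ, ← mul_assoc, ih, ← pow_succ, pow_succ', mul_inv_rev ((b * a)), mul_inv_rev b,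
      inv_eq_of_mul_eq_one_right ha, inv_eq_of_mul_eq_one_right hb]
    group

/-- Two involutions with product of odd order are conjugate in the group they generate. -/
theorem exists_conj_of_odd {a b : G} (ha : a * a = 1) (hb : b * b = 1) (hodd : Odd (orderOf (b * a))) :
    ∃ j : ℕ, (b * a) ^ j * a * ((b * a) ^ j)⁻¹ = b := by
  obtain ⟨k, hk⟩ := hodd
  refine ⟨k + 1, ?_⟩
  have e2 : (b * a) ^ (k + 1) * (b * a) ^ (k + 1) = b * a := by
    rw [← pow_add, show k + 1 + (k + 1) = orderOf (b * a) + 1 by omega, pow_succ, pow_orderOf_eq_one, one_mul]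
  have hflip : a * ((b * a) ^ (k + 1))⁻¹ = (b * a) ^ (k + 1) * a := by
    calc a * ((b * a) ^ (k + 1))⁻¹
        = (b * a) ^ (k + 1) * (((b * a) ^ (k + 1))⁻¹ * a) * ((b * a) ^ (k + 1))⁻¹ := by group
      _ = _ := by rw [← flip_pow ha hb]; group
  calc (b * a) ^ (k + 1) * a * ((b * a) ^ (k + 1))⁻¹
      = (b * a) ^ (k + 1) * (a * ((b * a) ^ (k + 1))⁻¹) := by group
    _ = (b * a) ^ (k + 1) * (b * a) ^ (k + 1) * a := by rw [hflip, ← mul_assoc]
    _ = b := by rw [e2, mul_assoc, ha, mul_one]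

/-- The central involution of a dihedral group of twice even order. -/
theorem exists_central {a b : G} (ha : a * a = 1) (hb : b * b = 1) (heven : Even (orderOf (b * a))) :
    ∃ v : G, v ≠ 1 ∧ v * v = 1 ∧ v * a = a * v ∧ v * b = b * v ∧
      ∃ j : ℕ, v * a = (b * a) ^ j * a * ((b * a) ^ j)⁻¹ ∨ v * a = (b * a) ^ j * b * ((b * a) ^ j)⁻¹ := by
  obtain ⟨k, hk⟩ := heven
  have hpos := orderOf_pos (b * a)
  have hvv : (b * a) ^ k * (b * a) ^ k = 1 := by rw [← pow_add, ← hk, pow_orderOf_eq_one]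
  have hva : (b * a) ^ k * a = a * (b * a) ^ k := by
    rw [flip_pow ha hb, inv_eq_of_mul_eq_one_right hvv]
  refine ⟨(b * a) ^ k, pow_ne_one_of_lt_orderOf (by omega) (by omega), hvv, hva, ?_, ?_⟩
  · have e : b = b * a * a := by rw [mul_assoc, ha, mul_one]
    calc (b * a) ^ k * b = (b * a) ^ k * (b * a) * a := by rw [mul_assoc _ (b * a), ← e]
      _ = b * a * (b * a) ^ k * a := by rw [← pow_succ, pow_succ']
      _ = b * a * (a * (b * a) ^ k) := by rw [mul_assoc, hva]
      _ = b * (b * a) ^ k := by rw [← mul_assoc, ← e]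
  · obtain ⟨j, rfl | rfl⟩ := Nat.even_or_odd' k
    · refine ⟨j, Or.inl ?_⟩
      calc (b * a) ^ (2 * j) * a = (b * a) ^ j * (((b * a) ^ j * a) * (b * a) ^ j) * ((b * a) ^ j)⁻¹ := by
            rw [two_mul, pow_add]; group
        _ = (b * a) ^ j * a * ((b * a) ^ j)⁻¹ := by rw [mul_assoc _ a, flip_pow ha hb]; group
    · refine ⟨j, Or.inr ?_⟩
      have e : b * a = b * a := rfl
      calc (b * a) ^ (2 * j + 1) * a = (b * a) ^ j * ((b * a) * (b * a) ^ j) * a := by
            rw [← pow_succ', ← pow_add]; congr 2; omega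
        _ = (b * a) ^ j * b * (a * (b * a) ^ j) * a := by simp only [mul_assoc]
        _ = (b * a) ^ j * b * ((b * a) ^ j)⁻¹ * (a * a) := by rw [flip_pow ha hb]; group
        _ = _ := by rw [ha, mul_one]

theorem el_invol {n : ℕ} (hn : n < 110592) (h : F.el n * F.el n = 1) : Model.mul n n = 0 := by
  refine F.el_inj (Frame.mul_lt hn hn) (by norm_num) ?_
  rw [F.el_mul hn hn, h, F.el_zero]

theorem not_root_of_conjH {m : ℕ} (hm : m < 110592) (hr : isRoot m = false) {v : G} (h : A.ConjH (F.el m) v) :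
    ¬ IsConj S.t v := by
  obtain ⟨a, -, rfl⟩ := h
  intro hc
  have := (F.conj_el hm).1 (hc.trans (isConj_iff.2 ⟨a⁻¹, by group⟩))
  rw [hr] at this
  exact Bool.noConfusion this

/-- The centraliser of a certified involution lies in `H`. -/
theorem good_cert {c : ℕ × ℕ × List (Fin 7) × List (Fin 7)} (hc : c ∈ Model.certs) : A.Good (F.el c.1) := by
  obtain ⟨w, x, lt, lx⟩ := c
  obtain ⟨hw, hx, -, -, hxr, hwx, htw, hrt, hrx, et, ex', hbad⟩ := certs_spec _ hc
  dsimp only at hw hx hxr hwx htw hrt hrx et ex' hbad ⊢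
  have hw' : w < 110592 := by omega
  have hx' : x < 110592 := by omega
  have h256 : (256 : ℕ) < 110592 := by norm_num
  have hne := A.inv_cert _ hc
  simp only [wordVal] at hne
  rw [et, ex', F.el_mul h256 hw', F.el_mul hx' hw', F.el_t] at hne
  have hWX : F.el w * F.el x = F.el x * F.el w := by rw [← F.el_mul hw' hx', hwx, F.el_mul hx' hw']
  have hTW : S.t * F.el w = F.el w * S.t := by rw [← F.el_t, ← F.el_mul h256 hw', htw, F.el_mul hw' h256]
  set W := F.el w with hW
  obtain ⟨h0, hh0, e0⟩ := A.root_conjH hxr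
  intro g hg
  by_contra hgH
  have hXX : F.el x * F.el x = 1 := Std.sq_of_conj (F.conj_of_isRoot hxr)
  -- a conjugate of the second root outside `H`
  have hout : g * F.el x * g⁻¹ ∉ A.H := by
    intro h
    rw [← e0, show g * (h0 * S.t * h0⁻¹) * g⁻¹ = g * h0 * S.t * (g * h0)⁻¹ by group] at h
    exact hgH (by simpa using mul_mem (A.strong h) (inv_mem hh0))
  set X := g * F.el x * g⁻¹ with hX
  have hXW : X * W = W * X := by
    have hg' : g⁻¹ * W = W * g⁻¹ := (Commute.inv_left (show Commute g W from hg)).eq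
    calc X * W = g * F.el x * (g⁻¹ * W) := by rw [hX]; group
      _ = g * (F.el x * W) * g⁻¹ := by rw [hg']; group
      _ = g * W * F.el x * g⁻¹ := by rw [← hWX]; group
      _ = W * g * F.el x * g⁻¹ := by rw [hg]
      _ = W * X := by rw [hX]; group
  have hX2 : X * X = 1 := by
    rw [hX]
    calc g * F.el x * g⁻¹ * (g * F.el x * g⁻¹) = g * (F.el x * F.el x) * g⁻¹ := by group
      _ = 1 := by rw [hXX]; group
  have hpow : ∀ j : ℕ, (X * S.t) ^ j * W = W * (X * S.t) ^ j := fun j =>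
    ((show Commute X W from hXW).mul_left (show Commute S.t W from hTW)).pow_left j |>.eq
  -- elements of the centraliser moving `t` into `H` lie in `H`
  have hsep : ∀ a : G, a * W = W * a → a * S.t * a⁻¹ ≠ F.el x := by
    intro a ha e
    have haH : a ∈ A.H := A.strong (e ▸ A.el_mem_H x)
    refine hne ?_
    rw [← A.inv_conj a haH (S.t * W) (mul_mem A.t_mem (A.el_mem_H w))]
    congr 1
    calc a * (S.t * W) * a⁻¹ = a * S.t * a⁻¹ * (a * W * a⁻¹) := by group
      _ = F.el x * W := by rw [e, ha]; group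
  rcases Nat.even_or_odd (orderOf (X * S.t)) with heven | hodd
  swap
  · obtain ⟨j, hj⟩ := exists_conj_of_odd S.t_sq hX2 hodd
    refine hsep (g⁻¹ * (X * S.t) ^ j) ?_ ?_
    · rw [mul_assoc, hpow, ← mul_assoc, (Commute.inv_left (show Commute g W from hg)).eq, mul_assoc]
    · calc g⁻¹ * (X * S.t) ^ j * S.t * (g⁻¹ * (X * S.t) ^ j)⁻¹
          = g⁻¹ * ((X * S.t) ^ j * S.t * ((X * S.t) ^ j)⁻¹) * g := by group
        _ = F.el x := by rw [hj, hX]; group
  obtain ⟨v, hv1, hvv, hvt, hvX, j, hj⟩ := exists_central S.t_sq hX2 heven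
  have hvW : v * W = W * v := by
    have hvt' : v * S.t * W = W * (v * S.t) := by
      rcases hj with e | e <;> rw [e]
      · exact (((show Commute ((X * S.t) ^ j) W from hpow j).mul_left (show Commute S.t W from hTW)).mul_left
          (show Commute ((X * S.t) ^ j) W from hpow j).inv_left).eq
      · exact (((show Commute ((X * S.t) ^ j) W from hpow j).mul_left (show Commute X W from hXW)).mul_left
          (show Commute ((X * S.t) ^ j) W from hpow j).inv_left).eq
    calc v * W = v * S.t * (S.t * W) := by rw [← mul_assoc, mul_assoc v, S.t_sq, mul_one]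
      _ = v * S.t * W * S.t := by rw [hTW]; group
      _ = W * v := by rw [hvt', mul_assoc, mul_assoc v, S.t_sq, mul_one]
  have hvC : v ∈ S.C := S.mem_C.2 hvt
  have hvH : v ∈ A.H := A.C_le hvC
  have hvtH : v * S.t ∈ A.H := mul_mem hvH A.t_mem
  -- `v t` is conjugate within `H ∩ C(W)` to one of the two roots
  have hcl : ∃ a ∈ A.H, a * W = W * a ∧ (a * S.t * a⁻¹ = v * S.t ∨ a * F.el x * a⁻¹ = v * S.t) := by
    rcases hj with e | e
    · exact ⟨(X * S.t) ^ j, A.strong (e ▸ hvtH), hpow j, Or.inl e.symm⟩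
    · have e' : (X * S.t) ^ j * g * F.el x * ((X * S.t) ^ j * g)⁻¹ = v * S.t := by
        rw [e, hX]; group
      refine ⟨(X * S.t) ^ j * g, ?_, ?_, Or.inr e'⟩
      · have := A.strong (g := (X * S.t) ^ j * g * h0) (by
          rw [show (X * S.t) ^ j * g * h0 * S.t * ((X * S.t) ^ j * g * h0)⁻¹ =
            (X * S.t) ^ j * g * (h0 * S.t * h0⁻¹) * ((X * S.t) ^ j * g)⁻¹ by group, e0, e']
          exact hvtH)
        simpa using mul_mem this (inv_mem hh0)
      · rw [mul_assoc, hg, ← mul_assoc, hpow, mul_assoc]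
  have hvroot : IsConj S.t (v * S.t) := by
    obtain ⟨a, -, -, e | e⟩ := hcl
    · exact isConj_iff.2 ⟨a, e⟩
    · exact (F.conj_of_isRoot hxr).trans (isConj_iff.2 ⟨a, e⟩)
  obtain ⟨r, hr, er⟩ := F.el_surj (mul_mem hvC S.t_mem_C)
  have hrroot : isRoot r = true := (F.conj_el hr).1 (er ▸ hvroot)
  have hrW : Model.mul r w = Model.mul w r := by
    refine F.el_inj (Frame.mul_lt hr hw') (Frame.mul_lt hw' hr) ?_
    rw [F.el_mul hr hw', F.el_mul hw' hr, er, ← hW]
    exact ((show Commute v W from hvW).mul_left (show Commute S.t W from hTW)).eq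
  have hv_el : v = F.el (Model.mul 256 r) := by
    rw [F.el_mul h256 hr, F.el_t, er, ← mul_assoc, ← hvt, mul_assoc, S.t_sq, mul_one]
  rcases hbad r (isRoot_iff.1 hrroot) with rfl | h | h | h | h
  · apply hv1
    rw [hv_el, F.el_mul h256 h256, F.el_t, S.t_sq]
  · exact h hrW
  · exact hout (A.good_of_root hvH (hv_el ▸ F.conj_of_isRoot h) X hvX.symm)
  · refine hout (A.good_of_root (v := v * W) (mul_mem hvH (A.el_mem_H w)) ?_ X ?_)
    · rw [hv_el, hW, ← F.el_mul (Frame.mul_lt h256 hr) hw']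
      exact F.conj_of_isRoot h
    · exact ((show Commute X v from hvX.symm).mul_right (show Commute X W from hXW)).eq
  · have hroot : IsConj S.t (v * S.t * W) := by
      rw [← er, hW, ← F.el_mul hr hw']
      exact F.conj_of_isRoot h
    obtain ⟨a, ha, haW, e | e⟩ := hcl
    · refine A.not_root_of_conjH (Frame.mul_lt h256 hw') hrt ⟨a, ha, ?_⟩ hroot
      rw [F.el_mul h256 hw', F.el_t, ← hW, ← e]
      calc a * (S.t * W) * a⁻¹ = a * S.t * a⁻¹ * (a * W * a⁻¹) := by group
        _ = _ := by rw [haW]; group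
    · refine A.not_root_of_conjH (Frame.mul_lt hx' hw') hrx ⟨a, ha, ?_⟩ hroot
      rw [F.el_mul hx' hw', ← hW, ← e]
      calc a * (F.el x * W) * a⁻¹ = a * F.el x * a⁻¹ * (a * W * a⁻¹) := by group
        _ = _ := by rw [haW]; group

theorem good_Q {n : ℕ} (hn : n < 512) (hi : invol n = true) : A.Good (F.el n) := by
  rcases repWit_cover n hn hi with h | h
  · exact A.good_of_root (A.el_mem_H n) (F.conj_of_isRoot h)
  · obtain ⟨p, hp, rfl⟩ := List.mem_map.1 h
    obtain ⟨h1, h2, h3, h4⟩ := repWit_spec p hp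
    obtain ⟨c, hc, e⟩ := List.mem_map.1 (certs_cover _ h3)
    have hlt : p.2.2 < 110592 := by
      simp only [List.mem_cons, List.not_mem_nil, or_false] at h3
      omega
    exact A.good_conj (e ▸ A.good_cert hc) (A.conjH_code h1 h2 hlt h4)

/-- `t` and the reflections, with their images under `flip` -/
def flipPairs : List (ℕ × ℕ) := [(256, 1), (1536, 64), (9216, 32), (55296, 8)]

theorem flip_list : ∀ l : List (ℕ × ℕ), (∀ p ∈ l, p ∈ flipPairs) →
    (l.map Prod.fst).foldr Model.mul 0 < 110592 ∧ (l.map Prod.snd).foldr Model.mul 0 < 110592 ∧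
      A.flip * F.el ((l.map Prod.fst).foldr Model.mul 0) * A.flip =
        F.el ((l.map Prod.snd).foldr Model.mul 0) := by
  intro l
  induction l with
  | nil => exact fun _ => ⟨by norm_num, by norm_num, by simp [F.el_zero, A.flip_sq]⟩
  | cons p l ih =>
    intro hl
    obtain ⟨h1, h2, h3⟩ := ih fun q hq => hl q (List.mem_cons_of_mem _ hq)
    have hp : p.1 < 110592 ∧ p.2 < 110592 ∧ A.flip * F.el p.1 * A.flip = F.el p.2 := by
      have h := hl p (List.mem_cons_self ..)
      simp only [flipPairs, List.mem_cons, List.not_mem_nil, or_false] at h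
      rcases h with rfl | rfl | rfl | rfl
      · exact ⟨by norm_num, by norm_num, by rw [F.el_t, F.el_one]; exact A.flip_t⟩
      · exact ⟨by norm_num, by norm_num, A.flip_a 0⟩
      · exact ⟨by norm_num, by norm_num, A.flip_a 1⟩
      · exact ⟨by norm_num, by norm_num, A.flip_a 2⟩
    refine ⟨Frame.mul_lt hp.1 h1, Frame.mul_lt hp.2.1 h2, ?_⟩
    simp only [List.map_cons, List.foldr_cons]
    rw [F.el_mul hp.1 h1, F.el_mul hp.2.1 h2, ← hp.2.2, ← h3]
    calc A.flip * (F.el p.1 * F.el ((l.map Prod.fst).foldr Model.mul 0)) * A.flip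
        = A.flip * F.el p.1 * 1 * F.el ((l.map Prod.fst).foldr Model.mul 0) * A.flip := by group
      _ = _ := by rw [← A.flip_sq]; group

/-- The centralisers of all involutions of `H` lie in `H`. -/
theorem good_invol {v : G} (hv : v ∈ A.H) (h1 : v ≠ 1) (h2 : v * v = 1) : A.Good v := by
  -- reduce to `C(t)`
  have hCgood : ∀ m < 110592, F.el m ≠ 1 → F.el m * F.el m = 1 → A.Good (F.el m) := by
    intro m hm hne hsq
    have hs : Model.dec (m / 512) * Model.dec (m / 512) = 1 := by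
      rw [← F.im_el, ← S.im_mul (F.el_mem m) (F.el_mem m), hsq, S.im_one]
    have e3 : ∀ a : S3, a * a = 1 → ∃ g : S3, g * a * g⁻¹ = 1 ∨ g * a * g⁻¹ = sig := by decide
    simp only [Prod.ext_iff, Prod.fst_mul, Prod.snd_mul, Prod.fst_one, Prod.snd_one] at hs
    obtain ⟨g1, hg1⟩ := e3 _ hs.1
    obtain ⟨g2, hg2⟩ := e3 _ hs.2.1
    obtain ⟨g3, hg3⟩ := e3 _ hs.2.2
    set g := F.k (g1, g2, g3) with hg
    have hgC : g ∈ S.C := F.k_mem _
    have hmem : g * F.el m * g⁻¹ ∈ S.C := mul_mem (mul_mem hgC (F.el_mem m)) (inv_mem hgC)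
    obtain ⟨n, hn, en⟩ := F.el_surj hmem
    have him : Model.dec (n / 512) = (g1, g2, g3) * Model.dec (m / 512) * (g1, g2, g3)⁻¹ := by
      rw [← F.im_el, en, S.im_conj hgC (F.el_mem m), F.im_el, hg, F.im_k]
    have key : ∀ s : Fin 216, ((Model.dec s).1 = 1 ∨ (Model.dec s).1 = sig) →
        ((Model.dec s).2.1 = 1 ∨ (Model.dec s).2.1 = sig) → ((Model.dec s).2.2 = 1 ∨ (Model.dec s).2.2 = sig) →
        s.val = 0 ∨ s.val ∈ [3, 18, 108, 21, 111, 126, 129] := by decide +kernel
    have hs' := key ⟨n / 512, by omega⟩ (by rw [him]; exact hg1) (by rw [him]; exact hg2) (by rw [him]; exact hg3)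
    have hcon : A.ConjH (F.el n) (F.el m) := ConjH.symm A ⟨g, A.C_le hgC, en.symm⟩
    refine A.good_conj ?_ hcon
    have hn0 : n ≠ 0 := by
      rintro rfl
      rw [F.el_zero] at en
      exact hne (conj_eq_one_iff.1 en.symm)
    have hnn : Model.mul n n = 0 := el_invol (F := F) hn (by
      rw [en]
      calc g * F.el m * g⁻¹ * (g * F.el m * g⁻¹) = g * (F.el m * F.el m) * g⁻¹ := by group
        _ = 1 := by rw [hsq]; group)
    have hinv : invol n = true := by simp [invol, hn0, hnn]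
    rcases hs' with h0 | hmem'
    · have h0' : n / 512 = 0 := h0
      exact A.good_Q (by omega) hinv
    · have e : n = n % 512 + 512 * (n / 512) := by omega
      have hc := outWit_cover (n % 512) (Nat.mod_lt _ (by norm_num)) _ hmem' (e ▸ hinv)
      rw [← e] at hc
      obtain ⟨p, hp, rfl⟩ := List.mem_map.1 hc
      obtain ⟨q1, q2, q3, q4⟩ := outWit_spec p hp
      have base : ∀ b ∈ outBases, b < 110592 ∧ ∃ l ∈ flipPairs.sublists,
          (l.map Prod.fst).foldr Model.mul 0 = b ∧ (l.map Prod.snd).foldr Model.mul 0 < 512 ∧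
            invol ((l.map Prod.snd).foldr Model.mul 0) = true := by decide +kernel
      obtain ⟨hb, l, hl, e1, e2, e3'⟩ := base _ q3
      obtain ⟨-, -, hfl⟩ := A.flip_list l fun x hx => (List.mem_sublists.1 hl).subset hx
      rw [e1] at hfl
      refine A.good_conj ?_ (A.conjH_code q1 q2 hb q4)
      exact A.good_conj (A.good_Q e2 e3') (ConjH.symm A (A.conjH_flip hfl))
  -- a fixed coset of `C`
  haveI : Fact (Nat.Prime 2) := ⟨Nat.prime_two⟩
  let K : Subgroup A.H := S.C.subgroupOf A.H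
  let u : A.H := ⟨v, hv⟩
  have hu : u * u = 1 := Subtype.ext h2
  haveI : Fintype (A.H ⧸ K) := Fintype.ofFinite _
  let σ : Equiv.Perm (A.H ⧸ K) := MulAction.toPermHom A.H (A.H ⧸ K) u
  have hσ : σ ^ 2 ^ 1 = 1 := by rw [pow_one, pow_two, ← map_mul, hu, map_one]
  have hα : ¬ 2 ∣ Fintype.card (A.H ⧸ K) := by rw [← Nat.card_eq_fintype_card]; exact A.odd
  obtain ⟨x, hx⟩ := Equiv.Perm.exists_fixed_point_of_prime hα hσ
  obtain ⟨h, rfl⟩ := QuotientGroup.mk_surjective x
  have hh : (u • h)⁻¹ * h ∈ K := QuotientGroup.eq.1 hx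
  have hC : (h : G)⁻¹ * v * h ∈ S.C := by
    have := inv_mem hh
    simpa [K, u, mem_subgroupOf, mul_assoc, smul_eq_mul] using this
  obtain ⟨m, hm, em⟩ := F.el_surj hC
  refine A.good_conj (hCgood m hm ?_ ?_) ⟨h, h.2, by rw [em]; group⟩
  · rw [em]
    intro e
    exact h1 (conj_eq_one_iff.1 (show (h : G)⁻¹ * v * ((h : G)⁻¹)⁻¹ = 1 by rw [inv_inv]; exact e))
  · rw [em]
    calc (h : G)⁻¹ * v * h * ((h : G)⁻¹ * v * h) = (h : G)⁻¹ * (v * v) * h := by group
      _ = 1 := by rw [h2]; group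

theorem H_eq_top : A.H = ⊤ := by
  rw [eq_top_iff]
  rintro g -
  by_contra hg
  have hX2 : g * S.t * g⁻¹ * (g * S.t * g⁻¹) = 1 := Std.sq_of_conj (isConj_iff.2 ⟨g, rfl⟩)
  have h6 : invol 6 = true ∧ isRoot 6 = false := by decide +kernel
  have hu : F.el 6 * F.el 6 = 1 := by
    rw [← F.el_mul (by norm_num) (by norm_num)]
    have : Model.mul 6 6 = 0 := by simpa [invol] using h6.1
    rw [this, F.el_zero]
  rcases Nat.even_or_odd (orderOf (g * S.t * g⁻¹ * F.el 6)) with he | ho
  · obtain ⟨v, hv1, hvv, hvu, hvX, -⟩ := exists_central hu hX2 he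
    have hvH : v ∈ A.H := A.good_Q (by norm_num) h6.1 v hvu
    exact hg (A.strong (A.good_invol hvH hv1 hvv _ hvX.symm))
  · obtain ⟨j, hj⟩ := exists_conj_of_odd hu hX2 ho
    have hc : IsConj S.t (F.el 6) :=
      (isConj_iff.2 ⟨g, rfl⟩ : IsConj S.t (g * S.t * g⁻¹)).trans
        (isConj_iff.2 ⟨((g * S.t * g⁻¹ * F.el 6) ^ j)⁻¹, by
          conv_lhs => arg 1; arg 2; rw [← hj]
          group⟩)
    have := (F.conj_el (by norm_num)).1 hc
    rw [h6.2] at this
    exact Bool.noConfusion this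

end Ambient

end Std

end CfsgLib.OmegaPlusEight
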