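import Cfsg.Agent.Lib.OmegaPlusEight.Core
import Mathlib.Data.ZMod.Basic

/-!
The eight-dimensional module of `Sym(3)³` over the field of two elements: the orbit of the special
vector `q` is a set of pure tensors `2 ⊗ 2 ⊗ 2`.
-/

set_option autoImplicit false
set_option maxRecDepth 4000
set_option linter.unusedSectionVars false

namespace CfsgLib.OmegaPlusEight

/-- the `i`-th factor -/
def ι (i : Fin 3) (a : S3) : Top :=
  (if i = 0 then a else 1, if i = 1 then a else 1, if i = 2 then a else 1)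

/-- the involution fixing the point `0` -/
def sig : S3 := Equiv.swap 1 2

/-- the translation by one -/
def rot : S3 := finRotate 3

/-- `θ^u` -/
def tr (u : Fin 3 × Fin 3 × Fin 3) : Top := (rot ^ u.1.val, rot ^ u.2.1.val, rot ^ u.2.2.val)

/-- the stabiliser of the origin -/
def X0 : Set Top := {s | s.1 0 = 0 ∧ s.2.1 0 = 0 ∧ s.2.2 0 = 0}

/-- The module data. -/
structure Mod (V : Type*) [AddCommGroup V] where
  two : ∀ v : V, v + v = 0
  ρ : Top →* AddMonoid.End V
  Qf : V → ZMod 2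
  B : V → V → ZMod 2
  qf_add : ∀ a b, Qf (a + b) = Qf a + Qf b + B a b
  B_add : ∀ a b c, B a (b + c) = B a b + B a c
  qf_inv : ∀ (s : Top) (v : V), Qf (ρ s v) = Qf v
  nondeg : ∀ a, (∀ v, B a v = 0) → a = 0
  q : V
  qf_q : Qf q = 0
  fix : ∀ i, ρ (ι i sig) q = q
  stab : ∀ s, ρ s q = q → s ∈ X0
  hT : ∀ i j : Fin 3, i ≠ j → ∀ v, B q v = 0 →
    let T := ρ (ι i sig) (ρ (ι j sig) v + v) + (ρ (ι j sig) v + v)
    T = 0 ∨ T = q
  hS : ∀ (i : Fin 3) (v : V), B q v = 0 → Qf (ρ (ι i sig) v + v) = 0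
  card_V : Nat.card V = 256
  hperp : ∀ a, (∀ v, B q v = 0 → B a v = 0) → a = 0 ∨ a = q
  hmax : ∀ w : Fin 5 → V, (∀ i j, B (w i) (w j) = 0) →
    ∃ c : Fin 5 → ZMod 2, c ≠ 0 ∧ ∀ f : V →+ V, ∑ i, (if c i = 0 then 0 else f (w i)) = 0

theorem z2_cases : ∀ a : ZMod 2, a = 0 ∨ a = 1 := by decide

theorem z2_add_self : ∀ a : ZMod 2, a + a = 0 := by decide

theorem z2_eq_of : ∀ a b : ZMod 2, (a = 0 ↔ b = 0) → a = b := by decide

theorem ι_comm : ∀ i j : Fin 3, i ≠ j → ∀ a b : S3, ι i a * ι j b = ι j b * ι i a := by decide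

theorem ι_mul (i : Fin 3) (a b : S3) : ι i a * ι i b = ι i (a * b) := by
  fin_cases i <;> simp [ι]

theorem ι_rot_cube : ∀ i : Fin 3, ι i rot * (ι i rot * ι i rot) = 1 := by decide

theorem ι_rot_inv : ∀ i : Fin 3, (ι i rot)⁻¹ = ι i rot * ι i rot := by decide

theorem ι_sig_rot : ∀ i : Fin 3, ι i sig * ι i rot = ι i rot * (ι i rot * ι i sig) := by decide

theorem exists_third : ∀ a b : Fin 3, ∃ c : Fin 3, c ≠ a ∧ c ≠ b := by decide

theorem ι_one (i : Fin 3) : ι i 1 = 1 := by fin_cases i <;> simp [ι]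

namespace Mod

variable {V : Type*} [AddCommGroup V] (M : Mod V)

theorem act_mul (s r : Top) (v : V) : M.ρ (s * r) v = M.ρ s (M.ρ r v) := by rw [map_mul]; rfl

theorem act_one (v : V) : M.ρ 1 v = v := by rw [map_one]; rfl

theorem act_inj (s : Top) {v w : V} (h : M.ρ s v = M.ρ s w) : v = w := by
  have := congrArg (M.ρ s⁻¹) h
  rwa [← M.act_mul, ← M.act_mul, inv_mul_cancel, M.act_one, M.act_one] at this

theorem act_zero (s : Top) : M.ρ s 0 = 0 := map_zero _

include M in
theorem cancel (a b : V) : a + (a + b) = b := by rw [← add_assoc, M.two, zero_add]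

include M in
theorem eq_of_add {a b : V} (h : a + b = 0) : a = b := by
  calc a = a + (b + b) := by rw [M.two, add_zero]
    _ = b := by rw [← add_assoc, h, zero_add]

theorem qf_zero : M.Qf 0 = 0 := by
  have := M.qf_add 0 0
  have hb := M.B_add 0 0 0
  rw [add_zero] at this hb
  revert this hb
  generalize M.Qf 0 = x; generalize M.B 0 0 = y
  revert x y; decide

theorem B_zero (a : V) : M.B a 0 = 0 := by
  have h := M.B_add a 0 0
  rw [add_zero] at h
  rcases z2_cases (M.B a 0) with e | e <;> rw [e] at h ⊢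
  exact absurd h (by decide)

theorem B_comm (a b : V) : M.B a b = M.B b a := by
  have h1 := M.qf_add a b
  have h2 := M.qf_add b a
  rw [add_comm b a, h1] at h2
  revert h2
  generalize M.Qf a = x; generalize M.Qf b = y; generalize M.B a b = u; generalize M.B b a = w
  revert x y u w; decide

theorem B_self (a : V) : M.B a a = 0 := by
  have := M.qf_add a a
  rw [M.two, M.qf_zero] at this
  rcases z2_cases (M.Qf a) with e | e <;> rw [e] at this <;> revert this <;>
    generalize M.B a a = u <;> revert u <;> decide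

theorem B_add' (a b c : V) : M.B (a + b) c = M.B a c + M.B b c := by
  rw [M.B_comm, M.B_add, M.B_comm c, M.B_comm c]

theorem B_act (s : Top) (a b : V) : M.B (M.ρ s a) (M.ρ s b) = M.B a b := by
  have h1 := M.qf_add (M.ρ s a) (M.ρ s b)
  rw [← map_add, M.qf_inv, M.qf_inv, M.qf_inv, M.qf_add] at h1
  exact (add_left_cancel h1).symm

theorem B_shift (s : Top) (a b : V) : M.B (M.ρ s a) b = M.B a (M.ρ s⁻¹ b) := by
  conv_lhs => rw [show b = M.ρ s (M.ρ s⁻¹ b) by rw [← M.act_mul, mul_inv_cancel, M.act_one]]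
  rw [M.B_act]

theorem q_ne : M.q ≠ 0 := fun e => by
  have := M.stab (ι 0 rot) (by rw [e, M.act_zero])
  exact absurd this.1 (by decide)

/-- `θ_i` -/
def th (i : Fin 3) (v : V) : V := M.ρ (ι i rot) v

theorem th_add (i : Fin 3) (v w : V) : M.th i (v + w) = M.th i v + M.th i w := map_add _ _ _

theorem th_zero (i : Fin 3) : M.th i 0 = 0 := map_zero _

theorem th_inj (i : Fin 3) {v w : V} (h : M.th i v = M.th i w) : v = w := M.act_inj _ h

theorem th_eq_zero (i : Fin 3) {v : V} (h : M.th i v = 0) : v = 0 := M.th_inj i (h.trans (M.th_zero i).symm)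

theorem B_th (i : Fin 3) (a b : V) : M.B (M.th i a) (M.th i b) = M.B a b := M.B_act _ _ _

theorem qf_th (i : Fin 3) (a : V) : M.Qf (M.th i a) = M.Qf a := M.qf_inv _ _

theorem sig_add (i : Fin 3) (v w : V) : M.ρ (ι i sig) (v + w) = M.ρ (ι i sig) v + M.ρ (ι i sig) w :=
  map_add _ _ _

theorem th_ne (i : Fin 3) : M.th i M.q ≠ M.q := by
  intro e
  have := M.stab _ e
  fin_cases i
  exacts [absurd this.1 (by decide), absurd this.2.1 (by decide), absurd this.2.2 (by decide)]

theorem th_cube (i : Fin 3) (v : V) : M.th i (M.th i (M.th i v)) = v := by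
  simp only [th, ← M.act_mul, ι_rot_cube, M.act_one]

theorem th2_ne (i : Fin 3) : M.th i (M.th i M.q) ≠ M.q := fun e =>
  M.th_ne i (by conv_lhs => rw [← e]; exact M.th_cube i M.q)

theorem th_sum_ne (i : Fin 3) : M.th i M.q + M.th i (M.th i M.q) ≠ 0 := fun e =>
  M.th_ne i (M.act_inj _ (M.eq_of_add e).symm)

theorem sig_th (i : Fin 3) : M.ρ (ι i sig) (M.th i M.q) = M.th i (M.th i M.q) := by
  conv_rhs => rw [← M.fix i]
  simp only [th, ← M.act_mul, ι_sig_rot]

theorem sig_th' {i j : Fin 3} (h : i ≠ j) (v : V) : M.ρ (ι i sig) (M.th j v) = M.th j (M.ρ (ι i sig) v) := by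
  simp only [th, ← M.act_mul, ι_comm i j h]

theorem th_th {i j : Fin 3} (v : V) : M.th i (M.th j v) = M.th j (M.th i v) := by
  rcases eq_or_ne i j with rfl | h
  · rfl
  · simp only [th, ← M.act_mul, ι_comm i j h]

/-- `(σ_i + 1)(σ_j + 1)` -/
def T (i j : Fin 3) (v : V) : V :=
  M.ρ (ι i sig) (M.ρ (ι j sig) v + v) + (M.ρ (ι j sig) v + v)

theorem T_mem {i j : Fin 3} (h : i ≠ j) {v : V} (hv : M.B M.q v = 0) : M.T i j v = 0 ∨ M.T i j v = M.q :=
  M.hT i j h v hv

theorem T_add (i j : Fin 3) (v w : V) : M.T i j (v + w) = M.T i j v + M.T i j w := by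
  simp only [T, map_add]; abel

theorem T_th {i j k : Fin 3} (hi : i ≠ k) (hj : j ≠ k) (v : V) : M.T i j (M.th k v) = M.th k (M.T i j v) := by
  simp only [T, sig_add, th_add, M.sig_th' hi, M.sig_th' hj]

/-- `e_i q = q + θ_i q + θ_i² q` -/
def eq' (i : Fin 3) : V := M.q + M.th i M.q + M.th i (M.th i M.q)

/-- If `e_k q ≠ 0` then `(σ_i + 1)(σ_j + 1)` is zero. -/
theorem T_eq_zero {i j k : Fin 3} (hij : i ≠ j) (hi : i ≠ k) (hj : j ≠ k) (he : M.eq' k ≠ 0) (v : V) :
    M.T i j v = 0 := by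
  have step : ∀ w, M.B M.q w = 0 → (M.B M.q (M.th k w) = 0 ∨ M.B M.q (M.th k (M.th k w)) = 0) →
      M.T i j w = 0 := by
    intro w hw hw'
    refine (M.T_mem hij hw).resolve_right fun e => ?_
    rcases hw' with h' | h'
    · rcases M.T_mem hij h' with f | f <;> rw [M.T_th hi hj, e] at f
      · exact M.q_ne (M.act_inj _ (f.trans (M.act_zero _).symm))
      · exact M.th_ne k f
    · rcases M.T_mem hij h' with f | f <;> rw [M.T_th hi hj, M.T_th hi hj, e] at f
      · exact M.q_ne (M.act_inj _ (M.act_inj _ (f.trans ((M.act_zero _).symm.trans (congrArg _ (M.act_zero _).symm)))))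
      · exact M.th2_ne k f
  have perp : ∀ w, M.B M.q w = 0 → M.T i j w = 0 := by
    by_contra hno
    push Not at hno
    obtain ⟨v₀, hv₀, hne⟩ := hno
    have eqall : ∀ w, M.B M.q w = 0 → M.B M.q (M.th k w) = M.B M.q (M.th k (M.th k w)) := by
      intro w hw
      by_contra hd
      have hw0 : M.T i j w = 0 := step w hw (by
        rcases z2_cases (M.B M.q (M.th k w)) with a | a <;>
          rcases z2_cases (M.B M.q (M.th k (M.th k w))) with b | b <;> simp_all)
      refine hne ?_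
      have hsum : M.T i j (v₀ + w) = 0 := step _ (by rw [M.B_add, hv₀, hw, add_zero]) (by
        have h0 : ¬ (M.B M.q (M.th k v₀) = 0 ∨ M.B M.q (M.th k (M.th k v₀)) = 0) := fun h => hne (step _ hv₀ h)
        push Not at h0
        simp only [M.th_add, M.B_add]
        rcases z2_cases (M.B M.q (M.th k w)) with a | a <;>
          rcases z2_cases (M.B M.q (M.th k (M.th k w))) with b | b <;>
          rcases z2_cases (M.B M.q (M.th k v₀)) with c | c <;>
          rcases z2_cases (M.B M.q (M.th k (M.th k v₀))) with d | d <;>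
          simp_all [show (1 : ZMod 2) + 1 = 0 by decide])
      rwa [M.T_add, hw0, add_zero] at hsum
    rcases M.hperp (M.th k M.q + M.th k (M.th k M.q)) (fun w hw => by
      have e3 := eqall w hw
      rw [← M.th_cube k w, M.B_add', M.B_th, M.B_th, M.B_th, e3]
      exact z2_add_self _) with e | e
    · exact M.th_sum_ne k e
    · refine he ?_
      rw [eq', add_assoc, e, M.two]
  rcases z2_cases (M.B M.q v) with h0 | h1
  · exact perp v h0
  rcases z2_cases (M.B M.q (M.th k v)) with h0 | h1'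
  · have := perp _ h0
    rw [M.T_th hi hj] at this
    exact M.act_inj _ (this.trans (M.act_zero _).symm)
  obtain ⟨v₀, hv₀, hv₀'⟩ : ∃ v₀, M.B M.q v₀ = 0 ∧ M.B M.q (M.th k v₀) = 1 := by
    by_contra hno
    push Not at hno
    rcases M.hperp (M.th k (M.th k M.q)) (fun w hw => by
      rw [← M.th_cube k w, M.B_th, M.B_th]
      exact (z2_cases _).resolve_right (hno w hw)) with e | e
    · exact M.q_ne (M.act_inj _ (M.act_inj _ (e.trans ((M.act_zero _).symm.trans (congrArg _ (M.act_zero _).symm)))))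
    · exact M.th2_ne k e
  have h2 : M.T i j (v + v₀) = 0 := by
    have := perp (M.th k (v + v₀)) (by rw [M.th_add, M.B_add, h1', hv₀']; decide)
    rw [M.T_th hi hj] at this
    exact M.act_inj _ (this.trans (M.act_zero _).symm)
  rwa [M.T_add, perp v₀ hv₀, add_zero] at h2

/-- If `(σ_i + 1)(σ_j + 1) = 0` then `(θ_i + 1)(θ_j + 1) = 0`. -/
theorem th_th_zero {i j : Fin 3} (hij : i ≠ j) (h : ∀ v, M.T i j v = 0) (v : V) :
    M.th i (M.th j v + v) + (M.th j v + v) = 0 := by
  have conj : ∀ (i : Fin 3) (E : V → V), (∀ w, M.ρ (ι i sig) (E w) + E w = 0) →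
      (∀ w, M.th i (E w) = E (M.th i w)) → ∀ w, M.th i (E w) + E w = 0 := by
    intro i E hE hcomm w
    have h1 := hE (M.th i w)
    have h2 := hE w
    have hσ : M.ρ (ι i sig) (M.th i (E w)) = M.th i (M.th i (M.ρ (ι i sig) (E w))) := by
      simp only [th, ← M.act_mul, ← mul_assoc, ι_sig_rot]
    rw [← hcomm, hσ, M.eq_of_add h2] at h1
    have h3 := M.eq_of_add h1
    rw [M.act_inj _ h3, M.two]
  have first : ∀ w, M.ρ (ι i sig) (M.th j w + w) + (M.th j w + w) = 0 := by
    intro w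
    have h' := conj j (fun u => M.ρ (ι i sig) u + u) (fun u => by
      have := h u
      rw [T, map_add] at this
      rw [map_add, ← M.act_mul, ι_comm j i hij.symm, M.act_mul]
      rw [← this]; abel) (fun u => by rw [M.th_add, M.sig_th' hij]) w
    rw [map_add, M.sig_th' hij]
    rw [M.th_add] at h'
    rw [← h']; abel
  exact conj i (fun u => M.th j u + u) first (fun u => by simp only [M.th_add, M.th_th]) v

theorem third : ∀ i : Fin 3, ∃ j k : Fin 3, i ≠ j ∧ i ≠ k ∧ j ≠ k := by decide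

theorem third_cases : ∀ i j k l : Fin 3, i ≠ j → i ≠ k → j ≠ k → l = i ∨ l = j ∨ l = k := by decide

/-- All `e_i q` vanish. -/
theorem eq_zero (i : Fin 3) : M.eq' i = 0 := by
  by_contra hk
  have two_ne : ∀ a b c : Fin 3, a ≠ b → a ≠ c → b ≠ c → M.eq' c ≠ 0 → M.eq' a ≠ 0 := by
    intro a b c hab hac hbc hc ha
    have hz := M.th_th_zero hab.symm (M.T_eq_zero hab.symm hbc hac hc)
    refine M.th_ne b ?_
    have hq : M.th a (M.th a M.q + M.q) = M.q := by
      rw [eq', add_assoc] at ha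
      rw [M.th_add, add_comm]
      exact (M.eq_of_add ha).symm
    have h2 := hz M.q
    have h3 := congrArg (M.th a) h2
    rw [M.th_add, M.th_zero, ← M.th_th, hq] at h3
    exact M.eq_of_add h3
  have all : ∀ k, M.eq' k ≠ 0 := by
    intro k
    obtain ⟨a, b, hia, hib, hab⟩ := third i
    rcases third_cases i a b k hia hib hab with rfl | rfl | rfl
    · exact hk
    · exact two_ne k b i hab hia.symm hib.symm hk
    · exact two_ne k a i hab.symm hib.symm hia.symm hk
  have hz : ∀ a b : Fin 3, a ≠ b → ∀ v, M.th a (M.th b v + v) + (M.th b v + v) = 0 := fun a b hab v => by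
    obtain ⟨c, hc1, hc2⟩ : ∃ c : Fin 3, a ≠ c ∧ b ≠ c := by revert a b; decide
    exact M.th_th_zero hab (M.T_eq_zero hab hc1 hc2 (all c)) v
  obtain ⟨a, b, hab, hβ⟩ : ∃ a b : Fin 3, a ≠ b ∧ M.B M.q (M.th a M.q) = M.B M.q (M.th b M.q) := by
    rcases z2_cases (M.B M.q (M.th 0 M.q)) with x | x <;> rcases z2_cases (M.B M.q (M.th 1 M.q)) with y | y <;>
      rcases z2_cases (M.B M.q (M.th 2 M.q)) with z | z <;>
      first | exact ⟨0, 1, by decide, x.trans y.symm⟩ | exact ⟨0, 2, by decide, x.trans z.symm⟩ |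
        exact ⟨1, 2, by decide, y.trans z.symm⟩
  have bth : ∀ c, M.B M.q (M.th c (M.th c M.q)) = M.B M.q (M.th c M.q) := fun c => by
    conv_lhs => rw [← M.th_cube c M.q, M.B_th, M.th_cube, M.B_th]
    exact M.B_comm _ _
  rcases z2_cases (M.B M.q (M.th a M.q)) with h0 | h1
  swap
  · have hv : M.B M.q (M.th a M.q + M.th b M.q) = 0 := by rw [M.B_add, ← hβ, z2_add_self]
    have := M.hS a _ hv
    have e : M.ρ (ι a sig) (M.th a M.q + M.th b M.q) + (M.th a M.q + M.th b M.q) =
        M.th a (M.th a M.q) + M.th a M.q := by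
      rw [M.sig_add, M.sig_th, M.sig_th' hab, M.fix]
      calc _ = M.th a (M.th a M.q) + M.th a M.q + (M.th b M.q + M.th b M.q) := by abel
        _ = _ := by rw [M.two, add_zero]
    rw [e, M.qf_add, M.qf_th, M.qf_th, M.qf_q, M.B_th, M.B_comm, h1] at this
    revert this; decide
  · obtain ⟨c, hca, hcb⟩ := exists_third a b
    have h0b : M.B M.q (M.th b M.q) = 0 := hβ ▸ h0
    have base : ∀ v, M.th a (M.th b v) = M.th a v + M.th b v + v := fun v => by
      have := hz a b hab v
      rw [M.th_add] at this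
      refine M.eq_of_add ?_
      rw [← this]; abel
    have h0a2 : M.B M.q (M.th a (M.th a M.q)) = 0 := (bth a).trans h0
    have h0b2 : M.B M.q (M.th b (M.th b M.q)) = 0 := (bth b).trans h0b
    have ab1 : M.B M.q (M.th a (M.th b M.q)) = 0 := by
      rw [base, M.B_add, M.B_add, h0, h0b, M.B_self]; rfl
    have ab2 : M.B M.q (M.th a (M.th b (M.th b M.q))) = 0 := by
      rw [base (M.th b M.q), M.B_add, M.B_add, ab1, h0b2, h0b]; rfl
    have aab1 : M.B M.q (M.th a (M.th a (M.th b M.q))) = 0 := by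
      rw [base, M.th_add, M.th_add, M.B_add, M.B_add, h0a2, ab1, h0]; rfl
    have aab2 : M.B M.q (M.th a (M.th a (M.th b (M.th b M.q)))) = 0 := by
      rw [base (M.th b M.q), M.th_add, M.th_add, M.B_add, M.B_add, aab1, ab2, ab1]; rfl
    have down : ∀ u v : V, M.B (M.th a u) v = M.B u (M.th a (M.th a v)) := fun u v => by
      conv_lhs => rw [← M.th_cube a v, M.B_th]
    have c11 : M.B (M.th a M.q) (M.th b M.q) = 0 := (down _ _).trans aab1
    have c12 : M.B (M.th a M.q) (M.th b (M.th b M.q)) = 0 := (down _ _).trans aab2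
    have c21 : M.B (M.th a (M.th a M.q)) (M.th b M.q) = 0 := by rw [down, down, M.th_cube]; exact ab1
    have c22 : M.B (M.th a (M.th a M.q)) (M.th b (M.th b M.q)) = 0 := by rw [down, down, M.th_cube]; exact ab2
    have sa : M.B (M.th a M.q) (M.th a (M.th a M.q)) = 0 := (M.B_th _ _ _).trans h0
    have sb : M.B (M.th b M.q) (M.th b (M.th b M.q)) = 0 := (M.B_th _ _ _).trans h0b
    let w : Fin 5 → V := ![M.q, M.th a M.q, M.th a (M.th a M.q), M.th b M.q, M.th b (M.th b M.q)]
    have hw : ∀ i j, M.B (w i) (w j) = 0 := by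
      intro i j
      fin_cases i <;> fin_cases j <;>
        first
        | exact M.B_self _
        | assumption
        | (rw [M.B_comm]; assumption)
    obtain ⟨cf, hne, hsum⟩ := M.hmax w hw
    refine hne ?_
    let E : Fin 3 → V →+ V := fun x => HAdd.hAdd (α := V →+ V) (M.ρ (ι x rot)) (AddMonoidHom.id V)
    have hE : ∀ x v, E x v = M.th x v + v := fun x v => rfl
    have flat : ∀ x y : Fin 3, x ≠ y → ∀ v, M.th x (M.th y v) + M.th y v = M.th x v + v := fun x y hxy v => by
      refine M.eq_of_add ?_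
      rw [← hz x y hxy v, M.th_add]; abel
    have k0 := hsum (E c)
    have k1 := hsum (E a)
    have k2 := hsum (E b)
    simp only [Fin.sum_univ_five, hE, w] at k0 k1 k2
    dsimp at k0 k1 k2
    simp only [flat c a hca, flat c b hcb, flat a b hab, flat b a hab.symm] at k0 k1 k2
    have dot : ∀ x : Fin 3, M.th x M.q + M.q ≠ 0 := fun x e => M.th_ne x (M.eq_of_add e)
    have dot2 : ∀ x : Fin 3, M.th x (M.th x M.q) + M.th x M.q ≠ 0 := fun x e =>
      M.th_sum_ne x (by rw [add_comm]; exact e)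
    have dot3 : ∀ x : Fin 3, M.q + M.th x (M.th x M.q) ≠ 0 := fun x e => M.th2_ne x (M.eq_of_add e).symm
    simp only [M.th_cube] at k0 k1 k2
    funext i
    have d1 := dot a; have d2 := dot2 a; have d3 := dot3 a
    have e1 := dot b; have e2 := dot2 b; have e3 := dot3 b
    have g1 := dot c
    have t2 := M.two
    rcases z2_cases (cf 0) with v0 | v0 <;> rcases z2_cases (cf 1) with v1 | v1 <;>
      rcases z2_cases (cf 2) with v2 | v2 <;> rcases z2_cases (cf 3) with v3 | v3 <;>
      rcases z2_cases (cf 4) with v4 | v4 <;>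
      simp only [v0, v1, v2, v3, v4, one_ne_zero, if_true, if_false, zero_add, add_zero, t2] at k0 k1 k2 <;>
      first
      | (fin_cases i <;> assumption)
      | contradiction
      | (exfalso
         first
         | exact g1 k0
         | exact d3 ((show _ = M.th a M.q + M.q + (M.th a (M.th a M.q) + M.th a M.q) by
             calc M.q + M.th a (M.th a M.q) = M.q + M.th a (M.th a M.q) + (M.th a M.q + M.th a M.q) := by rw [t2, add_zero]
               _ = _ := by abel).trans k1)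
         | exact d2 ((show _ = M.th a M.q + M.q + (M.q + M.th a (M.th a M.q)) by
             calc M.th a (M.th a M.q) + M.th a M.q = M.th a (M.th a M.q) + M.th a M.q + (M.q + M.q) := by rw [t2, add_zero]
               _ = _ := by abel).trans k1)
         | exact d1 ((show _ = M.th a (M.th a M.q) + M.th a M.q + (M.q + M.th a (M.th a M.q)) by
             calc M.th a M.q + M.q = M.th a M.q + M.q + (M.th a (M.th a M.q) + M.th a (M.th a M.q)) := by rw [t2, add_zero]
               _ = _ := by abel).trans k1)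
         | exact e3 ((show _ = M.th b M.q + M.q + (M.th b (M.th b M.q) + M.th b M.q) by
             calc M.q + M.th b (M.th b M.q) = M.q + M.th b (M.th b M.q) + (M.th b M.q + M.th b M.q) := by rw [t2, add_zero]
               _ = _ := by abel).trans k2)
         | exact e2 ((show _ = M.th b M.q + M.q + (M.q + M.th b (M.th b M.q)) by
             calc M.th b (M.th b M.q) + M.th b M.q = M.th b (M.th b M.q) + M.th b M.q + (M.q + M.q) := by rw [t2, add_zero]
               _ = _ := by abel).trans k2)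
         | exact e1 ((show _ = M.th b (M.th b M.q) + M.th b M.q + (M.q + M.th b (M.th b M.q)) by
             calc M.th b M.q + M.q = M.th b M.q + M.q + (M.th b (M.th b M.q) + M.th b (M.th b M.q)) := by rw [t2, add_zero]
               _ = _ := by abel).trans k2))

/-- `θ_i² q = q + θ_i q` -/
theorem th2 (i : Fin 3) : M.th i (M.th i M.q) = M.q + M.th i M.q := (M.eq_of_add (M.eq_zero i)).symm

/-- the translate of `q` by `θ^u` -/
def psi (u : Fin 3 × Fin 3 × Fin 3) : V := M.ρ (tr u) M.q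

theorem psi_zero : M.psi (0, 0, 0) = M.q := by
  rw [psi, show tr (0, 0, 0) = 1 by decide, M.act_one]

theorem psi_inj {u : Fin 3 × Fin 3 × Fin 3} (h : M.psi u = M.q) : u = (0, 0, 0) := by
  have key : ∀ v, (tr v).1 0 = 0 → (tr v).2.1 0 = 0 → (tr v).2.2 0 = 0 → v = (0, 0, 0) := by decide
  obtain ⟨h1, h2, h3⟩ := M.stab _ h
  exact key u h1 h2 h3

theorem psi_ne (u : Fin 3 × Fin 3 × Fin 3) : M.psi u ≠ 0 := fun e =>
  M.q_ne (M.act_inj _ (e.trans (M.act_zero _).symm))

theorem qf_psi (u : Fin 3 × Fin 3 × Fin 3) : M.Qf (M.psi u) = 0 := (M.qf_inv _ _).trans M.qf_q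

theorem psi_two (b c : Fin 3) :
    M.psi (2, b, c) = M.psi (0, b, c) + M.psi (1, b, c) ∧ M.psi (b, 2, c) = M.psi (b, 0, c) + M.psi (b, 1, c) ∧
      M.psi (b, c, 2) = M.psi (b, c, 0) + M.psi (b, c, 1) := by
  have e : ∀ b c : Fin 3,
      (tr (2, b, c) = tr (0, b, c) * (ι 0 rot * ι 0 rot) ∧ tr (1, b, c) = tr (0, b, c) * ι 0 rot) ∧
      (tr (b, 2, c) = tr (b, 0, c) * (ι 1 rot * ι 1 rot) ∧ tr (b, 1, c) = tr (b, 0, c) * ι 1 rot) ∧
      (tr (b, c, 2) = tr (b, c, 0) * (ι 2 rot * ι 2 rot) ∧ tr (b, c, 1) = tr (b, c, 0) * ι 2 rot) := by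
    decide
  obtain ⟨⟨a1, a2⟩, ⟨b1, b2⟩, c1, c2⟩ := e b c
  have h : ∀ i, M.ρ (ι i rot * ι i rot) M.q = M.q + M.ρ (ι i rot) M.q := fun i => by
    rw [M.act_mul]; exact M.th2 i
  refine ⟨?_, ?_, ?_⟩ <;> simp only [psi, a1, a2, b1, b2, c1, c2, M.act_mul] <;>
    rw [← M.act_mul (ι _ rot) (ι _ rot), h, map_add]

theorem sig_psi (i : Fin 3) (u : Fin 3 × Fin 3 × Fin 3) :
    M.ρ (ι i sig) (M.psi u) =
      M.psi (if i = 0 then -u.1 else u.1, if i = 1 then -u.2.1 else u.2.1, if i = 2 then -u.2.2 else u.2.2) := by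
  have e : ∀ i u, ι i sig * tr u =
      tr (if i = 0 then -u.1 else u.1, if i = 1 then -u.2.1 else u.2.1, if i = 2 then -u.2.2 else u.2.2) *
        ι i sig := by decide
  rw [psi, ← M.act_mul, e, M.act_mul, M.fix]
  rfl

/-- The form between `q` and its translates. -/
def fz (u : Fin 3 × Fin 3 × Fin 3) : ZMod 2 := if u.1 = 0 ∨ u.2.1 = 0 ∨ u.2.2 = 0 then 0 else 1

theorem T01_psi (c : Fin 3) : M.T 0 1 (M.psi (1, 1, c)) = M.psi (0, 0, c) ∧
    M.T 0 1 (M.psi (0, 1, c)) = 0 ∧ M.T 0 1 (M.psi (1, 0, c)) = 0 ∧ M.T 0 1 (M.psi (0, 0, c)) = 0 := by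
  refine ⟨?_, ?_, ?_, ?_⟩
  · simp only [T, map_add, M.sig_psi]
    simp only [Fin.isValue, zero_ne_one, one_ne_zero, if_true, if_false,
      show (0 : Fin 3) ≠ 2 by decide, show (1 : Fin 3) ≠ 2 by decide, show (-1 : Fin 3) = 2 by decide]
    rw [(M.psi_two 2 c).2.1, (M.psi_two 1 c).1, (M.psi_two 0 c).1, (M.psi_two 1 c).2.1]
    calc _ = M.psi (0, 0, c) + ((M.psi (1, 0, c) + M.psi (1, 0, c)) + (M.psi (0, 1, c) + M.psi (0, 1, c)) +
          (M.psi (1, 1, c) + M.psi (1, 1, c)) + (M.psi (1, 1, c) + M.psi (1, 1, c))) := by abel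
      _ = _ := by simp only [M.two, add_zero]
  all_goals
    simp only [T, map_add, M.sig_psi]
    simp only [Fin.isValue, zero_ne_one, one_ne_zero, if_true, if_false, neg_zero,
      show (0 : Fin 3) ≠ 2 by decide, show (1 : Fin 3) ≠ 2 by decide]
    simp only [M.two, add_zero]

theorem B_q_bit :
    M.B M.q (M.psi (0, 0, 0)) = 0 ∧ M.B M.q (M.psi (0, 0, 1)) = 0 ∧ M.B M.q (M.psi (0, 1, 0)) = 0 ∧
    M.B M.q (M.psi (0, 1, 1)) = 0 ∧ M.B M.q (M.psi (1, 0, 0)) = 0 ∧ M.B M.q (M.psi (1, 0, 1)) = 0 ∧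
    M.B M.q (M.psi (1, 1, 0)) = 0 ∧ M.B M.q (M.psi (1, 1, 1)) = 1 := by
  have top : M.B M.q (M.psi (1, 1, 1)) = 1 := by
    refine (z2_cases _).resolve_left fun e => ?_
    rcases M.T_mem (show (0 : Fin 3) ≠ 1 by decide) e with f | f <;> rw [(M.T01_psi 1).1] at f
    · exact M.psi_ne _ f
    · exact absurd (M.psi_inj f) (by decide)
  have low : ∀ u : Fin 3 × Fin 3 × Fin 3,
      M.T 0 1 (M.psi u) = 0 ∨ M.T 0 1 (M.psi u) = M.q → M.B M.q (M.psi u) = 0 := by
    intro u hu
    refine (z2_cases _).resolve_right fun e => ?_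
    have h0 : M.B M.q (M.psi (1, 1, 1) + M.psi u) = 0 := by rw [M.B_add, top, e]; rfl
    have := M.T_mem (show (0 : Fin 3) ≠ 1 by decide) h0
    rw [M.T_add, (M.T01_psi 1).1] at this
    rcases hu with f | f <;> rw [f] at this <;> rcases this with g | g
    · exact M.psi_ne _ (by rwa [add_zero] at g)
    · exact absurd (M.psi_inj (by rwa [add_zero] at g)) (by decide)
    · exact absurd (M.psi_inj (M.eq_of_add g)) (by decide)
    · exact M.psi_ne (0, 0, 1) (by
        calc M.psi (0, 0, 1) = M.psi (0, 0, 1) + (M.q + M.q) := by rw [M.two, add_zero]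
          _ = 0 := by rw [← add_assoc, g, M.two])
  exact ⟨low _ (Or.inl (M.T01_psi 0).2.2.2), low _ (Or.inl (M.T01_psi 1).2.2.2),
    low _ (Or.inl (M.T01_psi 0).2.1), low _ (Or.inl (M.T01_psi 1).2.1),
    low _ (Or.inl (M.T01_psi 0).2.2.1), low _ (Or.inl (M.T01_psi 1).2.2.1),
    low _ (Or.inr ((M.T01_psi 0).1.trans M.psi_zero)), top⟩

theorem B_q_psi (u : Fin 3 × Fin 3 × Fin 3) : M.B M.q (M.psi u) = fz u := by
  obtain ⟨x000, x001, x010, x011, x100, x101, x110, x111⟩ := M.B_q_bit
  obtain ⟨a, b, c⟩ := u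
  fin_cases a <;> fin_cases b <;> fin_cases c <;>
    simp only [Fin.isValue, Fin.zero_eta, Fin.mk_one, Fin.reduceFinMk, (M.psi_two _ _).1,
      (M.psi_two _ _).2.1, (M.psi_two _ _).2.2, M.B_add, x000, x001, x010, x011, x100, x101, x110, x111] <;>
    decide

/-- Two translates are not orthogonal exactly when they differ in all three coordinates. -/
theorem B_psi (u v : Fin 3 × Fin 3 × Fin 3) : M.B (M.psi u) (M.psi v) = fz (v - u) := by
  have e : ∀ u v, (tr u)⁻¹ * tr v = tr (v - u) := by decide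
  rw [psi, psi, M.B_shift, ← M.act_mul, e]
  exact M.B_q_psi _

/-- the `S`-th basis vector -/
def bit (S : Fin 8) : Fin 3 × Fin 3 × Fin 3 :=
  (⟨S.val % 2, by omega⟩, ⟨S.val / 2 % 2, by omega⟩, ⟨S.val / 4, by omega⟩)

/-- a combination of the basis vectors -/
def lin (c : Fin 8 → ZMod 2) : V := ∑ S, if c S = 0 then 0 else M.psi (bit S)

theorem B_lin (a : V) (c : Fin 8 → ZMod 2) : M.B a (M.lin c) = ∑ S, c S * M.B a (M.psi (bit S)) := by
  let f : V →+ ZMod 2 := ⟨⟨M.B a, M.B_zero a⟩, M.B_add a⟩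
  change f (M.lin c) = _
  rw [lin, map_sum]
  refine Finset.sum_congr rfl fun S _ => ?_
  rcases z2_cases (c S) with e | e <;> simp [e, f, M.B_zero]

theorem B_compl_lin (T : Fin 8) (c : Fin 8 → ZMod 2) : M.B (M.psi (bit (7 - T))) (M.lin c) = c T := by
  have key : ∀ T S : Fin 8, fz (bit S - bit (7 - T)) = if S = T then 1 else 0 := by decide
  rw [M.B_lin]
  simp only [M.B_psi, key, mul_ite, mul_one, mul_zero, Finset.sum_ite_eq', Finset.mem_univ, if_true]

theorem lin_surj (v : V) : ∃ c, M.lin c = v := by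
  haveI : Finite V := Nat.finite_of_card_ne_zero (by rw [M.card_V]; norm_num)
  have hinj : Function.Injective M.lin := fun a b e => funext fun T => by
    rw [← M.B_compl_lin T a, e, M.B_compl_lin]
  exact (((Nat.bijective_iff_injective_and_card _).2 ⟨hinj, by simp [M.card_V]⟩).2 v)

/-- A vector is determined by its values on the basis. -/
theorem ext_B {a b : V} (h : ∀ S, M.B a (M.psi (bit S)) = M.B b (M.psi (bit S))) : a = b := by
  refine M.eq_of_add (M.nondeg _ fun v => ?_)
  obtain ⟨c, rfl⟩ := M.lin_surj v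
  rw [M.B_lin]
  simp only [M.B_add', h, z2_add_self, mul_zero, Finset.sum_const_zero]

/-- Only `q` is fixed by the three involutions. -/
theorem eq_q {v : V} (hv : v ≠ 0) (hfix : ∀ i, M.ρ (ι i sig) v = v) : v = M.q := by
  have shift : ∀ i u, M.B v (M.ρ (ι i sig) (M.psi u)) = M.B v (M.psi u) := fun i u => by
    conv_lhs => rw [← hfix i]
    rw [M.B_act]
  have z : ∀ b c : Fin 3, M.B v (M.psi (0, b, c)) = 0 ∧ M.B v (M.psi (b, 0, c)) = 0 ∧
      M.B v (M.psi (b, c, 0)) = 0 := by
    intro b c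
    refine ⟨?_, ?_, ?_⟩
    · have h1 := shift 0 (1, b, c)
      rw [M.sig_psi] at h1
      simp only [Fin.isValue, zero_ne_one, if_true, if_false, show (0 : Fin 3) ≠ 2 by decide,
        show (-1 : Fin 3) = 2 by decide, (M.psi_two b c).1, M.B_add] at h1
      rwa [add_eq_right] at h1
    · have h1 := shift 1 (b, 1, c)
      rw [M.sig_psi] at h1
      simp only [Fin.isValue, one_ne_zero, if_true, if_false, show (1 : Fin 3) ≠ 2 by decide,
        show (-1 : Fin 3) = 2 by decide, (M.psi_two b c).2.1, M.B_add] at h1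
      rwa [add_eq_right] at h1
    · have h1 := shift 2 (b, c, 1)
      rw [M.sig_psi] at h1
      simp only [Fin.isValue, if_true, if_false, show (2 : Fin 3) ≠ 0 by decide, show (2 : Fin 3) ≠ 1 by decide,
        show (-1 : Fin 3) = 2 by decide, (M.psi_two b c).2.2, M.B_add] at h1
      rwa [add_eq_right] at h1
  have low : ∀ S : Fin 8, S = 7 ∨ (bit S).1 = 0 ∨ (bit S).2.1 = 0 ∨ (bit S).2.2 = 0 := by decide
  have h7 : M.B v (M.psi (bit 7)) = 1 := by
    refine (z2_cases _).resolve_left fun e => hv (M.ext_B fun S => ?_)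
    rw [M.B_comm 0, M.B_zero]
    rcases low S with rfl | h | h | h
    · exact e
    all_goals
      rcases hb : bit S with ⟨i, j, k⟩
      rw [hb] at h
      simp only [Fin.isValue] at h
    · subst h; exact (z j k).1
    · subst h; exact (z i k).2.1
    · subst h; exact (z i j).2.2
  refine M.ext_B fun S => ?_
  rw [M.B_q_psi]
  rcases low S with rfl | h | h | h
  · rw [h7]; rfl
  all_goals
    rw [fz, if_pos (by tauto)]
    rcases hb : bit S with ⟨i, j, k⟩
    rw [hb] at h
    simp only [Fin.isValue] at h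
  · subst h; exact (z j k).1
  · subst h; exact (z i k).2.1
  · subst h; exact (z i j).2.2

end Mod

end CfsgLib.OmegaPlusEight
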