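import Mathlib.Data.List.Basic
import Mathlib.Data.Nat.Bitwise
import Cfsg.Agent.Lib.OmegaPlusEight.Module

/-!
Coordinates for the centraliser `2^{1+8}.Sym(3)³`: an element is a natural number below `2^9 * 216`,
nine bits for the normal subgroup and a code of the complement.
-/

set_option autoImplicit false
set_option maxRecDepth 8000

namespace CfsgLib.OmegaPlusEight.Model

/-- multiplication in the normal subgroup -/
def qmul (a b : ℕ) : ℕ :=
  if xor (xor (a.testBit 4 && b.testBit 3) (a.testBit 5 && b.testBit 2))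
      (xor (a.testBit 6 && b.testBit 1) (a.testBit 7 && b.testBit 0))
  then a ^^^ b ^^^ 256 else a ^^^ b

/-- translates with the first two coordinates below two -/
def pC (a b c : ℕ) : ℕ :=
  if c = 2 then qmul (2 ^ (a + 2 * b)) (2 ^ (a + 2 * b + 4)) else 2 ^ (a + 2 * b + 4 * c)

/-- translates with the first coordinate below two -/
def pB (a b c : ℕ) : ℕ := if b = 2 then qmul (pC a 0 c) (pC a 1 c) else pC a b c

/-- translates -/
def pA (a b c : ℕ) : ℕ := if a = 2 then qmul (pB 0 b c) (pB 1 b c) else pB a b c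

/-- multiplication in `Sym(3)` -/
def sm (x y : ℕ) : ℕ :=
  (x % 3 + (if x / 3 = 1 then 2 else 1) * (y % 3)) % 3 + 3 * ((x / 3 + y / 3) % 2)

/-- the action of `Sym(3)` on three points -/
def pt (x u : ℕ) : ℕ := (x % 3 + (if x / 3 = 1 then 2 else 1) * u) % 3

/-- multiplication in the complement -/
def tmul (s r : ℕ) : ℕ :=
  sm (s % 6) (r % 6) + 6 * sm (s / 6 % 6) (r / 6 % 6) + 36 * sm (s / 36) (r / 36)

/-- the image of a basis element -/
def img (s T : ℕ) : ℕ := pA (pt (s % 6) (T % 2)) (pt (s / 6 % 6) (T / 2 % 2)) (pt (s / 36) (T / 4))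

/-- one factor of the action -/
def actT (s n T : ℕ) : ℕ := if n.testBit T then img s T else 0

/-- the action of the complement -/
def act (s n : ℕ) : ℕ :=
  qmul (qmul (qmul (qmul (qmul (qmul (qmul (qmul (actT s n 0) (actT s n 1)) (actT s n 2)) (actT s n 3))
    (actT s n 4)) (actT s n 5)) (actT s n 6)) (actT s n 7)) (if n.testBit 8 then 256 else 0)

/-- multiplication -/
def mul (m n : ℕ) : ℕ :=
  qmul (m % 512) (act (m / 512) (n % 512)) + 512 * tmul (m / 512) (n / 512)

/-- the element of `Sym(3)` with code `x` -/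
def d3 (x : ℕ) : S3 := rot ^ (x % 3) * sig ^ (x / 3)

/-- the element of `Sym(3)³` with code `s` -/
def dec (s : ℕ) : Top := (d3 (s % 6), d3 (s / 6 % 6), d3 (s / 36))

/-- an involution code -/
def invol (m : ℕ) : Bool := m != 0 && mul m m == 0

/-- `Q ∩ Q_q` -/
def dList : List ℕ := (List.range 512).filter fun n => n &&& 232 == 0

/-- the stabiliser of the origin in the complement -/
def x0List : List ℕ := [0, 3, 18, 21, 108, 111, 126, 129]

/-- the roots in the coordinates of a frame: the conjugates of `t` inside `Q` -/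
def rootsQ : List ℕ := [
  1, 2, 3, 4, 5, 8, 10, 12, 15, 16,
  17, 32, 34, 48, 51, 64, 68, 80, 85, 128,
  136, 160, 170, 192, 204, 240, 255, 256, 257, 258,
  259, 260, 261, 264, 266, 268, 271, 272, 273, 288,
  290, 304, 307, 320, 324, 336, 341, 384, 392, 416,
  426, 448, 460, 496, 511]

/-- the roots outside `Q`, each with an element conjugating a representative to it -/
def rootsOut : List (ℕ × ℕ × ℕ) := [
  (1536, 0, 1536), (1537, 2, 1536), (1540, 8, 1536), (1541, 10, 1536), (1552, 32, 1536),
  (1553, 34, 1536), (1600, 128, 1536), (1604, 136, 1536), (1616, 160, 1536), (1621, 3242, 1536),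
  (1812, 40, 1536), (1813, 42, 1536), (1857, 130, 1536), (1861, 138, 1536), (1873, 162, 1536),
  (1876, 3240, 1536), (2048, 1024, 1536), (2051, 1025, 1536), (2060, 1028, 1536), (2063, 1029, 1536),
  (2096, 1040, 1536), (2099, 1041, 1536), (2240, 1088, 1536), (2252, 1092, 1536), (2288, 1104, 1536),
  (2303, 4181, 1536), (2364, 1044, 1536), (2367, 1045, 1536), (2499, 1089, 1536), (2511, 1093, 1536),
  (2547, 1105, 1536), (2556, 4180, 1536), (2560, 512, 1536), (2562, 513, 1536), (2568, 516, 1536),
  (2570, 517, 1536), (2592, 528, 1536), (2594, 529, 1536), (2688, 576, 1536), (2696, 580, 1536),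
  (2720, 592, 1536), (2730, 3669, 1536), (2856, 532, 1536), (2858, 533, 1536), (2946, 577, 1536),
  (2954, 581, 1536), (2978, 593, 1536), (2984, 3668, 1536), (9216, 0, 9216), (9217, 4, 9216),
  (9218, 8, 9216), (9219, 12, 9216), (9232, 64, 9216), (9233, 68, 9216), (9248, 128, 9216),
  (9250, 136, 9216), (9264, 192, 9216), (9267, 716, 9216), (9490, 72, 9216), (9491, 76, 9216),
  (9505, 132, 9216), (9507, 140, 9216), (9521, 196, 9216), (9522, 712, 9216), (12288, 6144, 9216),
  (12293, 6145, 9216), (12298, 6146, 9216), (12303, 6147, 9216), (12368, 6160, 9216), (12373, 6161, 9216),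
  (12448, 6176, 9216), (12458, 6178, 9216), (12528, 6192, 9216), (12543, 6707, 9216), (12634, 6162, 9216),
  (12639, 6163, 9216), (12709, 6177, 9216), (12719, 6179, 9216), (12789, 6193, 9216), (12794, 6706, 9216),
  (15360, 3072, 9216), (15364, 3073, 9216), (15368, 3074, 9216), (15372, 3075, 9216), (15424, 3088, 9216),
  (15428, 3089, 9216), (15488, 3104, 9216), (15496, 3106, 9216), (15552, 3120, 9216), (15564, 3635, 9216),
  (15688, 3090, 9216), (15692, 3091, 9216), (15748, 3105, 9216), (15756, 3107, 9216), (15812, 3121, 9216),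
  (15816, 3634, 9216), (55296, 0, 55296), (55297, 16, 55296), (55298, 32, 55296), (55299, 48, 55296),
  (55300, 64, 55296), (55301, 80, 55296), (55304, 128, 55296), (55306, 160, 55296), (55308, 192, 55296),
  (55311, 752, 55296), (55558, 96, 55296), (55559, 112, 55296), (55561, 144, 55296), (55563, 176, 55296),
  (55565, 208, 55296), (55566, 736, 55296), (73728, 36864, 55296), (73745, 36865, 55296), (73762, 36866, 55296),
  (73779, 36867, 55296), (73796, 36868, 55296), (73813, 36869, 55296), (73830, 36870, 55296), (73847, 36871, 55296),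
  (73864, 36872, 55296), (73881, 36873, 55296), (73898, 36874, 55296), (73915, 36875, 55296), (73932, 36876, 55296),
  (73949, 36877, 55296), (73966, 37390, 55296), (73983, 37391, 55296), (92160, 18432, 55296), (92176, 18433, 55296),
  (92192, 18434, 55296), (92208, 18435, 55296), (92224, 18436, 55296), (92240, 18437, 55296), (92288, 18440, 55296),
  (92320, 18442, 55296), (92352, 18444, 55296), (92400, 18959, 55296), (92512, 18438, 55296), (92528, 18439, 55296),
  (92560, 18441, 55296), (92592, 18443, 55296), (92624, 18445, 55296), (92640, 18958, 55296)]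

/-- the involutions over the product of the three reflections -/
def fullInv : List (ℕ × ℕ × ℕ) := [
  (66048, 0, 66048), (66049, 2, 66048), (66054, 10, 66048), (66055, 8, 66048), (66066, 34, 66048),
  (66067, 32, 66048), (66068, 40, 66304), (66069, 42, 66304), (66154, 170, 66048), (66155, 168, 66304),
  (66156, 160, 66304), (66157, 162, 66048), (66168, 136, 66048), (66169, 138, 66304), (66174, 130, 66048),
  (66175, 128, 66304), (66304, 0, 66304), (66305, 2, 66304), (66310, 10, 66304), (66311, 8, 66304),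
  (66322, 34, 66304), (66323, 32, 66304), (66324, 40, 66048), (66325, 42, 66048), (66410, 170, 66304),
  (66411, 168, 66048), (66412, 160, 66048), (66413, 162, 66304), (66424, 136, 66304), (66425, 138, 66048),
  (66430, 130, 66304), (66431, 128, 66048)]

/-- all roots -/
def isRoot (m : ℕ) : Bool := rootsQ.contains m || (rootsOut.map Prod.fst).contains m

theorem d3_mul : ∀ x < 6, ∀ y < 6, sm x y < 6 ∧ d3 (sm x y) = d3 x * d3 y := by decide +kernel

theorem d3_pt : ∀ x < 6, ∀ u < 3, pt x u < 3 ∧
    ((rot ^ (pt x u))⁻¹ * d3 x * rot ^ u) 0 = 0 := by decide +kernel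

theorem d3_surj : ∀ a : S3, ∃ x < 6, d3 x = a := by decide +kernel

theorem d3_inj : ∀ x < 6, ∀ y < 6, d3 x = d3 y → x = y := by decide +kernel

/-- the code of a vector -/
def bitsOf (c : Fin 8 → ZMod 2) : ℕ :=
  (c 0).val + 2 * (c 1).val + 4 * (c 2).val + 8 * (c 3).val + 16 * (c 4).val + 32 * (c 5).val +
    64 * (c 6).val + 128 * (c 7).val

theorem bitsOf_spec : ∀ c : Fin 8 → ZMod 2, bitsOf c < 256 ∧
    ∀ T : Fin 8, ((bitsOf c).testBit T.val = true ↔ c T = 1) := by
  decide +kernel

theorem split_bit8 : ∀ n < 512, n = n % 256 + if n.testBit 8 then 256 else 0 := by decide +kernel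

theorem rootsQ_eq : (∀ r ∈ rootsQ, r = 256 ∨ ∃ a < 3, ∃ b < 3, ∃ c < 3, r = pA a b c ∨ r = qmul 256 (pA a b c)) ∧
    256 ∈ rootsQ ∧ ∀ a < 3, ∀ b < 3, ∀ c < 3, pA a b c ∈ rootsQ ∧ qmul 256 (pA a b c) ∈ rootsQ := by
  decide +kernel

theorem rootsOut_spec : ∀ p ∈ rootsOut, p.1 < 110592 ∧ p.2.1 < 110592 ∧ 512 ≤ p.1 ∧
    (p.2.2 = 3 * 512 ∨ p.2.2 = 18 * 512 ∨ p.2.2 = 108 * 512) ∧ mul p.1 p.2.1 = mul p.2.1 p.2.2 := by
  decide +kernel

theorem fullInv_spec : ∀ n < 512, mul (n + 512 * 129) (n + 512 * 129) = 0 →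
    ∃ p ∈ fullInv, p.1 = n + 512 * 129 ∧ p.2.1 < 512 ∧
      (p.2.2 = 512 * 129 ∨ p.2.2 = 256 + 512 * 129) ∧ mul p.1 p.2.1 = mul p.2.1 p.2.2 := by decide +kernel

end CfsgLib.OmegaPlusEight.Model
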