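import Cfsg.Agent.Lib.OmegaPlusEight.Frame
import Cfsg.Agent.Lib.OmegaPlusEight.Model

/-!
A frame identifies `C(t)` with the coordinate model.
-/

set_option autoImplicit false
set_option maxRecDepth 4000
set_option linter.unusedSectionVars false
set_option linter.style.haveILetI false

namespace CfsgLib.OmegaPlusEight

open Subgroup

theorem tr_shift : ∀ (i : Fin 3) (u : Fin 3 × Fin 3 × Fin 3), ι i rot * tr u =
    tr (if i = 0 then u.1 + 1 else u.1, if i = 1 then u.2.1 + 1 else u.2.1, if i = 2 then u.2.2 + 1 else u.2.2) := by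
  decide

theorem tr_two : ∀ b c : Fin 3,
    (tr (1, b, c) = tr (0, b, c) * ι 0 rot ∧ tr (2, b, c) = tr (0, b, c) * (ι 0 rot * ι 0 rot)) ∧
    (tr (b, 1, c) = tr (b, 0, c) * ι 1 rot ∧ tr (b, 2, c) = tr (b, 0, c) * (ι 1 rot * ι 1 rot)) ∧
    (tr (b, c, 1) = tr (b, c, 0) * ι 2 rot ∧ tr (b, c, 2) = tr (b, c, 0) * (ι 2 rot * ι 2 rot)) := by
  decide

theorem s3_fix_zero : ∀ a : S3, a 0 = 0 → a = 1 ∨ a = sig := by decide

theorem X0_decomp (s : Top) : s = ι 0 s.1 * ι 1 s.2.1 * ι 2 s.2.2 := by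
  obtain ⟨a, b, c⟩ := s
  simp [ι]

namespace Frame

variable {G : Type*} [Group G] [Finite G] {S : Setup G} (F : Frame S)

/-- the marked conjugate -/
abbrev q : G := F.S'.t

/-- the module of the frame -/
noncomputable def M : Mod S.V := F.pair.toMod F.hX

/-- the translate of `q` by `θ^u` -/
def Psi (u : Fin 3 × Fin 3 × Fin 3) : G := F.k (tr u) * F.q * (F.k (tr u))⁻¹

theorem Psi_mem (u : Fin 3 × Fin 3 × Fin 3) : F.Psi u ∈ S.Q := S.Q_conj (F.k_mem _) F.pair.mem

theorem cl_Psi (u : Fin 3 × Fin 3 × Fin 3) : S.cl (F.Psi u) = F.M.psi u := by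
  rw [Psi, ← S.rho_im (F.k_mem _) F.pair.mem, F.im_k]; rfl

theorem Psi_sq (u : Fin 3 × Fin 3 × Fin 3) : F.Psi u * F.Psi u = 1 := by
  calc F.Psi u * F.Psi u = F.k (tr u) * (F.q * F.q) * (F.k (tr u))⁻¹ := by rw [Psi]; group
    _ = 1 := by rw [F.S'.t_sq]; group

theorem Psi_zero : F.Psi (0, 0, 0) = F.q := by
  rw [Psi, show tr (0, 0, 0) = 1 by decide, map_one]; group

theorem k_fix {s : Top} (hs : s ∈ X0) : F.k s * F.q * (F.k s)⁻¹ = F.q := by
  have one : ∀ i a, a = 1 ∨ a = sig → Commute (F.k (ι i a)) F.q := fun i a ha => by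
    rcases ha with rfl | rfl
    · rw [ι_one, map_one]; exact Commute.one_left _
    · exact mul_inv_eq_iff_eq_mul.1 (F.k_q i)
  obtain ⟨h1, h2, h3⟩ := hs
  have : Commute (F.k s) F.q := by
    rw [X0_decomp s, map_mul, map_mul]
    exact ((one 0 _ (s3_fix_zero _ h1)).mul_left (one 1 _ (s3_fix_zero _ h2))).mul_left (one 2 _ (s3_fix_zero _ h3))
  exact mul_inv_eq_iff_eq_mul.2 this

theorem Psi_conj {s x : Top} {u v : Fin 3 × Fin 3 × Fin 3} (hx : x ∈ X0) (h : s * tr u = tr v * x) :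
    F.k s * F.Psi u * (F.k s)⁻¹ = F.Psi v := by
  calc F.k s * F.Psi u * (F.k s)⁻¹ = F.k (s * tr u) * F.q * (F.k (s * tr u))⁻¹ := by
        rw [Psi, map_mul]; group
    _ = F.k (tr v) * (F.k x * F.q * (F.k x)⁻¹) * (F.k (tr v))⁻¹ := by rw [h, map_mul]; group
    _ = F.Psi v := by rw [F.k_fix hx, Psi]

theorem Psi_step (i : Fin 3) (w : Top) :
    F.k (w * (ι i rot * ι i rot)) * F.q * (F.k (w * (ι i rot * ι i rot)))⁻¹ =
      F.k w * F.q * (F.k w)⁻¹ * (F.k (w * ι i rot) * F.q * (F.k (w * ι i rot))⁻¹) := by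
  set T := F.k (ι i rot) with hT
  set x := T * F.q * T⁻¹ with hx
  have hxD : x ∈ Setup.D S F.S' := F.pair.translate_mem_D F.hX (F.k_mem _) (F.im_k _)
  have hqx : F.q * x = x * F.q := F.pair.comm_D F.pair.mem_D_q hxD
  have e : T * x * T⁻¹ = F.q * x := by
    have h2 : F.q * x * (F.q * x) = 1 := F.pair.elem_D (mul_mem F.pair.mem_D_q hxD)
    calc T * x * T⁻¹ = (F.q * x)⁻¹ := eq_inv_of_mul_eq_one_right (F.rel i)
      _ = F.q * x := inv_eq_of_mul_eq_one_right h2
  calc F.k (w * (ι i rot * ι i rot)) * F.q * (F.k (w * (ι i rot * ι i rot)))⁻¹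
      = F.k w * (T * x * T⁻¹) * (F.k w)⁻¹ := by rw [map_mul, map_mul, hx, hT]; group
    _ = _ := by rw [e, map_mul, hx, hT]; group

theorem Psi_two (b c : Fin 3) :
    F.Psi (2, b, c) = F.Psi (0, b, c) * F.Psi (1, b, c) ∧ F.Psi (b, 2, c) = F.Psi (b, 0, c) * F.Psi (b, 1, c) ∧
      F.Psi (b, c, 2) = F.Psi (b, c, 0) * F.Psi (b, c, 1) := by
  obtain ⟨⟨a1, a2⟩, ⟨b1, b2⟩, c1, c2⟩ := tr_two b c
  refine ⟨?_, ?_, ?_⟩ <;> simp only [Psi, a1, a2, b1, b2, c1, c2] <;> exact F.Psi_step _ _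

theorem br_Psi (u v : Fin 3 × Fin 3 × Fin 3) : Setup.br (F.Psi u) (F.Psi v) = Mod.fz (v - u) := by
  rw [← S.br_rep (F.Psi_mem u) (F.Psi_mem v), F.cl_Psi, F.cl_Psi]
  exact F.M.B_psi u v

/-- the basis element -/
def x (T : Fin 8) : G := F.Psi (Mod.bit T)

theorem x_mem (T : Fin 8) : F.x T ∈ S.Q := F.Psi_mem _

theorem x_comm {i j : Fin 8} (h : i + j ≠ 7) : Commute (F.x i) (F.x j) := by
  have key : ∀ i j : Fin 8, i + j ≠ 7 → Mod.fz (Mod.bit j - Mod.bit i) = 0 := by decide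
  rcases S.conj_of_br (F.x_mem i) (F.x_mem j) with ⟨-, e⟩ | ⟨e, -⟩
  · exact mul_inv_eq_iff_eq_mul.1 e
  · exact absurd ((F.br_Psi _ _).symm.trans e) (by rw [key i j h]; exact zero_ne_one)

theorem x_twist {i j : Fin 8} (h : i + j = 7) : F.x i * F.x j = S.t * (F.x j * F.x i) := by
  have key : ∀ i j : Fin 8, i + j = 7 → Mod.fz (Mod.bit j - Mod.bit i) = 1 := by decide
  rcases S.conj_of_br (F.x_mem i) (F.x_mem j) with ⟨e, -⟩ | ⟨-, e⟩
  · exact absurd ((F.br_Psi _ _).symm.trans e) (by rw [key i j h]; exact one_ne_zero)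
  · rw [mul_inv_eq_iff_eq_mul.1 e, mul_assoc]

/-- a power with exponent `0` or `1` -/
def pw (g : G) (b : Bool) : G := if b then g else 1

theorem pw_mul {g : G} (hg : g * g = 1) (b c : Bool) : pw g b * pw g c = pw g (xor b c) := by
  cases b <;> cases c <;> simp [pw, hg]

theorem pw_comm {g h : G} (hc : Commute g h) (b c : Bool) : Commute (pw g b) (pw h c) := by
  cases b <;> cases c <;> simp [pw, hc, Commute.one_left, Commute.one_right]

theorem pw_mem {g : G} (hg : g ∈ S.Q) (b : Bool) : pw g b ∈ S.Q := by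
  cases b <;> simp [pw, hg, one_mem]

theorem four {a b c d : G} (ha : a * a = 1) (hb : b * b = 1) (hc : c * c = 1) (hd : d * d = 1)
    (hab : Commute a b) (hac : Commute a c) (had : Commute a d) (hbc : Commute b c) (hbd : Commute b d)
    (hcd : Commute c d) (a0 a1 a2 a3 b0 b1 b2 b3 : Bool) :
    pw a a0 * pw b a1 * pw c a2 * pw d a3 * (pw a b0 * pw b b1 * pw c b2 * pw d b3) =
      pw a (xor a0 b0) * pw b (xor a1 b1) * pw c (xor a2 b2) * pw d (xor a3 b3) := by
  rw [← pw_mul ha, ← pw_mul hb, ← pw_mul hc, ← pw_mul hd]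
  have key : ∀ {A B C D A' B' C' D' : G}, Commute A' B → Commute A' C → Commute A' D → Commute B' C →
      Commute B' D → Commute C' D →
      A * B * C * D * (A' * B' * C' * D') = A * A' * (B * B') * (C * C') * (D * D') := by
    intro A B C D A' B' C' D' h1 h2 h3 h4 h5 h6
    calc A * B * C * D * (A' * B' * C' * D') = A * (B * C * D * A') * B' * C' * D' := by group
      _ = A * (A' * (B * C * D)) * B' * C' * D' := by rw [((h1.mul_right h2).mul_right h3).eq]
      _ = A * A' * B * (C * D * B') * C' * D' := by group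
      _ = A * A' * B * (B' * (C * D)) * C' * D' := by rw [(h4.mul_right h5).eq]
      _ = A * A' * (B * B') * C * (D * C') * D' := by group
      _ = A * A' * (B * B') * C * (C' * D) * D' := by rw [h6.eq]
      _ = _ := by group
  exact key (pw_comm hab _ _) (pw_comm hac _ _) (pw_comm had _ _) (pw_comm hbc _ _) (pw_comm hbd _ _)
    (pw_comm hcd _ _)

/-- the first four coordinates -/
def evA (n : ℕ) : G :=
  pw (F.x 0) (n.testBit 0) * pw (F.x 1) (n.testBit 1) * pw (F.x 2) (n.testBit 2) * pw (F.x 3) (n.testBit 3)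

/-- the last four coordinates -/
def evB (n : ℕ) : G :=
  pw (F.x 4) (n.testBit 4) * pw (F.x 5) (n.testBit 5) * pw (F.x 6) (n.testBit 6) * pw (F.x 7) (n.testBit 7)

/-- the element of `Q` with coordinates `n` -/
def evQ (n : ℕ) : G := F.evA n * F.evB n * pw S.t (n.testBit 8)

theorem evA_mem (n : ℕ) : F.evA n ∈ S.Q :=
  mul_mem (mul_mem (mul_mem (pw_mem (F.x_mem _) _) (pw_mem (F.x_mem _) _)) (pw_mem (F.x_mem _) _))
    (pw_mem (F.x_mem _) _)

theorem evB_mem (n : ℕ) : F.evB n ∈ S.Q :=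
  mul_mem (mul_mem (mul_mem (pw_mem (F.x_mem _) _) (pw_mem (F.x_mem _) _)) (pw_mem (F.x_mem _) _))
    (pw_mem (F.x_mem _) _)

theorem evQ_mem (n : ℕ) : F.evQ n ∈ S.Q :=
  mul_mem (mul_mem (F.evA_mem n) (F.evB_mem n)) (pw_mem S.t_mem _)

theorem B_mul_A (a b : ℕ) : F.evB a * F.evA b =
    pw S.t (xor (xor (a.testBit 4 && b.testBit 3) (a.testBit 5 && b.testBit 2))
      (xor (a.testBit 6 && b.testBit 1) (a.testBit 7 && b.testBit 0))) * (F.evA b * F.evB a) := by
  let A := F.evA b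
  -- moving one of the last four factors through `A`
  have move : ∀ (i j : Fin 8) (c : Bool) (e : Bool), i + j = 7 →
      pw (F.x i) c * pw (F.x j) e = pw S.t (c && e) * (pw (F.x j) e * pw (F.x i) c) := by
    intro i j c e hij
    cases c <;> cases e <;> simp [pw, F.x_twist hij]
  have ct : ∀ {z : G}, z ∈ S.Q → ∀ b, Commute z (pw S.t b) := fun {z} hz b => by
    cases b
    · exact Commute.one_right _
    · exact S.Q_comm hz
  have cm : ∀ (i j : Fin 8) (c e : Bool), i + j ≠ 7 → Commute (pw (F.x i) c) (pw (F.x j) e) :=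
    fun i j c e hij => pw_comm (F.x_comm hij) c e
  have mx : ∀ i b, pw (F.x i) b ∈ S.Q := fun i b => pw_mem (F.x_mem i) b
  have m4 : pw (F.x 4) (a.testBit 4) * A = pw S.t (a.testBit 4 && b.testBit 3) * (A * pw (F.x 4) (a.testBit 4)) := by
    simp only [A, evA]
    generalize hP : pw (F.x 0) (b.testBit 0) * pw (F.x 1) (b.testBit 1) * pw (F.x 2) (b.testBit 2) = P
    have hc : Commute (pw (F.x 4) (a.testBit 4)) P := hP ▸
      ((cm 4 0 _ _ (by decide)).mul_right (cm 4 1 _ _ (by decide))).mul_right (cm 4 2 _ _ (by decide))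
    have hP' : P ∈ S.Q := hP ▸ mul_mem (mul_mem (mx _ _) (mx _ _)) (mx _ _)
    rw [← mul_assoc, hc.eq, mul_assoc, move 4 3 _ _ (by decide), ← mul_assoc, (ct hP' _).eq]
    group
  have m5 : pw (F.x 5) (a.testBit 5) * A = pw S.t (a.testBit 5 && b.testBit 2) * (A * pw (F.x 5) (a.testBit 5)) := by
    simp only [A, evA]
    generalize hP : pw (F.x 0) (b.testBit 0) * pw (F.x 1) (b.testBit 1) = P
    have hc : Commute (pw (F.x 5) (a.testBit 5)) P := hP ▸
      (cm 5 0 _ _ (by decide)).mul_right (cm 5 1 _ _ (by decide))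
    have hP' : P ∈ S.Q := hP ▸ mul_mem (mx _ _) (mx _ _)
    calc pw (F.x 5) (a.testBit 5) * (P * pw (F.x 2) (b.testBit 2) * pw (F.x 3) (b.testBit 3))
        = pw (F.x 5) (a.testBit 5) * P * pw (F.x 2) (b.testBit 2) * pw (F.x 3) (b.testBit 3) := by group
      _ = P * (pw (F.x 5) (a.testBit 5) * pw (F.x 2) (b.testBit 2)) * pw (F.x 3) (b.testBit 3) := by
          rw [hc.eq]; group
      _ = P * pw S.t (a.testBit 5 && b.testBit 2) * pw (F.x 2) (b.testBit 2) *
          (pw (F.x 5) (a.testBit 5) * pw (F.x 3) (b.testBit 3)) := by rw [move 5 2 _ _ (by decide)]; group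
      _ = _ := by rw [(ct hP' _).eq, (cm 5 3 _ _ (by decide)).eq]; group
  have m6 : pw (F.x 6) (a.testBit 6) * A = pw S.t (a.testBit 6 && b.testBit 1) * (A * pw (F.x 6) (a.testBit 6)) := by
    simp only [A, evA]
    generalize hR : pw (F.x 2) (b.testBit 2) * pw (F.x 3) (b.testBit 3) = R
    have hc : Commute (pw (F.x 6) (a.testBit 6)) R := hR ▸
      (cm 6 2 _ _ (by decide)).mul_right (cm 6 3 _ _ (by decide))
    calc pw (F.x 6) (a.testBit 6) * (pw (F.x 0) (b.testBit 0) * pw (F.x 1) (b.testBit 1) *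
          pw (F.x 2) (b.testBit 2) * pw (F.x 3) (b.testBit 3))
        = pw (F.x 6) (a.testBit 6) * pw (F.x 0) (b.testBit 0) * pw (F.x 1) (b.testBit 1) * R := by
          rw [← hR]; group
      _ = pw (F.x 0) (b.testBit 0) * (pw (F.x 6) (a.testBit 6) * pw (F.x 1) (b.testBit 1)) * R := by
          rw [(cm 6 0 _ _ (by decide)).eq]; group
      _ = pw (F.x 0) (b.testBit 0) * pw S.t (a.testBit 6 && b.testBit 1) * pw (F.x 1) (b.testBit 1) *
          (pw (F.x 6) (a.testBit 6) * R) := by rw [move 6 1 _ _ (by decide)]; group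
      _ = _ := by rw [(ct (mx 0 _) _).eq, hc.eq, ← hR]; group
  have m7 : pw (F.x 7) (a.testBit 7) * A = pw S.t (a.testBit 7 && b.testBit 0) * (A * pw (F.x 7) (a.testBit 7)) := by
    simp only [A, evA]
    generalize hR : pw (F.x 1) (b.testBit 1) * pw (F.x 2) (b.testBit 2) * pw (F.x 3) (b.testBit 3) = R
    have hc : Commute (pw (F.x 7) (a.testBit 7)) R := hR ▸
      ((cm 7 1 _ _ (by decide)).mul_right (cm 7 2 _ _ (by decide))).mul_right (cm 7 3 _ _ (by decide))
    calc pw (F.x 7) (a.testBit 7) * (pw (F.x 0) (b.testBit 0) * pw (F.x 1) (b.testBit 1) *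
          pw (F.x 2) (b.testBit 2) * pw (F.x 3) (b.testBit 3))
        = pw (F.x 7) (a.testBit 7) * pw (F.x 0) (b.testBit 0) * R := by rw [← hR]; group
      _ = pw S.t (a.testBit 7 && b.testBit 0) * pw (F.x 0) (b.testBit 0) *
          (pw (F.x 7) (a.testBit 7) * R) := by rw [move 7 0 _ _ (by decide)]; group
      _ = _ := by rw [hc.eq, ← hR]; group
  show F.evB a * A = _ * (A * F.evB a)
  simp only [evB]
  rw [← pw_mul S.t_sq, ← pw_mul S.t_sq, ← pw_mul S.t_sq]
  have key : ∀ {u v w x A zu zv zw zx : G}, u * A = zu * (A * u) → v * A = zv * (A * v) →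
      w * A = zw * (A * w) → x * A = zx * (A * x) → Commute u zv → Commute (u * v) zw → Commute (u * v * w) zx →
      Commute zu zv → Commute (zu * zv) zw → Commute (zu * zv * zw) zx →
      u * v * w * x * A = zu * zv * (zw * zx) * (A * (u * v * w * x)) := by
    intro u v w x A zu zv zw zx e1 e2 e3 e4 c1 c2 c3 d1 d2 d3
    calc u * v * w * x * A = u * v * w * (x * A) := by group
      _ = (u * v * w * zx) * A * x := by rw [e4]; group
      _ = zx * (u * v * (w * A)) * x := by rw [c3.eq]; group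
      _ = zx * (u * v * zw) * A * w * x := by rw [e3]; group
      _ = zx * zw * (u * (v * A)) * w * x := by rw [c2.eq]; group
      _ = zx * zw * (u * zv) * A * v * w * x := by rw [e2]; group
      _ = zx * zw * zv * (u * A) * v * w * x := by rw [c1.eq]; group
      _ = zx * (zw * (zv * zu)) * (A * (u * v * w * x)) := by rw [e1]; group
      _ = _ := by rw [← d1.eq, ← d2.eq, ← d3.eq]; group
  have tt : ∀ b c, Commute (pw S.t b) (pw S.t c) := fun b c => pw_comm (Commute.refl _) b c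
  exact key m4 m5 m6 m7 (ct (mx _ _) _) (ct (mul_mem (mx _ _) (mx _ _)) _)
    (ct (mul_mem (mul_mem (mx _ _) (mx _ _)) (mx _ _)) _) (tt _ _) ((tt _ _).mul_left (tt _ _))
    (((tt _ _).mul_left (tt _ _)).mul_left (tt _ _))

open Model in
theorem evQ_qmul (a b : ℕ) : F.evQ a * F.evQ b = F.evQ (qmul a b) := by
  have sA : ∀ a b : ℕ, F.evA a * F.evA b = F.evA (a ^^^ b) := fun a b => by
    simp only [evA, Nat.testBit_xor]
    exact four (F.Psi_sq _) (F.Psi_sq _) (F.Psi_sq _) (F.Psi_sq _) (F.x_comm (by decide)) (F.x_comm (by decide))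
      (F.x_comm (by decide)) (F.x_comm (by decide)) (F.x_comm (by decide)) (F.x_comm (by decide)) _ _ _ _ _ _ _ _
  have sB : ∀ a b : ℕ, F.evB a * F.evB b = F.evB (a ^^^ b) := fun a b => by
    simp only [evB, Nat.testBit_xor]
    exact four (F.Psi_sq _) (F.Psi_sq _) (F.Psi_sq _) (F.Psi_sq _) (F.x_comm (by decide)) (F.x_comm (by decide))
      (F.x_comm (by decide)) (F.x_comm (by decide)) (F.x_comm (by decide)) (F.x_comm (by decide)) _ _ _ _ _ _ _ _
  have ct : ∀ {z : G}, z ∈ S.Q → ∀ c, Commute (pw S.t c) z := fun {z} hz c => by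
    cases c
    · exact Commute.one_left _
    · exact (S.Q_comm hz).symm
  obtain ⟨κ, hκ⟩ : ∃ κ, κ = xor (xor (a.testBit 4 && b.testBit 3) (a.testBit 5 && b.testBit 2))
      (xor (a.testBit 6 && b.testBit 1) (a.testBit 7 && b.testBit 0)) := ⟨_, rfl⟩
  have main : F.evQ a * F.evQ b =
      F.evA (a ^^^ b) * F.evB (a ^^^ b) * pw S.t (xor κ (xor (a.testBit 8) (b.testBit 8))) := by
    rw [← sA, ← sB, ← pw_mul S.t_sq, ← pw_mul S.t_sq]
    simp only [evQ]
    generalize hA : F.evA a = A, hA' : F.evA b = A', hB : F.evB a = B, hB' : F.evB b = B'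
    have mA : A ∈ S.Q := hA ▸ F.evA_mem a
    have mA' : A' ∈ S.Q := hA' ▸ F.evA_mem b
    have mB : B ∈ S.Q := hB ▸ F.evB_mem a
    have mB' : B' ∈ S.Q := hB' ▸ F.evB_mem b
    have hBA : B * A' = pw S.t κ * (A' * B) := by rw [hκ, ← hA', ← hB]; exact F.B_mul_A a b
    calc A * B * pw S.t (a.testBit 8) * (A' * B' * pw S.t (b.testBit 8))
        = A * B * (pw S.t (a.testBit 8) * (A' * B')) * pw S.t (b.testBit 8) := by group
      _ = A * (B * A') * B' * (pw S.t (a.testBit 8) * pw S.t (b.testBit 8)) := by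
          rw [(ct (mul_mem mA' mB') _).eq]; group
      _ = A * (pw S.t κ * (A' * B * B')) * (pw S.t (a.testBit 8) * pw S.t (b.testBit 8)) := by rw [hBA]; group
      _ = _ := by rw [(ct (mul_mem (mul_mem mA' mB) mB') _).eq]; group
  rw [main, qmul, ← hκ]
  have b256 : Nat.testBit 256 0 = false ∧ Nat.testBit 256 1 = false ∧ Nat.testBit 256 2 = false ∧
      Nat.testBit 256 3 = false ∧ Nat.testBit 256 4 = false ∧ Nat.testBit 256 5 = false ∧
      Nat.testBit 256 6 = false ∧ Nat.testBit 256 7 = false ∧ Nat.testBit 256 8 = true := by decide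
  obtain ⟨g0, g1, g2, g3, g4, g5, g6, g7, g8⟩ := b256
  rcases Bool.eq_false_or_eq_true κ with e | e
  · simp only [e, if_true, evQ, evA, evB, Nat.testBit_xor, g0, g1, g2, g3, g4, g5, g6, g7, g8,
      Bool.xor_false, Bool.xor_true, Bool.true_xor]
  · simp only [e, Bool.false_eq_true, if_false, evQ, evA, evB, Nat.testBit_xor, Bool.false_xor]

theorem evQ_zero : F.evQ 0 = 1 := by simp [evQ, evA, evB, pw]

theorem evQ_t : F.evQ 256 = S.t := by
  simp [evQ, evA, evB, pw, Nat.testBit_eq_decide_div_mod_eq]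

theorem evQ_two_pow (T : Fin 8) : F.evQ (2 ^ T.val) = F.x T := by
  fin_cases T <;> simp [evQ, evA, evB, pw, Nat.testBit_eq_decide_div_mod_eq]

/-- the translate with natural coordinates -/
def P3 (a b c : ℕ) : G := F.Psi ((Fin.ofNat 3 a), (Fin.ofNat 3 b), (Fin.ofNat 3 c))

open Model in
theorem evQ_pA : ∀ a < 3, ∀ b < 3, ∀ c < 3, F.evQ (pA a b c) = F.P3 a b c := by
  have base : ∀ a < 2, ∀ b < 2, ∀ c < 2, F.evQ (2 ^ (a + 2 * b + 4 * c)) = F.P3 a b c := by
    intro a ha b hb c hc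
    interval_cases a <;> interval_cases b <;> interval_cases c
    exacts [F.evQ_two_pow 0, F.evQ_two_pow 4, F.evQ_two_pow 2, F.evQ_two_pow 6, F.evQ_two_pow 1,
      F.evQ_two_pow 5, F.evQ_two_pow 3, F.evQ_two_pow 7]
  have hC : ∀ a < 2, ∀ b < 2, ∀ c < 3, F.evQ (pC a b c) = F.P3 a b c := by
    intro a ha b hb c hc
    by_cases h2 : c = 2
    · subst h2
      rw [pC, if_pos rfl, ← F.evQ_qmul]
      exact (congrArg₂ (· * ·) (base a ha b hb 0 (by norm_num)) (base a ha b hb 1 (by norm_num))).trans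
        (F.Psi_two (Fin.ofNat 3 a) (Fin.ofNat 3 b)).2.2.symm
    · rw [pC, if_neg h2]; exact base a ha b hb c (by omega)
  have hB : ∀ a < 2, ∀ b < 3, ∀ c < 3, F.evQ (pB a b c) = F.P3 a b c := by
    intro a ha b hb c hc
    by_cases h2 : b = 2
    · subst h2
      rw [pB, if_pos rfl, ← F.evQ_qmul, hC a ha 0 (by norm_num) c hc, hC a ha 1 (by norm_num) c hc]
      exact (F.Psi_two (Fin.ofNat 3 a) (Fin.ofNat 3 c)).2.1.symm
    · rw [pB, if_neg h2]; exact hC a ha b (by omega) c hc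
  intro a ha b hb c hc
  by_cases h2 : a = 2
  · subst h2
    rw [pA, if_pos rfl, ← F.evQ_qmul, hB 0 (by norm_num) b hb c hc, hB 1 (by norm_num) b hb c hc]
    exact (F.Psi_two (Fin.ofNat 3 b) (Fin.ofNat 3 c)).1.symm
  · rw [pA, if_neg h2]; exact hB a (by omega) b hb c hc

open Model in
theorem act_spec {s : ℕ} (hs : s < 216) (n : ℕ) :
    F.k (dec s) * F.evQ n * (F.k (dec s))⁻¹ = F.evQ (act s n) := by
  have himg : ∀ T : Fin 8, F.k (dec s) * F.x T * (F.k (dec s))⁻¹ = F.evQ (img s T.val) := by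
    intro T
    obtain ⟨a1, a2⟩ := d3_pt (s % 6) (by omega) (T.val % 2) (by omega)
    obtain ⟨b1, b2⟩ := d3_pt (s / 6 % 6) (by omega) (T.val / 2 % 2) (by omega)
    obtain ⟨c1, c2⟩ := d3_pt (s / 36) (by omega) (T.val / 4) (by omega)
    rw [img, F.evQ_pA _ a1 _ b1 _ c1]
    refine F.Psi_conj (x := (tr (Fin.ofNat 3 (pt (s % 6) (T.val % 2)), Fin.ofNat 3 (pt (s / 6 % 6) (T.val / 2 % 2)),
      Fin.ofNat 3 (pt (s / 36) (T.val / 4))))⁻¹ * (dec s * tr (Mod.bit T))) ?_ (mul_inv_cancel_left _ _).symm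
    refine ⟨?_, ?_, ?_⟩ <;>
      simp only [tr, dec, Mod.bit, Prod.fst_mul, Prod.snd_mul, Prod.inv_mk, Fin.val_ofNat] <;>
      simp only [Nat.mod_eq_of_lt a1, Nat.mod_eq_of_lt b1, Nat.mod_eq_of_lt c1, ← mul_assoc] <;>
      assumption
  have hT : ∀ (T : Fin 8) (j : ℕ), T.val = j → F.k (dec s) * pw (F.x T) (n.testBit j) * (F.k (dec s))⁻¹ =
      F.evQ (actT s n j) := by
    rintro T _ rfl
    rcases Bool.eq_false_or_eq_true (n.testBit T.val) with e | e <;> simp [actT, pw, e, F.evQ_zero, himg T]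
  have ht : F.k (dec s) * pw S.t (n.testBit 8) * (F.k (dec s))⁻¹ = F.evQ (if n.testBit 8 then 256 else 0) := by
    rcases Bool.eq_false_or_eq_true (n.testBit 8) with e | e <;>
      simp [pw, e, F.evQ_zero, F.evQ_t, S.mem_C.1 (F.k_mem (dec s))]
  rw [act, ← F.evQ_qmul, ← F.evQ_qmul, ← F.evQ_qmul, ← F.evQ_qmul, ← F.evQ_qmul, ← F.evQ_qmul, ← F.evQ_qmul,
    ← F.evQ_qmul, ← hT 0 0 rfl, ← hT 1 1 rfl, ← hT 2 2 rfl, ← hT 3 3 rfl, ← hT 4 4 rfl, ← hT 5 5 rfl, ← hT 6 6 rfl,
    ← hT 7 7 rfl, ← ht]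
  simp only [evQ, evA, evB]
  group

/-- the element of `C(t)` with code `m` -/
def el (m : ℕ) : G := F.evQ (m % 512) * F.k (Model.dec (m / 512))

theorem dec_mul {s r : ℕ} (hs : s < 216) (hr : r < 216) :
    Model.tmul s r < 216 ∧ Model.dec (Model.tmul s r) = Model.dec s * Model.dec r := by
  obtain ⟨a, a'⟩ := Model.d3_mul (s % 6) (by omega) (r % 6) (by omega)
  obtain ⟨b, b'⟩ := Model.d3_mul (s / 6 % 6) (by omega) (r / 6 % 6) (by omega)
  obtain ⟨c, c'⟩ := Model.d3_mul (s / 36) (by omega) (r / 36) (by omega)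
  simp only [Model.dec, Model.tmul, Prod.mk_mul_mk, ← a', ← b', ← c']
  generalize Model.sm (s % 6) (r % 6) = x, Model.sm (s / 6 % 6) (r / 6 % 6) = y,
    Model.sm (s / 36) (r / 36) = z at a b c ⊢
  exact ⟨by omega, by rw [show (x + 6 * y + 36 * z) % 6 = x by omega,
    show (x + 6 * y + 36 * z) / 6 % 6 = y by omega, show (x + 6 * y + 36 * z) / 36 = z by omega]⟩

theorem qmul_lt {a b : ℕ} (ha : a < 512) (hb : b < 512) : Model.qmul a b < 512 := by
  have h : a ^^^ b < 2 ^ 9 := Nat.xor_lt_two_pow ha hb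
  rw [Model.qmul]
  split
  · exact Nat.xor_lt_two_pow (n := 9) h (by norm_num)
  · exact h

theorem mul_lt {m n : ℕ} (hm : m < 110592) (hn : n < 110592) : Model.mul m n < 110592 := by
  have h1 := (dec_mul (s := m / 512) (r := n / 512) (by omega) (by omega)).1
  have hact : Model.act (m / 512) (n % 512) < 512 := by
    have hp : ∀ a < 3, ∀ b < 3, ∀ c < 3, Model.pA a b c < 512 := by decide +kernel
    have hi : ∀ T, T < 8 → Model.actT (m / 512) (n % 512) T < 512 := by
      intro T hT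
      rw [Model.actT]
      split
      · exact hp _ (Nat.mod_lt _ (by norm_num)) _ (Nat.mod_lt _ (by norm_num)) _ (Nat.mod_lt _ (by norm_num))
      · norm_num
    simp only [Model.act]
    refine qmul_lt (qmul_lt (qmul_lt (qmul_lt (qmul_lt (qmul_lt (qmul_lt (qmul_lt (hi 0 ?_) (hi 1 ?_)) (hi 2 ?_))
      (hi 3 ?_)) (hi 4 ?_)) (hi 5 ?_)) (hi 6 ?_)) (hi 7 ?_)) (by split <;> norm_num) <;> norm_num
  have h2 := qmul_lt (a := m % 512) (Nat.mod_lt _ (by norm_num)) hact
  rw [Model.mul]; omega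

theorem el_mem (m : ℕ) : F.el m ∈ S.C := mul_mem (S.Q_le (F.evQ_mem _)) (F.k_mem _)

theorem im_el (m : ℕ) : S.im (F.el m) = Model.dec (m / 512) := by
  rw [el, S.im_mul (S.Q_le (F.evQ_mem _)) (F.k_mem _), S.im_Q (F.evQ_mem _), F.im_k, one_mul]

theorem el_mul {m n : ℕ} (hm : m < 110592) (hn : n < 110592) : F.el (Model.mul m n) = F.el m * F.el n := by
  obtain ⟨h1, h2⟩ := dec_mul (s := m / 512) (r := n / 512) (by omega) (by omega)
  have hlt := mul_lt hm hn
  have e1 : Model.mul m n % 512 = Model.qmul (m % 512) (Model.act (m / 512) (n % 512)) := by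
    have := qmul_lt (a := m % 512) (b := Model.act (m / 512) (n % 512)) (Nat.mod_lt _ (by norm_num))
    rw [Model.mul, Nat.add_mul_mod_self_left, Nat.mod_eq_of_lt]
    refine this ?_
    by_contra hge
    push Not at hge
    have hp : ∀ a < 3, ∀ b < 3, ∀ c < 3, Model.pA a b c < 512 := by decide +kernel
    have hi : ∀ T, T < 8 → Model.actT (m / 512) (n % 512) T < 512 := by
      intro T hT
      rw [Model.actT]
      split
      · exact hp _ (Nat.mod_lt _ (by norm_num)) _ (Nat.mod_lt _ (by norm_num)) _ (Nat.mod_lt _ (by norm_num))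
      · norm_num
    refine absurd hge (not_le.2 ?_)
    simp only [Model.act]
    refine qmul_lt (qmul_lt (qmul_lt (qmul_lt (qmul_lt (qmul_lt (qmul_lt (qmul_lt (hi 0 ?_) (hi 1 ?_)) (hi 2 ?_))
      (hi 3 ?_)) (hi 4 ?_)) (hi 5 ?_)) (hi 6 ?_)) (hi 7 ?_)) (by split <;> norm_num) <;> norm_num
  have e2 : Model.mul m n / 512 = Model.tmul (m / 512) (n / 512) := by
    have := Nat.mod_add_div (Model.mul m n) 512
    rw [e1] at this
    simp only [Model.mul] at this ⊢
    omega
  rw [el, e1, e2, h2, map_mul, ← F.evQ_qmul, ← F.act_spec (by omega) (n % 512), el, el]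
  group

theorem el_of_lt {n : ℕ} (hn : n < 512) : F.el n = F.evQ n := by
  rw [el, Nat.mod_eq_of_lt hn, Nat.div_eq_of_lt hn, show Model.dec 0 = 1 by decide, map_one, mul_one]

theorem el_zero : F.el 0 = 1 := by rw [F.el_of_lt (by norm_num), F.evQ_zero]

theorem el_t : F.el 256 = S.t := by rw [F.el_of_lt (by norm_num), F.evQ_t]

theorem el_one : F.el 1 = F.q := by
  rw [F.el_of_lt (by norm_num), show (1 : ℕ) = 2 ^ (0 : Fin 8).val from rfl, F.evQ_two_pow]
  exact F.Psi_zero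

theorem el_k {s : ℕ} : F.el (512 * s) = F.k (Model.dec s) := by
  rw [el, Nat.mul_mod_right, Nat.mul_div_cancel_left _ (by norm_num), F.evQ_zero, one_mul]

theorem el_inv {m n : ℕ} (hm : m < 110592) (hn : n < 110592) (h : Model.mul m n = 0) : (F.el m)⁻¹ = F.el n :=
  inv_eq_of_mul_eq_one_right (by rw [← F.el_mul hm hn, h, F.el_zero])

theorem cl_evQ (n : ℕ) :
    S.cl (F.evQ n) = F.M.lin fun T => if n.testBit T.val then 1 else 0 := by
  have one : ∀ (T : Fin 8) (b : Bool),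
      S.cl (pw (F.x T) b) = if (if b then (1 : ZMod 2) else 0) = 0 then 0 else F.M.psi (Mod.bit T) := fun T b => by
    cases b
    · simp [pw, S.cl_one]
    · simp [pw, x, F.cl_Psi]
  have ht : ∀ b, S.cl (pw S.t b) = 0 := fun b => by cases b <;> simp [pw, S.cl_one, S.cl_t]
  have mx : ∀ i b, pw (F.x i) b ∈ S.Q := fun i b => pw_mem (F.x_mem i) b
  rw [evQ, S.cl_mul (mul_mem (F.evA_mem n) (F.evB_mem n)) (pw_mem S.t_mem _), S.cl_mul (F.evA_mem n) (F.evB_mem n),
    evA, evB, S.cl_mul (mul_mem (mul_mem (mx _ _) (mx _ _)) (mx _ _)) (mx _ _),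
    S.cl_mul (mul_mem (mx _ _) (mx _ _)) (mx _ _), S.cl_mul (mx _ _) (mx _ _),
    S.cl_mul (mul_mem (mul_mem (mx _ _) (mx _ _)) (mx _ _)) (mx _ _),
    S.cl_mul (mul_mem (mx _ _) (mx _ _)) (mx _ _), S.cl_mul (mx _ _) (mx _ _), ht,
    one, one, one, one, one, one, one, one, add_zero, Mod.lin, Fin.sum_univ_eight]
  simp only [Fin.val_zero, Fin.val_one, Fin.val_two, Fin.isValue]
  abel

theorem el_surj {c : G} (hc : c ∈ S.C) : ∃ m < 110592, F.el m = c := by
  obtain ⟨a, ha, ea⟩ := Model.d3_surj (S.im c).1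
  obtain ⟨b, hb, eb⟩ := Model.d3_surj (S.im c).2.1
  obtain ⟨d, hd, ed⟩ := Model.d3_surj (S.im c).2.2
  set s := a + 6 * b + 36 * d with hs
  have hdec : Model.dec s = S.im c := by
    simp only [Model.dec, hs]
    rw [show (a + 6 * b + 36 * d) % 6 = a by omega, show (a + 6 * b + 36 * d) / 6 % 6 = b by omega,
      show (a + 6 * b + 36 * d) / 36 = d by omega, ea, eb, ed]
  have hy : c * (F.k (Model.dec s))⁻¹ ∈ S.Q := S.mul_inv_mem_Q hc (F.k_mem _) (by rw [F.im_k, hdec])
  obtain ⟨co, hco⟩ := F.M.lin_surj (S.cl (c * (F.k (Model.dec s))⁻¹))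
  obtain ⟨hlt, hbit⟩ := Model.bitsOf_spec co
  have hcl : S.cl (F.evQ (Model.bitsOf co)) = S.cl (c * (F.k (Model.dec s))⁻¹) := by
    rw [F.cl_evQ, ← hco]
    congr 1
    funext T
    rcases z2_cases (co T) with e | e
    · rw [if_neg (fun h => by rw [(hbit T).1 h] at e; exact one_ne_zero e), e]
    · rw [if_pos ((hbit T).2 e), e]
  rcases (S.cl_eq_cl (F.evQ_mem _) hy).1 hcl with e | e
  · refine ⟨Model.bitsOf co + 512 * s, by omega, ?_⟩
    rw [el, show (Model.bitsOf co + 512 * s) % 512 = Model.bitsOf co by omega,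
      show (Model.bitsOf co + 512 * s) / 512 = s by omega, ← e, inv_mul_cancel_right]
  · refine ⟨Model.qmul 256 (Model.bitsOf co) + 512 * s, ?_, ?_⟩
    · have := qmul_lt (a := 256) (b := Model.bitsOf co) (by norm_num) (by omega)
      omega
    · have := qmul_lt (a := 256) (b := Model.bitsOf co) (by norm_num) (by omega)
      rw [el, show (Model.qmul 256 (Model.bitsOf co) + 512 * s) % 512 = Model.qmul 256 (Model.bitsOf co) by omega,
        show (Model.qmul 256 (Model.bitsOf co) + 512 * s) / 512 = s by omega, ← F.evQ_qmul, F.evQ_t, ← e,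
        inv_mul_cancel_right]

theorem el_inj {m n : ℕ} (hm : m < 110592) (hn : n < 110592) (h : F.el m = F.el n) : m = n := by
  have him := (F.im_el m).symm.trans ((congrArg S.im h).trans (F.im_el n))
  simp only [Model.dec, Prod.mk.injEq] at him
  have a := Model.d3_inj _ (by omega) _ (by omega) him.1
  have b := Model.d3_inj _ (by omega) _ (by omega) him.2.1
  have c := Model.d3_inj _ (by omega) _ (by omega) him.2.2
  have hs : m / 512 = n / 512 := by omega
  have hq : F.evQ (m % 512) = F.evQ (n % 512) := by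
    rw [el, el, hs] at h
    exact mul_right_cancel h
  have hl := congrArg S.cl hq
  rw [F.cl_evQ, F.cl_evQ] at hl
  have hbit : ∀ T : Fin 8, (m % 512).testBit T.val = (n % 512).testBit T.val := fun T => by
    have h1 := congrArg (fun v => F.M.B (F.M.psi (Mod.bit (7 - T))) v) hl
    simp only [F.M.B_compl_lin] at h1
    revert h1
    generalize (m % 512).testBit T.val = u, (n % 512).testBit T.val = v
    cases u <;> cases v <;> simp
  have h256 : m % 512 % 256 = n % 512 % 256 := by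
    refine Nat.eq_of_testBit_eq fun i => ?_
    rw [show (256 : ℕ) = 2 ^ 8 from rfl, Nat.testBit_mod_two_pow, Nat.testBit_mod_two_pow]
    rcases Nat.lt_or_ge i 8 with hi | hi
    · simp [hi, hbit ⟨i, hi⟩]
    · simp [not_lt.2 hi]
  have h8 : (m % 512).testBit 8 = (n % 512).testBit 8 := by
    have e := hq
    simp only [evQ, evA, evB] at e
    simp only [show ∀ i, i < 8 → (m % 512).testBit i = (n % 512).testBit i from fun i hi => hbit ⟨i, hi⟩,
      Nat.lt_add_one, show (0 : ℕ) < 8 by norm_num, show (1 : ℕ) < 8 by norm_num, show (2 : ℕ) < 8 by norm_num,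
      show (3 : ℕ) < 8 by norm_num, show (4 : ℕ) < 8 by norm_num, show (5 : ℕ) < 8 by norm_num,
      show (6 : ℕ) < 8 by norm_num, show (7 : ℕ) < 8 by norm_num, mul_left_cancel_iff] at e
    revert e
    generalize (m % 512).testBit 8 = u, (n % 512).testBit 8 = v
    cases u <;> cases v <;> simp [pw, S.t_ne, S.t_ne.symm]
  have := Model.split_bit8 (m % 512) (Nat.mod_lt _ (by norm_num))
  have := Model.split_bit8 (n % 512) (Nat.mod_lt _ (by norm_num))
  rw [h8, h256] at *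
  omega

end Frame

end CfsgLib.OmegaPlusEight
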