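import Cfsg.Agent.Lib.OmegaPlusEight.ModQ
import Mathlib.GroupTheory.NoncommCoprod

/-!
A frame: a conjugate `q ≠ t` of `t` in `Q` and a complement `Sym(3)³` to `Q` in `C(t)` whose
involutions fixing the origin centralise `q` and lie in `O₂(C(q))`.
-/

set_option autoImplicit false
set_option maxRecDepth 4000
set_option linter.unusedSectionVars false
set_option linter.style.haveILetI false

namespace CfsgLib.OmegaPlusEight

open Subgroup

theorem ι_rot_pow_three : ∀ i : Fin 3, ι i rot ^ 3 = 1 := by decide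

theorem ι_conj_sig : ∀ i : Fin 3, ι i sig * ι i rot * (ι i sig)⁻¹ = (ι i rot)⁻¹ := by decide

theorem ι_rot_tr : ∀ l : Fin 3,
    ι l rot = tr (if l = 0 then 1 else 0, if l = 1 then 1 else 0, if l = 2 then 1 else 0) := by decide

theorem card_cube_top : (Finset.univ.filter fun s : Top => s ^ 3 = 1).card = 27 := by decide +kernel

/-- the element of `Sym(3)` as `rot^r sig^f` -/
def rf (s : S3) : ℕ × ℕ :=
  ((s 0).val, if s = rot ^ (s 0).val then 0 else 1)

theorem rf_spec : ∀ s : S3, s = rot ^ (rf s).1 * sig ^ (rf s).2 := by decide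

/-- A dihedral triple gives a homomorphism from `Sym(3)`. -/
noncomputable def s3Hom {G : Type*} [Group G] (T a : G) (hT : T ^ 3 = 1) (ha : a * a = 1)
    (hi : a * T * a = T⁻¹) : S3 →* G where
  toFun s := T ^ (rf s).1 * a ^ (rf s).2
  map_one' := by rw [show rf 1 = (0, 0) by decide]; simp
  map_mul' x y := by
    have key : ∀ x y : S3, ((rf x).2 = 0 ∧ (rf (x * y)).1 = ((rf x).1 + (rf y).1) % 3 ∧
          (rf (x * y)).2 = (rf y).2) ∨
        ((rf x).2 = 1 ∧ (rf (x * y)).1 = ((rf x).1 + 2 * (rf y).1) % 3 ∧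
          (rf (x * y)).2 = ((rf y).2 + 1) % 2) := by decide
    have hTn : ∀ n, T ^ (n % 3) = T ^ n := fun n => (pow_eq_pow_mod n hT).symm
    have han : ∀ n, a ^ (n % 2) = a ^ n := fun n => (pow_eq_pow_mod n (by rw [pow_two, ha])).symm
    have haT : ∀ n, a * T ^ n = T ^ (2 * n) * a := by
      have h1 : a * T = T ^ 2 * a := by
        calc a * T = a * T * a * a := by rw [mul_assoc _ a a, ha, mul_one]
          _ = T⁻¹ * a := by rw [hi]
          _ = _ := by
            rw [show T⁻¹ = T ^ 2 from inv_eq_of_mul_eq_one_right (by rw [← pow_succ', hT])]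
      intro n
      induction n with
      | zero => simp
      | succ n ih => rw [pow_succ, ← mul_assoc, ih, mul_assoc, h1, ← mul_assoc, ← pow_add]; ring_nf
    rcases key x y with ⟨e0, e1, e2⟩ | ⟨e0, e1, e2⟩ <;> rw [e0, e1, e2, hTn]
    · rw [pow_zero, mul_one, ← mul_assoc, ← pow_add]
    · rw [han, pow_one, pow_succ', pow_add]
      simp only [mul_assoc]
      rw [← mul_assoc a (T ^ (rf y).1), haT, mul_assoc]

/-- A frame at `t`. -/
structure Frame {G : Type*} [Group G] [Finite G] (S : Setup G) where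
  /-- the pair -/
  S' : Setup G
  pair : Setup.Pair S S'
  hX : ∀ i, ι i sig ∈ Setup.X S S'
  /-- the complement -/
  k : Top →* G
  k_mem : ∀ s, k s ∈ S.C
  im_k : ∀ s, S.im (k s) = s
  k_sig : ∀ i, k (ι i sig) ∈ S'.Q
  k_q : ∀ i, k (ι i sig) * S'.t * (k (ι i sig))⁻¹ = S'.t
  rel : ∀ i, S'.t * (k (ι i rot) * S'.t * (k (ι i rot))⁻¹) *
    (k (ι i rot) * (k (ι i rot) * S'.t * (k (ι i rot))⁻¹) * (k (ι i rot))⁻¹) = 1

namespace Setup

variable {G : Type*} [Group G] [Finite G] {S S' : Setup G}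

/-- Commuting lifts of order three. -/
theorem exists_three : ∃ T : Fin 3 → G, (∀ i, T i ∈ S.C ∧ S.im (T i) = ι i rot ∧ T i ^ 3 = 1) ∧
    ∀ i j, T i * T j = T j * T i := by
  classical
  haveI : Fact (Nat.Prime 3) := ⟨Nat.prime_three⟩
  have hcard : Nat.card ↥S.C = 512 * 216 := by
    have h1 := card_eq_card_quotient_mul_card_subgroup S.img.ker
    have hQ : Nat.card S.img.ker = 512 := by
      rw [← S.card_Q]
      refine Nat.card_congr ⟨fun x => ⟨x.1.1, (S.mem_iff _).2 ⟨x.1.2, x.2⟩⟩,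
        fun q => ⟨⟨q.1, S.Q_le q.2⟩, (S.im_eq (S.Q_le q.2)).symm.trans (S.im_Q q.2)⟩, fun _ => rfl, fun _ => rfl⟩
    rw [hQ, Nat.card_congr (QuotientGroup.quotientKerEquivOfSurjective S.img S.img_surj).toEquiv] at h1
    have h216 : Nat.card Top = 216 := by simp [Top, S3, Fintype.card_perm, Nat.factorial]
    rw [h216, mul_comm] at h1
    exact h1
  let P : Sylow 3 ↥S.C := default
  have hP : Nat.card P = 27 := by
    rw [P.card_eq_multiplicity, hcard]
    have : (512 * 216).factorization 3 = 3 := by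
      rw [Nat.factorization_def _ Nat.prime_three,
        show 512 * 216 = 3 ^ 3 * 4096 by norm_num, padicValNat.mul (by norm_num) (by norm_num),
        padicValNat.prime_pow, padicValNat.eq_zero_of_not_dvd (by norm_num : ¬ 3 ∣ 4096)]
    rw [this]; norm_num
  have hker : ∀ x : ↥(P : Subgroup ↥S.C), S.im (x : ↥S.C) = 1 → x = 1 := by
    intro x hx
    obtain ⟨k, hk⟩ := S.pow_two_pow (S.mem_Q.2 ⟨(x : ↥S.C).2, hx⟩)
    obtain ⟨l, hl⟩ := P.isPGroup' x
    have hg : ((x : ↥S.C) : G) ^ 3 ^ l = 1 := by simpa using congrArg (fun z : ↥(P : Subgroup ↥S.C) => ((z : ↥S.C) : G)) hl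
    have : ((x : ↥S.C) : G) ^ Nat.gcd (2 ^ k) (3 ^ l) = 1 := pow_gcd_eq_one.2 ⟨hk, hg⟩
    rw [Nat.Coprime.pow k l (by norm_num : Nat.Coprime 2 3), pow_one] at this
    exact Subtype.ext (Subtype.ext this)
  have himmul : ∀ x y : ↥(P : Subgroup ↥S.C),
      S.im ((x * y : ↥(P : Subgroup ↥S.C)) : ↥S.C) = S.im (x : ↥S.C) * S.im (y : ↥S.C) :=
    fun x y => S.im_mul (x : ↥S.C).2 (y : ↥S.C).2
  haveI : Fintype ↥(P : Subgroup ↥S.C) := Fintype.ofFinite _
  let f : ↥(P : Subgroup ↥S.C) →* Top := MonoidHom.mk' (fun x => S.im (x : ↥S.C)) himmul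
  have hf : Function.Injective f := (injective_iff_map_eq_one f).2 hker
  have hcube : ∀ x, f x ^ 3 = 1 := by
    intro x
    have h27 : x ^ 27 = 1 := by rw [← hP]; exact pow_card_eq_one'
    have h1 : f x ^ 27 = 1 := by rw [← map_pow, h27, map_one]
    have : f x ^ Nat.gcd 27 6 = 1 := pow_gcd_eq_one.2 ⟨h1, top_pow_six _⟩
    simpa using this
  have hsurj : ∀ s : Top, s ^ 3 = 1 → ∃ x, f x = s := by
    intro s hs
    have hsub : Finset.univ.image f ⊆ Finset.univ.filter (fun s : Top => s ^ 3 = 1) := fun r hr => by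
      obtain ⟨x, -, rfl⟩ := Finset.mem_image.1 hr
      exact Finset.mem_filter.2 ⟨Finset.mem_univ _, hcube x⟩
    have heq := Finset.eq_of_subset_of_card_le hsub (by
      rw [card_cube_top, Finset.card_image_of_injective _ hf, Finset.card_univ, ← Nat.card_eq_fintype_card]
      exact hP.ge)
    have : s ∈ Finset.univ.image f := heq ▸ Finset.mem_filter.2 ⟨Finset.mem_univ _, hs⟩
    obtain ⟨x, -, hx⟩ := Finset.mem_image.1 this
    exact ⟨x, hx⟩
  choose x hx using fun i => hsurj (ι i rot) (ι_rot_pow_three i)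
  refine ⟨fun i => (x i : ↥S.C), fun i => ⟨(x i : ↥S.C).2, hx i, ?_⟩, fun i j => ?_⟩
  · have : x i ^ 3 = 1 := hf (by rw [map_pow, hcube, map_one])
    simpa using congrArg (fun z : ↥(P : Subgroup ↥S.C) => ((z : ↥S.C) : G)) this
  · have hc : ∀ i j : Fin 3, ι i rot * ι j rot = ι j rot * ι i rot := by decide
    have : x i * x j = x j * x i := hf (by rw [map_mul, map_mul, hx i, hx j, hc])
    simpa using congrArg (fun z : ↥(P : Subgroup ↥S.C) => ((z : ↥S.C) : G)) this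

namespace Pair

variable (h : Pair S S') (hX : ∀ i, ι i sig ∈ X S S')
include h hX

/-- A lift of order three centralises only `⟨t⟩` in `Q`. -/
theorem fixed_of_commute {i : Fin 3} {T x : G} (hT : T ∈ S.C) (hTi : S.im T = ι i rot) (hx : x ∈ S.Q)
    (hc : T * x = x * T) : x = 1 ∨ x = S.t := by
  rw [← S.cl_eq_zero hx]
  let M := h.toMod hX
  have hfix : M.ρ (ι i rot) (S.cl x) = S.cl x := by
    change S.rho _ _ = _
    rw [← hTi, S.rho_im hT hx, hc, mul_inv_cancel_right]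
  refine M.ext_B fun U => ?_
  rw [M.B_comm 0, M.B_zero]
  have sh : ∀ v, M.B (S.cl x) (M.ρ (ι i rot) v) = M.B (S.cl x) v := fun v => by
    conv_lhs => rw [← hfix]
    rw [M.B_act]
  have e : ∀ (i : Fin 3) (u : Fin 3 × Fin 3 × Fin 3), ι i rot * tr u =
      tr (if i = 0 then u.1 + 1 else u.1, if i = 1 then u.2.1 + 1 else u.2.1,
        if i = 2 then u.2.2 + 1 else u.2.2) := by decide
  have st : ∀ u, M.B (S.cl x) (M.psi (if i = 0 then u.1 + 1 else u.1, if i = 1 then u.2.1 + 1 else u.2.1,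
      if i = 2 then u.2.2 + 1 else u.2.2)) = M.B (S.cl x) (M.psi u) := fun u => by
    rw [← sh (M.psi u), Mod.psi, Mod.psi, ← M.act_mul, e]
  obtain ⟨u1, u2, u3⟩ := Mod.bit U
  fin_cases i <;>
    simp only [Fin.isValue, Fin.zero_eta, Fin.mk_one, Fin.reduceFinMk, if_true, if_false, zero_ne_one, one_ne_zero,
      show (0 : Fin 3) ≠ 2 by decide, show (1 : Fin 3) ≠ 2 by decide, show (2 : Fin 3) ≠ 0 by decide,
      show (2 : Fin 3) ≠ 1 by decide] at st
  · have h0 := st (0, u2, u3); have h1 := st (1, u2, u3)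
    simp only [show (0 : Fin 3) + 1 = 1 by decide, show (1 : Fin 3) + 1 = 2 by decide, (M.psi_two u2 u3).1,
      M.B_add] at h0 h1
    rw [h0, z2_add_self] at h1
    fin_cases u1 <;>
      simp only [Fin.isValue, Fin.zero_eta, Fin.mk_one, Fin.reduceFinMk, (M.psi_two u2 u3).1, M.B_add] <;>
      simp_all
  · have h0 := st (u1, 0, u3); have h1 := st (u1, 1, u3)
    simp only [show (0 : Fin 3) + 1 = 1 by decide, show (1 : Fin 3) + 1 = 2 by decide, (M.psi_two u1 u3).2.1,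
      M.B_add] at h0 h1
    rw [h0, z2_add_self] at h1
    fin_cases u2 <;>
      simp only [Fin.isValue, Fin.zero_eta, Fin.mk_one, Fin.reduceFinMk, (M.psi_two u1 u3).2.1, M.B_add] <;>
      simp_all
  · have h0 := st (u1, u2, 0); have h1 := st (u1, u2, 1)
    simp only [show (0 : Fin 3) + 1 = 1 by decide, show (1 : Fin 3) + 1 = 2 by decide, (M.psi_two u1 u2).2.2,
      M.B_add] at h0 h1
    rw [h0, z2_add_self] at h1
    fin_cases u3 <;>
      simp only [Fin.isValue, Fin.zero_eta, Fin.mk_one, Fin.reduceFinMk, (M.psi_two u1 u2).2.2, M.B_add] <;>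
      simp_all

omit h hX in
theorem cube_tz {z : G} (hz : z * S.t = S.t * z) : (S.t * z) ^ 3 = S.t * z ^ 3 := by
  have : Commute S.t z := hz.symm
  rw [this.mul_pow, show S.t ^ 3 = S.t by rw [pow_succ, pow_two, S.t_sq, one_mul]]

/-- The involution lifts. -/
theorem exists_invol {T : Fin 3 → G} (hT : ∀ i, T i ∈ S.C ∧ S.im (T i) = ι i rot ∧ T i ^ 3 = 1)
    (hTc : ∀ i j, T i * T j = T j * T i)
    (i : Fin 3) : ∃ a : G, a ∈ S.C ∧ S.im a = ι i sig ∧ (∀ j, j ≠ i → a * T j = T j * a) ∧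
      a * T i * a⁻¹ = (T i)⁻¹ := by
  classical
  haveI : Fact (Nat.Prime 3) := ⟨Nat.prime_three⟩
  obtain ⟨j, k, hij, hik, hjk⟩ := Mod.third i
  haveI : Fintype G := Fintype.ofFinite G
  let L := {x : G // x ∈ S.C ∧ S.im x = ι i sig}
  have hmv : ∀ l, l ≠ i → ∀ x : L, T l * (x : G) * (T l)⁻¹ ∈ S.C ∧ S.im (T l * (x : G) * (T l)⁻¹) = ι i sig := by
    intro l hl x
    refine ⟨mul_mem (mul_mem (hT l).1 x.2.1) (inv_mem (hT l).1), ?_⟩
    rw [S.im_conj (hT l).1 x.2.1, x.2.2, (hT l).2.1, ← ι_comm i l hl.symm, mul_inv_cancel_right]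
  have hL : Fintype.card L = 512 := by
    obtain ⟨x0, hx0, hxi⟩ := S.exists_im (ι i sig)
    rw [← Nat.card_eq_fintype_card, ← S.card_Q]
    exact Nat.card_congr ⟨fun x => ⟨(x : G) * x0⁻¹, S.mul_inv_mem_Q x.2.1 hx0 (x.2.2.trans hxi.symm)⟩,
      fun q => ⟨(q : G) * x0, mul_mem (S.Q_le q.2) hx0,
        by rw [S.im_mul (S.Q_le q.2) hx0, S.im_Q q.2, one_mul, hxi]⟩,
      fun x => Subtype.ext (by simp), fun q => Subtype.ext (by simp)⟩
  let f : L → L := fun x => ⟨_, hmv j hij.symm x⟩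
  have hf3 : ∀ x, f (f (f x)) = x := fun x => Subtype.ext (by
    show T j * (T j * (T j * x * (T j)⁻¹) * (T j)⁻¹) * (T j)⁻¹ = x
    calc T j * (T j * (T j * (x : G) * (T j)⁻¹) * (T j)⁻¹) * (T j)⁻¹ = T j ^ 3 * x * (T j ^ 3)⁻¹ := by
          simp only [pow_succ, pow_zero, one_mul, mul_inv_rev, mul_assoc]
      _ = x := by rw [(hT j).2.2]; group)
  let σ : Equiv.Perm L := ⟨f, fun x => f (f x), hf3, hf3⟩
  obtain ⟨a, ha⟩ := Equiv.Perm.exists_fixed_point_of_prime (p := 3) (n := 1) (by rw [hL]; norm_num)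
    (show σ ^ 3 ^ 1 = 1 from Equiv.ext fun x => by
      rw [pow_one, pow_succ, pow_two]; exact hf3 x)
  have haj : (a : G) * T j = T j * a := (mul_inv_eq_iff_eq_mul.1 (congrArg Subtype.val ha : _ = (a : G))).symm
  have hak : (a : G) * T k = T k * a := by
    have hc : Commute (T j) (T k) := hTc j k
    set b := T k * (a : G) * (T k)⁻¹ with hb
    have hbL := hmv k hik.symm a
    have hq : b * (a : G)⁻¹ ∈ S.Q := S.mul_inv_mem_Q hbL.1 a.2.1 (hbL.2.trans a.2.2.symm)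
    have hbj : T j * (b * (a : G)⁻¹) = b * (a : G)⁻¹ * T j := by
      have ha' : Commute (T j) (a : G) := haj.symm
      exact ((hc.mul_right ha').mul_right hc.inv_right).mul_right ha'.inv_right
    rcases h.fixed_of_commute hX (hT j).1 (hT j).2.1 hq hbj with e | e
    · exact (mul_inv_eq_iff_eq_mul.1 ((mul_inv_eq_one.1 e) : T k * (a : G) * (T k)⁻¹ = a)).symm
    · exfalso
      have e' : T k * (a : G) * (T k)⁻¹ = S.t * a := mul_inv_eq_iff_eq_mul.1 e
      have ht : T k * S.t * (T k)⁻¹ = S.t := by rw [S.mem_C.1 (hT k).1]; group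
      have : T k ^ 3 * (a : G) * (T k ^ 3)⁻¹ = S.t * a := by
        calc _ = T k * (T k * (T k * (a : G) * (T k)⁻¹) * (T k)⁻¹) * (T k)⁻¹ := by
              simp only [pow_succ, pow_zero, one_mul, mul_inv_rev, mul_assoc]
          _ = T k * ((T k * S.t * (T k)⁻¹) * (T k * a * (T k)⁻¹)) * (T k)⁻¹ := by
            conv_lhs => rw [e']
            group
          _ = T k * ((S.t * S.t) * a) * (T k)⁻¹ := by rw [ht, e', ← mul_assoc S.t S.t]
          _ = _ := by rw [S.t_sq, one_mul, e']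
      rw [(hT k).2.2] at this
      simp only [one_mul, inv_one, mul_one] at this
      exact S.t_ne (mul_eq_right.1 this.symm)
  refine ⟨a, a.2.1, a.2.2, fun l hl => ?_, ?_⟩
  · rcases Mod.third_cases i j k l hij hik hjk with rfl | rfl | rfl
    exacts [absurd rfl hl, haj, hak]
  · set z := (a : G) * T i * (a : G)⁻¹ with hz
    have hzC : z ∈ S.C := mul_mem (mul_mem a.2.1 (hT i).1) (inv_mem a.2.1)
    have hsr := ι_conj_sig i
    have hzQ : z * T i ∈ S.Q := by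
      refine S.mem_Q.2 ⟨mul_mem hzC (hT i).1, ?_⟩
      rw [S.im_mul hzC (hT i).1, hz, S.im_conj a.2.1 (hT i).1, a.2.2, (hT i).2.1, hsr, inv_mul_cancel]
    have hci : Commute (T j) (T i) := hTc j i
    have ha' : Commute (T j) (a : G) := haj.symm
    have hcz : T j * (z * T i) = z * T i * T j :=
      ((ha'.mul_right hci).mul_right ha'.inv_right).mul_right hci
    rcases h.fixed_of_commute hX (hT j).1 (hT j).2.1 hzQ hcz with e | e
    · exact mul_eq_one_iff_eq_inv.1 e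
    · exfalso
      have e' : z = S.t * (T i)⁻¹ := eq_mul_inv_iff_mul_eq.2 e
      have h3 : z ^ 3 = 1 := by rw [hz, conj_pow, (hT i).2.2, mul_one, mul_inv_cancel]
      rw [e', cube_tz (S.mem_C.1 (inv_mem (hT i).1)), inv_pow, (hT i).2.2, inv_one, mul_one] at h3
      exact S.t_ne h3

/-- `T_l q T_l⁻¹` lies in `Q_q`. -/
theorem translate_mem_D {T : G} {l : Fin 3} (hT : T ∈ S.C) (hTl : S.im T = ι l rot) :
    T * S'.t * T⁻¹ ∈ D S S' := by
  let M := h.toMod hX
  obtain ⟨m, k, hlm, -, -⟩ := Mod.third l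
  have hxQ : T * S'.t * T⁻¹ ∈ S.Q := S.Q_conj hT h.mem
  let el : Fin 3 → Fin 3 × Fin 3 × Fin 3 := fun l =>
    (if l = 0 then 1 else 0, if l = 1 then 1 else 0, if l = 2 then 1 else 0)
  have hel : S.cl (T * S'.t * T⁻¹) = M.psi (el l) := by
    rw [← S.rho_im hT h.mem, hTl]
    rw [ι_rot_tr]; rfl
  obtain ⟨y, hy, hyv⟩ := S.cl_surj (M.psi (el l + el m))
  have hzero : ∀ l m : Fin 3, l ≠ m → Mod.fz (el l + el m) = 0 := by decide
  have hyP : y ∈ P S S' := ⟨hy, S'.mem_C.2 (by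
    have h0 : M.B M.q (S.cl y) = 0 := by rw [hyv, M.B_q_psi, hzero l m hlm]
    change br (S.rep (S.cl S'.t)) (S.rep (S.cl y)) = 0 at h0
    rw [S.br_rep h.mem hy] at h0
    by_contra hne
    simp [br, Ne.symm hne] at h0)⟩
  obtain ⟨p, hp, ep⟩ := exists_of_mem_X (hX m)
  have hd := h.comm_mem_D hp hyP
  have hcl : S.cl (p * y * p⁻¹ * y⁻¹) = S.cl (T * S'.t * T⁻¹) := by
    rw [S.cl_mul (S.Q_conj hp.2 hy) (inv_mem hy), S.cl_inv hy, S.cl_neg, ← S.rho_im hp.2 hy, ep, hyv, hel]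
    change M.ρ _ _ + _ = _
    have hcases : ∀ l m : Fin 3, l ≠ m → (l = 0 ∧ m = 1) ∨ (l = 0 ∧ m = 2) ∨ (l = 1 ∧ m = 0) ∨ (l = 1 ∧ m = 2) ∨
        (l = 2 ∧ m = 0) ∨ (l = 2 ∧ m = 1) := by decide
    rcases hcases l m hlm with ⟨rfl, rfl⟩ | ⟨rfl, rfl⟩ | ⟨rfl, rfl⟩ | ⟨rfl, rfl⟩ | ⟨rfl, rfl⟩ | ⟨rfl, rfl⟩ <;>
      simp only [el, M.sig_psi, Prod.mk_add_mk, Fin.isValue, if_true, if_false, zero_ne_one, one_ne_zero,
        zero_add, add_zero, neg_zero, show (0 : Fin 3) ≠ 2 by decide, show (1 : Fin 3) ≠ 2 by decide,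
        show (2 : Fin 3) ≠ 0 by decide, show (2 : Fin 3) ≠ 1 by decide, show (-1 : Fin 3) = 2 by decide] <;>
      first
      | rw [(M.psi_two _ _).1, add_assoc, M.two, add_zero]
      | rw [(M.psi_two _ _).2.1, add_assoc, M.two, add_zero]
      | rw [(M.psi_two _ _).2.2, add_assoc, M.two, add_zero]
  rcases (S.cl_eq_cl hd.1 hxQ).1 hcl with e | e <;> rw [e]
  · exact hd
  · exact mul_mem h.mem_D_t hd

/-- An element of `C_Q(q)` commuting with the three translates lies in `Q_q`. -/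
theorem mem_D_of_commute {T : Fin 3 → G} (hT : ∀ i, T i ∈ S.C ∧ S.im (T i) = ι i rot)
    {c : G} (hc : c ∈ P S S') (hcx : ∀ i, c * (T i * S'.t * (T i)⁻¹) = T i * S'.t * (T i)⁻¹ * c) :
    c ∈ D S S' := by
  let M := h.toMod hX
  obtain ⟨co, hco⟩ := M.lin_surj (S.cl c)
  have hq : M.B M.q (S.cl c) = 0 := by
    change br (S.rep (S.cl S'.t)) (S.rep (S.cl c)) = 0
    rw [S.br_rep h.mem hc.1]
    exact if_pos (S'.mem_C.1 hc.2).symm
  have hb : ∀ l, M.B (M.ρ (ι l rot) M.q) (S.cl c) = 0 := fun l => by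
    change br (S.rep (S.rho _ (S.cl S'.t))) (S.rep (S.cl c)) = 0
    rw [← (hT l).2, S.rho_im (hT l).1 h.mem, S.br_rep (S.Q_conj (hT l).1 h.mem) hc.1]
    exact if_pos (hcx l).symm
  have t7 : co 7 = 0 := by
    rw [← M.B_compl_lin 7 co, hco, show Mod.bit (7 - 7) = (0, 0, 0) by decide, M.psi_zero]; exact hq
  have h6 : co 6 = 0 := by
    rw [← M.B_compl_lin 6 co, hco, show Mod.bit (7 - 6) = (1, 0, 0) by decide, Mod.psi,
      show tr (1, 0, 0) = ι 0 rot by decide]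
    exact hb 0
  have h5 : co 5 = 0 := by
    rw [← M.B_compl_lin 5 co, hco, show Mod.bit (7 - 5) = (0, 1, 0) by decide, Mod.psi,
      show tr (0, 1, 0) = ι 1 rot by decide]
    exact hb 1
  have h3 : co 3 = 0 := by
    rw [← M.B_compl_lin 3 co, hco, show Mod.bit (7 - 3) = (0, 0, 1) by decide, Mod.psi,
      show tr (0, 0, 1) = ι 2 rot by decide]
    exact hb 2
  have gen : ∀ i, (∃ d ∈ D S S', S.cl d = M.ρ (ι i rot) M.q) := fun i =>
    ⟨_, h.translate_mem_D hX (hT i).1 (hT i).2, by rw [← (hT i).2]; exact (S.rho_im (hT i).1 h.mem).symm⟩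
  obtain ⟨d, hd, hdc⟩ : ∃ d ∈ D S S', S.cl d = S.cl c := by
    rw [← hco]
    refine Finset.sum_induction _ (fun v => ∃ d ∈ D S S', S.cl d = v) ?_ ⟨1, one_mem _, S.cl_one⟩ fun U _ => ?_
    · rintro _ _ ⟨a, ha, rfl⟩ ⟨b, hb, rfl⟩
      exact ⟨a * b, mul_mem ha hb, S.cl_mul ha.1 hb.1⟩
    · have hU : U = 0 ∨ U = 1 ∨ U = 2 ∨ U = 4 ∨ co U = 0 := by fin_cases U <;> simp_all
      rcases z2_cases (co U) with e | e
      · rw [if_pos e]; exact ⟨1, one_mem _, S.cl_one⟩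
      rw [if_neg (by rw [e]; exact one_ne_zero)]
      rcases hU with rfl | rfl | rfl | rfl | e'
      · rw [show Mod.bit 0 = (0, 0, 0) by decide, M.psi_zero]; exact ⟨_, h.mem_D_q, rfl⟩
      · rw [show Mod.bit 1 = (1, 0, 0) by decide, Mod.psi, show tr (1, 0, 0) = ι 0 rot by decide]; exact gen 0
      · rw [show Mod.bit 2 = (0, 1, 0) by decide, Mod.psi, show tr (0, 1, 0) = ι 1 rot by decide]; exact gen 1
      · rw [show Mod.bit 4 = (0, 0, 1) by decide, Mod.psi, show tr (0, 0, 1) = ι 2 rot by decide]; exact gen 2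
      · exact absurd (e.symm.trans e') one_ne_zero
  rcases (S.cl_eq_cl hd.1 hc.1).1 hdc with e | e <;> rw [e]
  · exact hd
  · exact mul_mem h.mem_D_t hd

omit hX in
theorem ne_mul : S.t * S'.t ≠ 1 := fun e => h.ne ((inv_eq_of_mul_eq_one_right e).symm.trans S.t_inv)

/-- The product of the three translates is `1` or `t`. -/
theorem rel_cases {T : G} {i : Fin 3} (hT : T ∈ S.C) (hTi : S.im T = ι i rot) :
    S'.t * (T * S'.t * T⁻¹) * (T * (T * S'.t * T⁻¹) * T⁻¹) = 1 ∨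
      S'.t * (T * S'.t * T⁻¹) * (T * (T * S'.t * T⁻¹) * T⁻¹) = S.t := by
  let M := h.toMod hX
  have h1 := S.Q_conj hT h.mem
  have h2 := S.Q_conj hT h1
  rw [← S.cl_eq_zero (mul_mem (mul_mem h.mem h1) h2), S.cl_mul (mul_mem h.mem h1) h2, S.cl_mul h.mem h1,
    ← S.rho_im hT h1, ← S.rho_im hT h.mem, hTi]
  exact M.eq_zero i

/-- Properties of an involution lift. -/
theorem invol_q {T : Fin 3 → G} (hT : ∀ i, T i ∈ S.C ∧ S.im (T i) = ι i rot ∧ T i ^ 3 = 1)
    {i : Fin 3} {a : G} (ha : a ∈ S.C) (hai : S.im a = ι i sig) (hac : ∀ j, j ≠ i → a * T j = T j * a) :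
    a * S'.t * a⁻¹ = S'.t := by
  obtain ⟨p, hp, ep⟩ := exists_of_mem_X (hX i)
  have hn := S.mul_inv_mem_Q ha hp.2 (hai.trans ep.symm)
  have hpq : p * S'.t * p⁻¹ = S'.t := by rw [S'.Q_comm hp.1]; group
  have e : a * S'.t * a⁻¹ = (a * p⁻¹) * S'.t * (a * p⁻¹)⁻¹ := by
    conv_rhs => rw [← hpq]
    group
  rcases S.extra.conj_cases hn h.mem with e1 | e1
  · exact e.trans e1
  exfalso
  have hq : a * S'.t * a⁻¹ = S.t * S'.t := e.trans e1
  obtain ⟨j, -, hij, -, -⟩ := Mod.third i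
  set x := T j * S'.t * (T j)⁻¹ with hx
  set y := T j * x * (T j)⁻¹ with hy
  have hxQ : x ∈ S.Q := S.Q_conj (hT j).1 h.mem
  have hyQ : y ∈ S.Q := S.Q_conj (hT j).1 hxQ
  have ht : a * S.t * a⁻¹ = S.t := by rw [S.mem_C.1 ha]; group
  have htT : T j * S.t * (T j)⁻¹ = S.t := by rw [S.mem_C.1 (hT j).1]; group
  have haT : a * T j * a⁻¹ = T j := by rw [hac j hij.symm]; group
  have hax : a * x * a⁻¹ = S.t * x := by
    calc a * x * a⁻¹ = (a * T j * a⁻¹) * (a * S'.t * a⁻¹) * (a * T j * a⁻¹)⁻¹ := by rw [hx]; group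
      _ = (T j * S.t * (T j)⁻¹) * x := by rw [haT, hq, hx]; group
      _ = _ := by rw [htT]
  have hay : a * y * a⁻¹ = S.t * y := by
    calc a * y * a⁻¹ = (a * T j * a⁻¹) * (a * x * a⁻¹) * (a * T j * a⁻¹)⁻¹ := by rw [hy]; group
      _ = (T j * S.t * (T j)⁻¹) * y := by rw [haT, hax, hy]; group
      _ = _ := by rw [htT]
  have hprod : a * (S'.t * x * y) * a⁻¹ = S'.t * x * y := by
    rcases h.rel_cases hX (hT j).1 (hT j).2.1 with r | r <;> rw [← hx, ← hy] at r <;> rw [r]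
    · group
    · exact ht
  have hl : ∀ z ∈ S.Q, ∀ w, z * (S.t * w) = S.t * (z * w) := fun z hz w => by
    rw [← mul_assoc, S.Q_comm hz, mul_assoc]
  have : a * (S'.t * x * y) * a⁻¹ = S.t * (S'.t * x * y) := by
    calc a * (S'.t * x * y) * a⁻¹ = (a * S'.t * a⁻¹) * (a * x * a⁻¹) * (a * y * a⁻¹) := by group
      _ = _ := by
        rw [hq, hax, hay]
        simp only [mul_assoc, hl _ h.mem, hl _ hxQ, ← mul_assoc S.t S.t, S.t_sq, one_mul]
  exact S.t_ne (mul_eq_right.1 (this.symm.trans hprod))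

/-- With trivial product relation the lift lies in `Q_q`; otherwise it misses it in a prescribed way. -/
theorem invol_split {T : Fin 3 → G} (hT : ∀ i, T i ∈ S.C ∧ S.im (T i) = ι i rot ∧ T i ^ 3 = 1)
    {i : Fin 3} {a : G} (ha : a ∈ S.C) (hai : S.im a = ι i sig) (hac : ∀ j, j ≠ i → a * T j = T j * a)
    (hainv : a * T i * a⁻¹ = (T i)⁻¹) :
    (S'.t * (T i * S'.t * (T i)⁻¹) * (T i * (T i * S'.t * (T i)⁻¹) * (T i)⁻¹) = 1 → a ∈ S'.Q) ∧
    (S'.t * (T i * S'.t * (T i)⁻¹) * (T i * (T i * S'.t * (T i)⁻¹) * (T i)⁻¹) = S.t →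
      ∃ p ∈ P S' S, ∃ c ∈ P S S', a = p * c ∧
        ∀ l, c * (T l * S'.t * (T l)⁻¹) * c⁻¹ = (if l = i then S.t else 1) * (T l * S'.t * (T l)⁻¹)) := by
  obtain ⟨p, hp, ep⟩ := exists_of_mem_X (hX i)
  have hq := h.invol_q hX hT ha hai hac
  set c := p⁻¹ * a with hc
  have haC' : a ∈ S'.C := S'.mem_C.2 (mul_inv_eq_iff_eq_mul.1 hq)
  have hcP : c ∈ P S S' := by
    refine ⟨S.mem_Q.2 ⟨mul_mem (inv_mem hp.2) ha, ?_⟩, S'.C.mul_mem (S'.C.inv_mem (S'.Q_le hp.1)) haC'⟩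
    rw [hc, S.im_mul (inv_mem hp.2) ha, S.im_inv hp.2, ep, hai, inv_mul_cancel]
  have hdecomp : a = p * c := by rw [hc, mul_inv_cancel_left]
  have xD : ∀ l, T l * S'.t * (T l)⁻¹ ∈ D S S' := fun l => h.translate_mem_D hX (hT l).1 (hT l).2.1
  have hpx : ∀ z ∈ D S S', p⁻¹ * z * p = z ∨ p⁻¹ * z * p = S'.t * z := fun z hz => by
    simpa using h.conj_D ((P S' S).inv_mem hp) hz
  have hcx : ∀ z ∈ D S S', c * z * c⁻¹ = z ∨ c * z * c⁻¹ = S.t * z := fun z hz =>
    S.extra.conj_cases hcP.1 hz.1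
  have hqq : S'.t * S'.t = 1 := S'.t_sq
  -- the translates fixed by `a`
  have hother : ∀ l, l ≠ i → c * (T l * S'.t * (T l)⁻¹) * c⁻¹ = T l * S'.t * (T l)⁻¹ := by
    intro l hl
    set x := T l * S'.t * (T l)⁻¹ with hx
    have hax : a * x * a⁻¹ = x := by
      calc a * x * a⁻¹ = (a * T l * a⁻¹) * (a * S'.t * a⁻¹) * (a * T l * a⁻¹)⁻¹ := by rw [hx]; group
        _ = x := by
          rw [hq, show a * T l * a⁻¹ = T l by rw [hac l hl]; group]
    have e : c * x * c⁻¹ = p⁻¹ * x * p := by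
      calc c * x * c⁻¹ = p⁻¹ * (a * x * a⁻¹) * p := by rw [hc]; group
        _ = _ := by rw [hax]
    rcases hpx x (xD l) with e1 | e1
    · exact e.trans e1
    · rcases hcx x (xD l) with e2 | e2
      · exact e2
      · exact absurd (mul_right_cancel (e2.symm.trans (e.trans e1))) h.ne.symm
  -- the translate moved by `a`
  set x := T i * S'.t * (T i)⁻¹ with hx
  set y := T i * x * (T i)⁻¹ with hy
  have hxx : x * x = 1 := h.elem_D (xD i)
  have hqx : S'.t * x = x * S'.t := h.comm_D h.mem_D_q (xD i)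
  have hT2 : (T i)⁻¹ = T i * T i := inv_eq_of_mul_eq_one_right (by rw [← mul_assoc, ← pow_three', (hT i).2.2])
  have hax : a * x * a⁻¹ = y := by
    calc a * x * a⁻¹ = (a * T i * a⁻¹) * (a * S'.t * a⁻¹) * (a * T i * a⁻¹)⁻¹ := by rw [hx]; group
      _ = (T i)⁻¹ * S'.t * ((T i)⁻¹)⁻¹ := by rw [hq, hainv]
      _ = y := by rw [hT2, mul_inv_rev, hy, hx]; group
  have e : c * x * c⁻¹ = p⁻¹ * y * p := by
    calc c * x * c⁻¹ = p⁻¹ * (a * x * a⁻¹) * p := by rw [hc]; group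
      _ = _ := by rw [hax]
  have hpt : p⁻¹ * S.t * p = S.t := by rw [mul_assoc, ← S.mem_C.1 hp.2]; group
  have hpq : p⁻¹ * S'.t * p = S'.t := by rw [mul_assoc, ← S'.Q_comm hp.1]; group
  constructor
  · intro r
    have hyv : y = S'.t * x := by
      calc y = (S'.t * x)⁻¹ := eq_inv_of_mul_eq_one_right r
        _ = _ := inv_eq_of_mul_eq_one_right (h.elem_D (mul_mem h.mem_D_q (xD i)))
    have hci : c * x * c⁻¹ = x := by
      have e1 : p⁻¹ * y * p = S'.t * (p⁻¹ * x * p) := by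
        rw [hyv]
        calc p⁻¹ * (S'.t * x) * p = (p⁻¹ * S'.t * p) * (p⁻¹ * x * p) := by group
          _ = _ := by rw [hpq]
      rcases hcx x (xD i) with e2 | e2
      · exact e2
      exfalso
      have := e2.symm.trans (e.trans e1)
      rcases hpx x (xD i) with e3 | e3 <;> rw [e3] at this
      · exact h.ne (mul_right_cancel this).symm
      · rw [← mul_assoc S'.t S'.t, hqq, one_mul] at this
        exact S.t_ne (mul_eq_right.1 this)
    have hcD : c ∈ D S S' := h.mem_D_of_commute hX (fun l => ⟨(hT l).1, (hT l).2.1⟩) hcP fun l => by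
      rcases eq_or_ne l i with rfl | hl
      · exact mul_inv_eq_iff_eq_mul.1 hci
      · exact mul_inv_eq_iff_eq_mul.1 (hother l hl)
    rw [hdecomp]; exact mul_mem hp.1 hcD.2
  · intro r
    refine ⟨p, hp, c, hcP, hdecomp, fun l => ?_⟩
    rcases eq_or_ne l i with rfl | hl
    swap
    · rw [if_neg hl, one_mul]; exact hother l hl
    rw [if_pos rfl]
    have hyv : y = S.t * (S'.t * x) := by
      have h1 : y = (S'.t * x)⁻¹ * S.t := eq_inv_mul_iff_mul_eq.2 r
      rw [h1, inv_eq_of_mul_eq_one_right (h.elem_D (mul_mem h.mem_D_q (xD l))),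
        S.Q_comm (mul_mem h.mem (xD l).1)]
    have e1 : p⁻¹ * y * p = S.t * (S'.t * (p⁻¹ * x * p)) := by
      rw [hyv]
      calc p⁻¹ * (S.t * (S'.t * x)) * p = (p⁻¹ * S.t * p) * ((p⁻¹ * S'.t * p) * (p⁻¹ * x * p)) := by group
        _ = _ := by rw [hpq, hpt]
    refine (hcx x (xD l)).resolve_left fun e2 => ?_
    have := e2.symm.trans (e.trans e1)
    rcases hpx x (xD l) with e3 | e3 <;> rw [e3] at this
    · rw [← mul_assoc S.t S'.t, eq_comm, mul_eq_right] at this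
      exact h.ne_mul this
    · rw [← mul_assoc S'.t, hqq, one_mul, eq_comm, mul_eq_right] at this
      exact S.t_ne this

/-- If all three product relations are trivial there is a frame. -/
theorem frame_of_rel {T : Fin 3 → G} (hT : ∀ i, T i ∈ S.C ∧ S.im (T i) = ι i rot ∧ T i ^ 3 = 1)
    (hTc : ∀ i j, T i * T j = T j * T i)
    (hr : ∀ i, S'.t * (T i * S'.t * (T i)⁻¹) * (T i * (T i * S'.t * (T i)⁻¹) * (T i)⁻¹) = 1) :
    ∃ F : Frame S, F.S' = S' := by
  choose a haC hai hac hainv using fun i => h.exists_invol hX hT hTc i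
  have haQ : ∀ i, a i ∈ S'.Q := fun i => (h.invol_split hX hT (haC i) (hai i) (hac i) (hainv i)).1 (hr i)
  have haq : ∀ i, a i * S'.t * (a i)⁻¹ = S'.t := fun i => h.invol_q hX hT (haC i) (hai i) (hac i)
  have hsig : ∀ i : Fin 3, ι i sig * ι i sig = 1 := by decide
  have hsig2 : ∀ i j : Fin 3, ι i sig * ι j sig = ι j sig * ι i sig := by decide
  have ha2 : ∀ i, a i * a i = 1 := by
    intro i
    obtain ⟨j, -, hij, -, -⟩ := Mod.third i
    have hm : a i * a i ∈ S.Q :=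
      S.mem_Q.2 ⟨mul_mem (haC i) (haC i), by rw [S.im_mul (haC i) (haC i), hai, hsig]⟩
    have hc : Commute (T j) (a i) := (hac i j hij.symm).symm
    refine (h.fixed_of_commute hX (hT j).1 (hT j).2.1 hm (hc.mul_right hc)).resolve_right fun e => ?_
    rcases S'.extra.sq_cases (haQ i) with e' | e' <;> rw [e] at e'
    · exact S.t_ne e'
    · exact h.ne e'.symm
  have ha' : ∀ i, (a i)⁻¹ = a i := fun i => inv_eq_of_mul_eq_one_right (ha2 i)
  have hcomm : ∀ i j, a i * a j = a j * a i := by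
    intro i j
    rcases eq_or_ne i j with rfl | hij
    · rfl
    obtain ⟨k, hki, hkj⟩ := exists_third i j
    have hm : a i * a j * (a i)⁻¹ * (a j)⁻¹ ∈ S.Q := by
      refine S.mem_Q.2 ⟨mul_mem (mul_mem (mul_mem (haC i) (haC j)) (inv_mem (haC i))) (inv_mem (haC j)), ?_⟩
      rw [S.im_mul (mul_mem (mul_mem (haC i) (haC j)) (inv_mem (haC i))) (inv_mem (haC j)),
        S.im_conj (haC i) (haC j), S.im_inv (haC j), hai, hai, hsig2 i j, mul_inv_cancel_right, mul_inv_cancel]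
    have hci : Commute (T k) (a i) := (hac i k hki).symm
    have hcj : Commute (T k) (a j) := (hac j k hkj).symm
    refine mul_inv_eq_iff_eq_mul.1 (mul_inv_eq_one.1 ((h.fixed_of_commute hX (hT k).1 (hT k).2.1 hm
      (((hci.mul_right hcj).mul_right hci.inv_right).mul_right hcj.inv_right)).resolve_right fun e => ?_))
    rcases S'.extra.conj_cases (haQ i) (haQ j) with e' | e' <;> rw [e'] at e
    · rw [mul_inv_cancel] at e; exact S.t_ne e.symm
    · rw [mul_inv_cancel_right] at e; exact h.ne e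
  have hi : ∀ i, a i * T i * a i = (T i)⁻¹ := fun i => by
    conv_lhs => arg 2; rw [← ha' i]
    exact hainv i
  let K : Fin 3 → S3 →* G := fun i => s3Hom (T i) (a i) (hT i).2.2 (ha2 i) (hi i)
  have hKC : ∀ i s, K i s ∈ S.C := fun i s => mul_mem (pow_mem (hT i).1 _) (pow_mem (haC i) _)
  have hKim : ∀ i s, S.im (K i s) = ι i s := fun i s => by
    show S.im (T i ^ (rf s).1 * a i ^ (rf s).2) = _
    rw [S.im_mul (pow_mem (hT i).1 _) (pow_mem (haC i) _), S.im_pow (hT i).1, S.im_pow (haC i), (hT i).2.1, hai]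
    conv_rhs => rw [rf_spec s]
    have hh : ∀ (i : Fin 3) (x : S3) (n : ℕ), ι i x ^ n = ι i (x ^ n) := fun i x n => by
      induction n with
      | zero => simp [ι_one]
      | succ n ih => rw [pow_succ, ih, pow_succ, ι_mul]
    rw [hh, hh, ι_mul]
  have hKc : ∀ i j, i ≠ j → ∀ x y, Commute (K i x) (K j y) := fun i j hij x y => by
    have h1 : Commute (T i) (T j) := hTc i j
    have h2 : Commute (a i) (T j) := hac i j hij.symm
    have h3 : Commute (T i) (a j) := (hac j i hij).symm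
    have h4 : Commute (a i) (a j) := hcomm i j
    exact ((h1.pow_pow _ _).mul_right (h3.pow_pow _ _)).mul_left ((h2.pow_pow _ _).mul_right (h4.pow_pow _ _))
  let K12 : S3 × S3 →* G := (K 1).noncommCoprod (K 2) (hKc 1 2 (by decide))
  let k : Top →* G := (K 0).noncommCoprod K12 fun x y =>
    (hKc 0 1 (by decide) x y.1).mul_right (hKc 0 2 (by decide) x y.2)
  have hk : ∀ i s, k (ι i s) = K i s := fun i s => by
    have key : ∀ i : Fin 3, i = 0 ∨ i = 1 ∨ i = 2 := by decide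
    show K 0 _ * (K 1 _ * K 2 _) = _
    rcases key i with rfl | rfl | rfl <;>
      simp [ι, show (1 : Fin 3) ≠ 2 by decide, show (2 : Fin 3) ≠ 1 by decide,
        show (2 : Fin 3) ≠ 0 by decide, show (0 : Fin 3) ≠ 2 by decide]
  have hkr : ∀ i, k (ι i rot) = T i := fun i => by
    rw [hk]; show T i ^ _ * a i ^ _ = _
    rw [show rf rot = (1, 0) by decide]; simp
  have hks : ∀ i, k (ι i sig) = a i := fun i => by
    rw [hk]; show T i ^ _ * a i ^ _ = _
    rw [show rf sig = (0, 1) by decide]; simp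
  refine ⟨⟨S', h, hX, k, fun s => ?_, fun s => ?_, fun i => hks i ▸ haQ i, fun i => by rw [hks]; exact haq i,
    fun i => by rw [hkr]; exact hr i⟩, rfl⟩
  · exact mul_mem (hKC 0 _) (mul_mem (hKC 1 _) (hKC 2 _))
  · obtain ⟨x, y, z⟩ := s
    show S.im (K 0 x * (K 1 y * K 2 z)) = _
    rw [S.im_mul (hKC 0 x) (mul_mem (hKC 1 y) (hKC 2 z)), S.im_mul (hKC 1 y) (hKC 2 z), hKim, hKim, hKim]
    simp [ι]

omit h hX in
theorem X_conj (h : Pair S S') {y : G} (hy : y ∈ S.Q) : X S S' ≤ X S (S'.conj y) := by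
  intro s hs
  obtain ⟨p, hp, rfl⟩ := exists_of_mem_X hs
  have hpm : y * p * y⁻¹ ∈ P (S'.conj y) S :=
    ⟨⟨p, hp.1, rfl⟩, S.C.mul_mem (S.C.mul_mem (S.Q_le hy) hp.2) (S.C.inv_mem (S.Q_le hy))⟩
  have := im_mem_X hpm
  rwa [S.im_conj (S.Q_le hy) hp.2, S.im_Q hy, one_mul, inv_one, mul_one] at this

omit h hX in
theorem conj_pair (h : Pair S S') {y : G} (hy : y ∈ S.Q) : Pair S (S'.conj y) := by
  refine ⟨h.conj.trans (isConj_iff.2 ⟨y, rfl⟩), S.Q_conj (S.Q_le hy) h.mem, fun e => h.ne ?_⟩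
  have e' : y * S'.t * y⁻¹ = S.t := e
  calc S'.t = y⁻¹ * (y * S'.t * y⁻¹) * y := by group
    _ = S.t := by rw [e', mul_assoc, ← S.Q_comm hy]; group

set_option maxHeartbeats 800000 in
/-- The product relations agree for the three lifts. -/
theorem rel_eq {T : Fin 3 → G} (hT : ∀ i, T i ∈ S.C ∧ S.im (T i) = ι i rot ∧ T i ^ 3 = 1)
    (hTc : ∀ i j, T i * T j = T j * T i)
    {i j : Fin 3} (hij : i ≠ j)
    (ei : S'.t * (T i * S'.t * (T i)⁻¹) * (T i * (T i * S'.t * (T i)⁻¹) * (T i)⁻¹) = 1)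
    (ej : S'.t * (T j * S'.t * (T j)⁻¹) * (T j * (T j * S'.t * (T j)⁻¹) * (T j)⁻¹) = S.t) : False := by
  choose a haC hai hac hainv using fun i => h.exists_invol hX hT hTc i
  have haQ := (h.invol_split hX hT (haC i) (hai i) (hac i) (hainv i)).1 ei
  obtain ⟨p, hp, c, hc, hj, hcl⟩ := (h.invol_split hX hT (haC j) (hai j) (hac j) (hainv j)).2 ej
  obtain ⟨k, hki, hkj⟩ := exists_third i j
  have hm : a i * a j * (a i)⁻¹ * (a j)⁻¹ ∈ S.Q := by
    have hsig2 : ∀ i j : Fin 3, ι i sig * ι j sig = ι j sig * ι i sig := by decide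
    refine S.mem_Q.2 ⟨mul_mem (mul_mem (mul_mem (haC i) (haC j)) (inv_mem (haC i))) (inv_mem (haC j)), ?_⟩
    rw [S.im_mul (mul_mem (mul_mem (haC i) (haC j)) (inv_mem (haC i))) (inv_mem (haC j)),
      S.im_conj (haC i) (haC j), S.im_inv (haC j), hai, hai, hsig2 i j, mul_inv_cancel_right, mul_inv_cancel]
  have hci : Commute (T k) (a i) := (hac i k hki).symm
  have hcj : Commute (T k) (a j) := (hac j k hkj).symm
  have hτ := h.fixed_of_commute hX (hT k).1 (hT k).2.1 hm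
    (((hci.mul_right hcj).mul_right hci.inv_right).mul_right hcj.inv_right)
  set τ := a i * a j * (a i)⁻¹ * (a j)⁻¹ with hτd
  have hτQ : τ ∈ S.Q := hm
  obtain ⟨ω, hω, hωe⟩ : ∃ ω ∈ D S S', a i * p * (a i)⁻¹ = ω * p ∧ (S.cl ω = 0 ∨ S.cl ω = S.cl S'.t) := by
    rcases S'.extra.conj_cases haQ hp.1 with e | e
    · exact ⟨1, one_mem _, by rw [e, one_mul], Or.inl S.cl_one⟩
    · exact ⟨S'.t, h.mem_D_q, e, Or.inr rfl⟩
  have hconj : a i * c * (a i)⁻¹ = p⁻¹ * (ω⁻¹ * τ) * p * c := by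
    calc a i * c * (a i)⁻¹ = (a i * p * (a i)⁻¹)⁻¹ * (a i * (p * c) * (a i)⁻¹) := by group
      _ = (ω * p)⁻¹ * (τ * (p * c)) := by rw [hωe.1, ← hj, hτd]; group
      _ = _ := by group
  have hpτ : p⁻¹ * τ * p = τ := by
    rcases hτ with e | e <;> rw [e]
    · group
    · rw [mul_assoc, ← S.mem_C.1 hp.2]; group
  have hpω : p⁻¹ * ω⁻¹ * p = ω⁻¹ ∨ p⁻¹ * ω⁻¹ * p = S'.t * ω⁻¹ := by
    simpa using h.conj_D ((P S' S).inv_mem hp) ((D S S').inv_mem hω)
  have hv : S.rho (ι i sig) (S.cl c) + S.cl c = 0 ∨ S.rho (ι i sig) (S.cl c) + S.cl c = S.cl S'.t := by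
    have e2 : a i * c * (a i)⁻¹ = (p⁻¹ * ω⁻¹ * p) * τ * c := by
      rw [hconj]; conv_rhs => rw [← hpτ]
      group
    have hτ0 : S.cl τ = 0 := (S.cl_eq_zero hτQ).2 hτ
    have key : S.rho (ι i sig) (S.cl c) + S.cl c = S.cl (p⁻¹ * ω⁻¹ * p) := by
      have hm' : p⁻¹ * ω⁻¹ * p ∈ S.Q := by
        rcases hpω with e | e <;> rw [e]
        exacts [inv_mem hω.1, mul_mem h.mem (inv_mem hω.1)]
      rw [← hai, S.rho_im (haC i) hc.1, e2, S.cl_mul (mul_mem hm' hτQ) hc.1, S.cl_mul hm' hτQ, hτ0, add_zero,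
        add_assoc, S.cl_two, add_zero]
    rw [key]
    rcases hpω with e | e <;> rw [e]
    · rw [S.cl_inv hω.1, S.cl_neg]; exact hωe.2
    · rw [S.cl_mul h.mem (inv_mem hω.1), S.cl_inv hω.1, S.cl_neg]
      rcases hωe.2 with f | f <;> rw [f]
      · exact Or.inr (add_zero _)
      · exact Or.inl (S.cl_two _)
  let M := h.toMod hX
  let u : Fin 3 × Fin 3 × Fin 3 :=
    (if 0 = k then 0 else 1, if 1 = k then 0 else 1, if 2 = k then 0 else 1)
  let u0 : Fin 3 × Fin 3 × Fin 3 :=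
    (if j = 0 then 1 else 0, if j = 1 then 1 else 0, if j = 2 then 1 else 0)
  have hu : M.ρ (ι i sig) (M.psi u) = M.psi u0 + M.psi u := by
    have hcases : ∀ i j k : Fin 3, i ≠ j → k ≠ i → k ≠ j →
        (i = 0 ∧ j = 1 ∧ k = 2) ∨ (i = 0 ∧ j = 2 ∧ k = 1) ∨ (i = 1 ∧ j = 0 ∧ k = 2) ∨
        (i = 1 ∧ j = 2 ∧ k = 0) ∨ (i = 2 ∧ j = 0 ∧ k = 1) ∨ (i = 2 ∧ j = 1 ∧ k = 0) := by decide
    rcases hcases i j k hij hki hkj with ⟨rfl, rfl, rfl⟩ | ⟨rfl, rfl, rfl⟩ | ⟨rfl, rfl, rfl⟩ |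
      ⟨rfl, rfl, rfl⟩ | ⟨rfl, rfl, rfl⟩ | ⟨rfl, rfl, rfl⟩ <;>
      simp only [u, u0, M.sig_psi, Fin.isValue, if_true, if_false, zero_ne_one, one_ne_zero, neg_zero,
        show (0 : Fin 3) ≠ 2 by decide, show (1 : Fin 3) ≠ 2 by decide, show (2 : Fin 3) ≠ 0 by decide,
        show (2 : Fin 3) ≠ 1 by decide, show (-1 : Fin 3) = 2 by decide] <;>
      first | rw [(M.psi_two _ _).1] | rw [(M.psi_two _ _).2.1] | rw [(M.psi_two _ _).2.2]
  have hBv : M.B (S.cl c) (M.psi u0) = 1 := by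
    rw [Mod.psi, show tr u0 = ι j rot from (ι_rot_tr j).symm]
    change br (S.rep (S.cl c)) (S.rep (S.rho _ (S.cl S'.t))) = 1
    rw [← (hT j).2.1, S.rho_im (hT j).1 h.mem, S.br_rep hc.1 (S.Q_conj (hT j).1 h.mem)]
    refine if_neg fun e => ?_
    have h1 := hcl j
    rw [if_pos rfl, e] at h1
    exact S.t_ne (mul_eq_right.1 (h1.symm.trans (mul_inv_cancel_right _ _)))
  have hB : M.B (M.ρ (ι i sig) (S.cl c) + S.cl c) (M.psi u) = 1 := by
    rw [M.B_add', M.B_shift, show (ι i sig)⁻¹ = ι i sig from inv_eq_of_mul_eq_one_right (by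
      rw [ι_mul, show sig * sig = 1 by decide, ι_one]), hu, M.B_add, hBv, add_assoc, z2_add_self, add_zero]
  have hz : Mod.fz u = 0 := by
    refine if_pos ?_
    have key : ∀ k : Fin 3, (0 : Fin 3) = k ∨ (1 : Fin 3) = k ∨ (2 : Fin 3) = k := by decide
    rcases key k with rfl | rfl | rfl <;> simp [u]
  rcases hv with e | e
  · rw [show M.ρ (ι i sig) (S.cl c) + S.cl c = 0 from e, M.B_comm, M.B_zero] at hB
    exact zero_ne_one hB
  · rw [show M.ρ (ι i sig) (S.cl c) + S.cl c = M.q from e, M.B_q_psi, hz] at hB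
    exact zero_ne_one hB

/-- Every pair with standard stabiliser image carries a frame. -/
theorem exists_frame : ∃ F : Frame S, F.S'.t = S'.t := by
  obtain ⟨T, hT, hTc⟩ := exists_three (S := S)
  let E : Fin 3 → G := fun i => S'.t * (T i * S'.t * (T i)⁻¹) * (T i * (T i * S'.t * (T i)⁻¹) * (T i)⁻¹)
  have hE : ∀ i, E i = 1 ∨ E i = S.t := fun i => h.rel_cases hX (hT i).1 (hT i).2.1
  have eqE : ∀ i j, i ≠ j → E i = 1 → E j = S.t → False := fun i j hij ei ej =>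
    h.rel_eq hX hT hTc hij ei ej
  rcases hE 0 with e0 | e0
  · have hall : ∀ i, E i = 1 := fun i => by
      rcases eq_or_ne i 0 with rfl | hi
      · exact e0
      · exact (hE i).resolve_right fun e => eqE 0 i hi.symm e0 e
    obtain ⟨F, hF⟩ := h.frame_of_rel hX hT hTc hall
    exact ⟨F, by rw [hF]⟩
  · have hall : ∀ i, E i = S.t := fun i => by
      rcases eq_or_ne i 0 with rfl | hi
      · exact e0
      · exact (hE i).resolve_left fun e => eqE i 0 hi e e0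
    obtain ⟨y, hy, hys⟩ := h.exists_move
    have h' := conj_pair h hy
    have hX' : ∀ i, ι i sig ∈ X S (S'.conj y) := fun i => X_conj h hy (hX i)
    have hr : ∀ i, (S'.conj y).t * (T i * (S'.conj y).t * (T i)⁻¹) *
        (T i * (T i * (S'.conj y).t * (T i)⁻¹) * (T i)⁻¹) = 1 := by
      intro i
      have hTt : Commute (T i) S.t := S.mem_C.1 (hT i).1
      have hqt : Commute S'.t S.t := S.Q_comm h.mem
      rw [conj_t, hys]
      have e1 : T i * (S.t * S'.t) * (T i)⁻¹ = S.t * (T i * S'.t * (T i)⁻¹) := by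
        rw [← mul_assoc (T i), hTt.eq]; group
      have e2 : T i * (S.t * (T i * S'.t * (T i)⁻¹)) * (T i)⁻¹ = S.t * (T i * (T i * S'.t * (T i)⁻¹) * (T i)⁻¹) := by
        rw [← mul_assoc (T i), hTt.eq]; group
      have hl : ∀ z ∈ S.Q, ∀ w, z * (S.t * w) = S.t * (z * w) := fun z hz w => by
        rw [← mul_assoc, S.Q_comm hz, mul_assoc]
      have hxQ := S.Q_conj (hT i).1 h.mem
      rw [e1, e2]
      calc S.t * S'.t * (S.t * (T i * S'.t * (T i)⁻¹)) * (S.t * (T i * (T i * S'.t * (T i)⁻¹) * (T i)⁻¹))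
          = S.t * E i := by
            rw [mul_assoc S.t S'.t, hl _ h.mem, ← mul_assoc S.t S.t, S.t_sq, one_mul,
              hl _ (mul_mem h.mem hxQ)]
        _ = 1 := by rw [hall i, S.t_sq]
    obtain ⟨F, hF⟩ := h'.frame_of_rel hX' hT hTc hr
    -- conjugate back
    have hyC := S.Q_le hy
    have hback : y⁻¹ * (S'.conj y).t * y = S'.t := by rw [conj_t]; group
    have hp : Pair S (F.S'.conj y⁻¹) := conj_pair F.pair (inv_mem hy)
    refine ⟨⟨F.S'.conj y⁻¹, hp, fun i => X_conj F.pair (inv_mem hy) (F.hX i),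
      (MulAut.conj y⁻¹).toMonoidHom.comp F.k, fun s => ?_, fun s => ?_, fun i => ⟨_, F.k_sig i, rfl⟩,
      fun i => ?_, fun i => ?_⟩, by rw [conj_t, inv_inv, hF]; exact hback⟩
    · show y⁻¹ * F.k s * y⁻¹⁻¹ ∈ S.C
      exact mul_mem (mul_mem (inv_mem hyC) (F.k_mem s)) (inv_mem (inv_mem hyC))
    · show S.im (y⁻¹ * F.k s * y⁻¹⁻¹) = s
      rw [S.im_conj (inv_mem hyC) (F.k_mem s), F.im_k, S.im_inv hyC, S.im_Q hy]; simp
    · show (y⁻¹ * F.k _ * y⁻¹⁻¹) * (y⁻¹ * F.S'.t * y⁻¹⁻¹) * (y⁻¹ * F.k _ * y⁻¹⁻¹)⁻¹ = y⁻¹ * F.S'.t * y⁻¹⁻¹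
      conv_rhs => rw [← F.k_q i]
      group
    · have := congrArg (fun z => y⁻¹ * z * y) (F.rel i)
      simp only [mul_one, inv_mul_cancel] at this
      refine (?_ : _ = _).trans this
      show _ * ((y⁻¹ * F.k _ * y⁻¹⁻¹) * _ * (y⁻¹ * F.k _ * y⁻¹⁻¹)⁻¹) * _ = _
      rw [conj_t]
      simp only [MonoidHom.coe_comp, Function.comp_apply, MulEquiv.coe_toMonoidHom, MulAut.conj_apply, inv_inv]
      group

end Pair

end Setup

end CfsgLib.OmegaPlusEight
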