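import Cfsg.Agent.Lib.OmegaPlusEight.Opposite
import Cfsg.Prelude.Def_ChevD4
import Cfsg.Prelude.Def_CurtisTits

/-!
The Curtis–Tits relations of type `D₄` over the field with two elements, in the group.
-/

set_option autoImplicit false
set_option maxRecDepth 8000
set_option linter.unusedSectionVars false
set_option linter.style.haveILetI false

namespace CfsgLib.OmegaPlusEight

open Cfsg.Lie

/-- the nonzero entries of a word over the field with two elements -/
def red (w : List (ℕ × ZMod 2)) : List ℕ := (w.filter fun p => decide (p.2 ≠ 0)).map Prod.fst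

/-- root indices of `a i, A i, b i, b' i` -/
def planeIdx : Fin 3 → ℕ × ℕ × ℕ × ℕ := ![(18, 5, 19, 4), (13, 10, 16, 7), (12, 11, 15, 8)]

/-- the relations of one plane through the central node -/
def planeRels (p : ℕ × ℕ × ℕ × ℕ) : List (ℕ × ℕ × List ℕ) :=
  let a := p.1; let A := p.2.1; let b := p.2.2.1; let b' := p.2.2.2
  [(a, 9, []), (A, 14, []), (a, b, []), (b, 14, []), (A, b', []), (b', 9, []),
    (a, 14, [b]), (A, 9, [b']), (A, b, [14]), (b, 9, [a]), (a, b', [9]), (14, b', [A])]

/-- the relations of two outer nodes -/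
def outerRels (p q : ℕ × ℕ × ℕ × ℕ) : List (ℕ × ℕ × List ℕ) :=
  [(p.1, q.1, []), (p.1, q.2.1, []), (p.2.1, q.1, []), (p.2.1, q.2.1, [])]

/-- all relations between generators in a common rank two subsystem -/
def relList : List (ℕ × ℕ × List ℕ) :=
  planeRels (planeIdx 0) ++ planeRels (planeIdx 1) ++ planeRels (planeIdx 2) ++
    outerRels (planeIdx 0) (planeIdx 1) ++ outerRels (planeIdx 0) (planeIdx 2) ++
    outerRels (planeIdx 1) (planeIdx 2)

/-- the indices occurring in the rank two subsystems -/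
def ctRoots : List ℕ := [4, 5, 7, 8, 9, 10, 11, 12, 13, 14, 15, 16, 18, 19]

theorem nroots_D4 : chevD4.nroots = 24 := rfl

/-- membership of a rank two subsystem -/
def inSub (i j r : ℕ) : Bool :=
  (List.range 4).all fun k => k == i || k == j || (chevD4.coroot.getD r #[]).getD k 0 == 0

theorem inSub_iff {i j r : ℕ} :
    inSub i j r = true ↔ ∀ k < 4, k ≠ i → k ≠ j → (chevD4.coroot.getD r #[]).getD k 0 = 0 := by
  simp only [inSub, List.all_eq_true, List.mem_range, Bool.or_eq_true, beq_iff_eq]
  constructor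
  · intro h k hk hi hj
    rcases h k hk with (h | h) | h
    exacts [absurd h hi, absurd h hj, h]
  · intro h k hk
    by_cases hi : k = i
    · exact Or.inl (Or.inl hi)
    by_cases hj : k = j
    · exact Or.inl (Or.inr hj)
    exact Or.inr (h k hk hi hj)

theorem rel_cover : ∀ i j : Fin 4, ∀ r s : Fin 24, inSub i j r = true → inSub i j s = true →
    s ≠ r → (s : ℕ) ≠ chevD4.neg r →
    (r.val, s.val, red (chevD4.commWord (ZMod 2) r s 1 1)) ∈ relList ∨
      (s.val, r.val, red (chevD4.commWord (ZMod 2) r s 1 1)) ∈ relList := by decide +kernel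

theorem red_zero : ∀ r < 24, ∀ s < 24, ∀ t : ZMod 2,
    red (chevD4.commWord (ZMod 2) r s 0 t) = [] ∧ red (chevD4.commWord (ZMod 2) r s t 0) = [] := by
  decide +kernel

namespace Std

variable {G : Type*} [Group G] [Finite G] {S : Setup G} (F : Std S)

theorem exists_values {y : G} (hy : F.Opp y) :
    ∃ val : ℕ → G, (∀ r, val r * val r = 1) ∧ val 14 = F.ex ∧ val 9 = y ∧
      (∀ i, val (planeIdx i).1 = F.ea i ∧ val (planeIdx i).2.1 = F.eA i) ∧
      ∀ e ∈ relList, val e.1 * val e.2.1 * val e.1 * val e.2.1 = (e.2.2.map val).prod := by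
  choose b' hb' using F.exists_plane hy
  let val : ℕ → G := fun r =>
    [1, 1, 1, 1, b' 0, F.eA 0, 1, b' 1, b' 2, y, F.eA 1, F.eA 2, F.ea 2, F.ea 1, F.ex, F.eb 2, F.eb 1, 1,
      F.ea 0, F.eb 0].getD r 1
  have s0 := (hb' 0).sq
  have s1 := (hb' 1).sq
  have s2 := (hb' 2).sq
  have hsq : ∀ r, val r * val r = 1 := by
    intro r
    by_cases hr : r < 20
    · interval_cases r <;> simp [val, s0, s1, s2]
    · simp only [val]
      rw [List.getD_eq_default _ _ (by simpa using Nat.le_of_not_lt hr), one_mul]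
  have hnode : ∀ i, val (planeIdx i).1 = F.ea i ∧ val (planeIdx i).2.1 = F.eA i ∧
      val (planeIdx i).2.2.1 = F.eb i ∧ val (planeIdx i).2.2.2 = b' i := by
    intro i
    fin_cases i <;> exact ⟨rfl, rfl, rfl, rfl⟩
  have hcomm : ∀ {u v : G}, u * u = 1 → v * v = 1 → u * v = v * u → u * v * u * v = 1 := by
    intro u v hu hv h
    calc u * v * u * v = u * (v * u) * v := by group
      _ = u * (u * v) * v := by rw [h]
      _ = u * u * (v * v) := by group
      _ = 1 := by rw [hu, hv, one_mul]
  refine ⟨val, hsq, rfl, rfl, fun i => ⟨(hnode i).1, (hnode i).2.1⟩, ?_⟩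
  have hplane : ∀ i, ∀ e ∈ planeRels (planeIdx i),
      val e.1 * val e.2.1 * val e.1 * val e.2.1 = (e.2.2.map val).prod := by
    intro i e he
    obtain ⟨ea', eA', eb', eb''⟩ := hnode i
    have h14 : val 14 = F.ex := rfl
    have h9 : val 9 = y := rfl
    have P := hb' i
    obtain ⟨ha, hA, hb, hB, hx, hyy⟩ := P.sq
    simp only [planeRels, List.mem_cons, List.not_mem_nil, or_false] at he
    rcases he with rfl | rfl | rfl | rfl | rfl | rfl | rfl | rfl | rfl | rfl | rfl | rfl <;>
      simp only [List.map_nil, List.prod_nil, List.map_cons, List.prod_cons, mul_one, ea', eA', eb', eb'', h14, h9]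
    · exact hcomm ha hyy P.ay
    · exact hcomm hA hx P.Ax
    · exact hcomm ha hb P.ab
    · exact hcomm hb hx P.bx
    · exact hcomm hA hB P.Ab'
    · exact hcomm hB hyy P.b'y
    · exact P.r_ax
    · exact P.r_Ay
    · exact P.r_Ab
    · exact P.r_by
    · exact P.r_ab'
    · exact P.r_xb'
  have houter : ∀ i j : Fin 3, i ≠ j → ∀ e ∈ outerRels (planeIdx i) (planeIdx j),
      val e.1 * val e.2.1 * val e.1 * val e.2.1 = (e.2.2.map val).prod := by
    intro i j hij e he
    have tab : ∀ i j : Fin 3, i ≠ j →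
        ∀ m ∈ [[1536, 9216, 55296].getD i.val 0, [2560, 15360, 92160].getD i.val 0],
        ∀ n ∈ [[1536, 9216, 55296].getD j.val 0, [2560, 15360, 92160].getD j.val 0],
          m < 110592 ∧ n < 110592 ∧ Model.mul (Model.mul (Model.mul m n) m) n = 0 := by decide +kernel
    have key : ∀ m ∈ [[1536, 9216, 55296].getD i.val 0, [2560, 15360, 92160].getD i.val 0],
        ∀ n ∈ [[1536, 9216, 55296].getD j.val 0, [2560, 15360, 92160].getD j.val 0],
          F.el m * F.el n * F.el m * F.el n = 1 := by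
      intro m hm n hn
      obtain ⟨h1, h2, h3⟩ := tab i j hij m hm n hn
      rw [← F.el_mul h1 h2, ← F.el_mul (Frame.mul_lt h1 h2) h1,
        ← F.el_mul (Frame.mul_lt (Frame.mul_lt h1 h2) h1) h2, h3, F.el_zero]
    simp only [outerRels, List.mem_cons, List.not_mem_nil, or_false] at he
    rcases he with rfl | rfl | rfl | rfl <;>
      simp only [List.map_nil, List.prod_nil, (hnode i).1, (hnode i).2.1, (hnode j).1, (hnode j).2.1] <;>
      exact key _ (by simp) _ (by simp)
  intro e he
  simp only [relList, List.mem_append] at he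
  rcases he with ((((h | h) | h) | h) | h) | h
  exacts [hplane 0 e h, hplane 1 e h, hplane 2 e h, houter 0 1 (by decide) e h, houter 0 2 (by decide) e h,
    houter 1 2 (by decide) e h]

/-- The Curtis–Tits group maps onto the generators. -/
theorem exists_ctHom {y : G} (hy : F.Opp y) :
    ∃ φ : chevD4.CurtisTitsGroup (ZMod 2) →* G,
      φ (PresentedGroup.mk _ (chevD4.stX 14 (1 : ZMod 2))) = F.ex ∧
      φ (PresentedGroup.mk _ (chevD4.stX 9 (1 : ZMod 2))) = y ∧
      ∀ i, φ (PresentedGroup.mk _ (chevD4.stX (planeIdx i).1 (1 : ZMod 2))) = F.ea i ∧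
        φ (PresentedGroup.mk _ (chevD4.stX (planeIdx i).2.1 (1 : ZMod 2))) = F.eA i := by
  obtain ⟨val₀, hsq₀, h14, h9, hnode, hrel⟩ := F.exists_values hy
  let val : ℕ → G := fun r => if r ∈ ctRoots then val₀ r else 1
  have hv : ∀ r ∈ ctRoots, val r = val₀ r := fun r hr => if_pos hr
  have hsq : ∀ r, val r * val r = 1 := fun r => by
    show (if r ∈ ctRoots then val₀ r else 1) * _ = 1
    simp only [val]
    split <;> simp [hsq₀]
  let f : Fin chevD4.nroots × ZMod 2 → G := fun p => if p.2 = 0 then 1 else val p.1.val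
  have hf1 : ∀ r : ℕ, r < 24 → ∀ t : ZMod 2, FreeGroup.lift f (chevD4.stX r t) = if t = 0 then 1 else val r := by
    intro r hr t
    rw [ChevalleyDatum.stX, dif_pos (show r < chevD4.nroots from hr)]
    exact FreeGroup.lift_apply_of
  have z2 : ∀ t : ZMod 2, t = 0 ∨ t = 1 := by decide
  have hone : (1 : ZMod 2) ≠ 0 := by decide
  have hword : ∀ w : List (ℕ × ZMod 2), (∀ p ∈ w, p.1 < 24) →
      FreeGroup.lift f (chevD4.stWord w) = ((red w).map val).prod := by
    intro w
    induction w with
    | nil => intro _; simp [ChevalleyDatum.stWord, red]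
    | cons p w ih =>
      intro hw
      have e : chevD4.stWord (p :: w) = chevD4.stX p.1 p.2 * chevD4.stWord w := by simp [ChevalleyDatum.stWord]
      rw [e, map_mul, hf1 _ (hw p (List.mem_cons_self ..)), ih fun q hq => hw q (List.mem_cons_of_mem _ hq)]
      by_cases hp : p.2 = 0 <;> simp [red, hp]
  have hct : ∀ r < 24, ∀ i < 4, ∀ j < 4,
      (∀ k < 4, k ≠ i → k ≠ j → (chevD4.coroot.getD r #[]).getD k 0 = 0) → r ∈ ctRoots := by
    have key : ∀ r : Fin 24, ∀ i j : Fin 4, inSub i j r = true → r.val ∈ ctRoots := by decide +kernel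
    exact fun r hr i hi j hj h => key ⟨r, hr⟩ ⟨i, hi⟩ ⟨j, hj⟩ (inSub_iff.2 h)
  have hrels : ∀ g ∈ chevD4.curtisTitsRels (ZMod 2), FreeGroup.lift f g = 1 := by
    rintro g (((⟨r, t, hr, hno, rfl⟩ | ⟨i, j, r, t₁, t₂, ⟨hr, -, -, -⟩, rfl⟩) |
      ⟨i, j, r, s, t, u, ⟨hr, hi, hj, hri⟩, ⟨hs, -, -, hsi⟩, hne, hneg, rfl⟩) |
      ⟨i, j, r, t₁, t₂, ⟨hr, -, -, -⟩, ht₁, ht₂, rfl⟩)
    · rw [hf1 r hr]
      have hmem : r ∉ ctRoots := by
        intro hm
        have key : ∀ r ∈ ctRoots, ∃ i j : Fin 4, inSub i j r = true := by decide +kernel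
        obtain ⟨i, j, h⟩ := key r hm
        exact hno i j ⟨hr, i.2, j.2, inSub_iff.1 h⟩
      split
      · rfl
      · exact if_neg hmem
    · rw [map_mul, map_mul, map_inv, hf1 r hr, hf1 r hr, hf1 r hr]
      rcases z2 t₁ with rfl | rfl <;> rcases z2 t₂ with rfl | rfl <;>
        simp [hone, show (1 : ZMod 2) + 1 = 0 by decide, hsq]
    · have hr' : r < 24 := hr
      have hs' : s < 24 := hs
      have hlt : ∀ r < 24, ∀ s < 24, ∀ t u : ZMod 2, ∀ p ∈ chevD4.commWord (ZMod 2) r s t u, p.1 < 24 := by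
        decide +kernel
      rw [map_mul, map_mul, map_mul, map_mul, map_inv, map_inv, map_inv, hf1 s hs', hf1 r hr',
        hword _ (hlt r hr' s hs' t u)]
      rcases z2 t with rfl | rfl
      · rcases z2 u with rfl | rfl <;> simp [(red_zero r hr' s hs' _).1, hone]
      rcases z2 u with rfl | rfl
      · simp [(red_zero r hr' s hs' 1).2]
      rw [if_neg hone, if_neg hone, inv_eq_of_mul_eq_one_right (hsq s), inv_eq_of_mul_eq_one_right (hsq r)]
      have hmr := hct r hr' i hi j hj hri
      have hms := hct s hs' i hi j hj hsi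
      have hin : ∀ e ∈ relList, ∀ c ∈ e.2.2, c ∈ ctRoots := by decide +kernel
      have hmap : ∀ e ∈ relList, (e.2.2.map val).prod = (e.2.2.map val₀).prod := fun e he =>
        congrArg List.prod (List.map_congr_left fun c hc => hv c (hin e he c hc))
      have hP : ((red (chevD4.commWord (ZMod 2) r s 1 1)).map val).prod *
          ((red (chevD4.commWord (ZMod 2) r s 1 1)).map val).prod = 1 := by
        have hlen : ∀ e ∈ relList, e.2.2.length ≤ 1 := by decide +kernel
        rcases rel_cover ⟨i, hi⟩ ⟨j, hj⟩ ⟨r, hr'⟩ ⟨s, hs'⟩ (inSub_iff.2 hri) (inSub_iff.2 hsi) (fun e => hne (congrArg Fin.val e)) hneg with h | h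
        all_goals
          have := hlen _ h
          rcases hl : red (chevD4.commWord (ZMod 2) r s 1 1) with _ | ⟨c, _ | ⟨d, l⟩⟩ <;>
            simp [hl] at this ⊢
          all_goals exact hsq c
      rcases rel_cover ⟨i, hi⟩ ⟨j, hj⟩ ⟨r, hr'⟩ ⟨s, hs'⟩ (inSub_iff.2 hri) (inSub_iff.2 hsi) (fun e => hne (congrArg Fin.val e)) hneg with h | h
      · have h' := hrel _ h
        rw [← hmap _ h, ← hv r hmr, ← hv s hms] at h'
        dsimp only at h'
        have h2 : val s * val r * val s * val r = (val r * val s * val r * val s)⁻¹ := by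
          simp only [mul_inv_rev, inv_eq_of_mul_eq_one_right (hsq s), inv_eq_of_mul_eq_one_right (hsq r), mul_assoc]
        rw [h2, h', inv_eq_of_mul_eq_one_right hP]
        simp [hP]
      · have h' := hrel _ h
        rw [← hmap _ h, ← hv r hmr, ← hv s hms] at h'
        dsimp only at h'
        rw [h']
        simp
    · have h1 : ∀ t : ZMod 2, t ≠ 0 → t = 1 := fun t h => (z2 t).resolve_left h
      obtain rfl := h1 t₁ ht₁
      obtain rfl := h1 t₂ ht₂
      have hr' : r < 24 := hr
      have hneg : ∀ r < 24, chevD4.neg r < 24 := by decide +kernel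
      have hH : FreeGroup.lift f (chevD4.stH r (1 : ZMod 2)) = 1 := by
        have hw : ∀ p ∈ chevD4.hWord r (1 : ZMod 2), p.1 < 24 := by
          intro p hp
          simp [ChevalleyDatum.hWord, ChevalleyDatum.nWord] at hp
          rcases hp with rfl | rfl | rfl | rfl | rfl | rfl <;> first | exact hr' | exact hneg r hr'
        rw [ChevalleyDatum.stH, hword _ hw]
        have e : red (chevD4.hWord r (1 : ZMod 2)) = [r, chevD4.neg r, r, r, chevD4.neg r, r] := by
          simp [red, ChevalleyDatum.hWord, ChevalleyDatum.nWord]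
        rw [e]
        simp only [List.map_cons, List.map_nil, List.prod_cons, List.prod_nil, mul_one]
        calc val r * (val (chevD4.neg r) * (val r * (val r * (val (chevD4.neg r) * val r))))
            = val r * (val (chevD4.neg r) * (val r * val r) * val (chevD4.neg r)) * val r := by group
          _ = 1 := by rw [hsq, mul_one, hsq, mul_one, hsq]
      rw [mul_one, map_mul, map_mul, map_inv, hH]
      simp
  refine ⟨PresentedGroup.toGroup hrels, ?_⟩
  have hgen : ∀ r, r < 24 → r ∈ ctRoots →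
      PresentedGroup.toGroup hrels (PresentedGroup.mk _ (chevD4.stX r (1 : ZMod 2))) = val₀ r := by
    intro r hr hm
    show FreeGroup.lift f (chevD4.stX r (1 : ZMod 2)) = _
    rw [hf1 r hr, if_neg hone, hv r hm]
  have hidx : ∀ i : Fin 3, (planeIdx i).1 < 24 ∧ (planeIdx i).1 ∈ ctRoots ∧ (planeIdx i).2.1 < 24 ∧
      (planeIdx i).2.1 ∈ ctRoots := by decide
  refine ⟨(hgen 14 (by norm_num) (by decide)).trans h14, (hgen 9 (by norm_num) (by decide)).trans h9, fun i => ?_⟩
  obtain ⟨a1, a2, a3, a4⟩ := hidx i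
  exact ⟨(hgen _ a1 a2).trans (hnode i).1, (hgen _ a3 a4).trans (hnode i).2⟩

end Std

end CfsgLib.OmegaPlusEight
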