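import Cfsg.Agent.Lib.OmegaPlusEight.Class
import Cfsg.Agent.Lib.Components.FStar
import Cfsg.Agent.Lib.Involutions.BrauerSuzuki

/-!
The start of the recognition of `Ω⁺(8,2)`: the setting from an involution centraliser, and the split
into an isolated involution or a standard frame.
-/

set_option autoImplicit false

namespace CfsgLib.OmegaPlusEight

open Subgroup

/-- The setting from the hypotheses on the centraliser of `t`. -/
theorem exists_setup {G : Type*} [Group G] [Finite G] (t : G) (ht : orderOf t = 2)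
    (C : Subgroup G) (hC : C = Subgroup.centralizer ({t} : Set G))
    (hF : Cfsg.IsExtraspecial 2 (Cfsg.generalizedFittingSubgroup C))
    (hFcard : Nat.card (Cfsg.generalizedFittingSubgroup C) = 2 ^ 9)
    (e : C ⧸ Cfsg.pCore 2 C ≃* Equiv.Perm (Fin 3) × Equiv.Perm (Fin 3) × Equiv.Perm (Fin 3))
    (hcc : Subgroup.centralizer (((Cfsg.pCore 2 C).map C.subtype : Subgroup G) : Set G) ≤
      (Cfsg.pCore 2 C).map C.subtype) :
    ∃ S : Setup G, S.t = t := by
  have : Fact (Nat.Prime 2) := ⟨Nat.prime_two⟩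
  subst hC
  set K : Subgroup ↥(centralizer ({t} : Set G)) := Cfsg.pCore 2 ↥(centralizer ({t} : Set G))
  have hle : centralizer (K : Set ↥(centralizer ({t} : Set G))) ≤ K := by
    intro x hx
    have : (x : G) ∈ K.map (centralizer ({t} : Set G)).subtype := hcc <| by
      rw [mem_centralizer_iff]
      rintro _ ⟨y, hy, rfl⟩
      exact congrArg Subtype.val (mem_centralizer_iff.1 hx y hy)
    obtain ⟨y, hy, hyx⟩ := this
    rwa [← Subtype.ext hyx]
  have hFK : Cfsg.generalizedFittingSubgroup ↥(centralizer ({t} : Set G)) = K :=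
    CfsgLib.Components.generalizedFitting_eq_pCore_of_centralizer_le 2 hle
  rw [hFK] at hF hFcard
  have eK := K.equivMapOfInjective (centralizer ({t} : Set G)).subtype (subtype_injective _)
  have hQ : Cfsg.IsExtraspecial 2 ↥(CfsgLib.Singular39.qOf t) :=
    LargeExtra.isExtraspecial_of_equiv eK hF
  refine ⟨{
    t := t
    Q := K.map (centralizer ({t} : Set G)).subtype
    img := e.toMonoidHom.comp (QuotientGroup.mk' K)
    img_surj := e.surjective.comp (QuotientGroup.mk'_surjective K)
    mem_iff := fun x => ⟨?_, ?_⟩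
    extra := (CfsgLib.Singular39.Point.of_base ht hQ hcc).toExtraAt
    card_Q := (Nat.card_congr eK.toEquiv).symm.trans (hFcard.trans (by norm_num))
    self := hcc }, rfl⟩
  · rintro ⟨y, hy, rfl⟩
    exact ⟨y.2, by simp [(QuotientGroup.eq_one_iff y).2 hy]⟩
  · rintro ⟨h, hx⟩
    refine ⟨⟨x, h⟩, (QuotientGroup.eq_one_iff _).1 (e.injective ?_), rfl⟩
    exact hx.trans (map_one e).symm

namespace Setup

/-- Either `t` is central modulo the odd core, or some setting at `t` carries a standard frame. -/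
theorem isolated_or_exists_std {G : Type*} [Group G] [Finite G] (S : Setup G) :
    (∀ g : G, g * S.t * g⁻¹ * S.t⁻¹ ∈ Cfsg.oddCore G) ∨
      ∃ S' : Setup G, S'.t = S.t ∧ Nonempty (Std S') := by
  by_cases hex : ∃ g : G, g * S.t * g⁻¹ ∈ S.C ∧ g * S.t * g⁻¹ ≠ S.t
  · obtain ⟨g, hm, hne⟩ := S.exists_conj_mem_Q hex
    have hp : Pair S (S.conj g) := ⟨isConj_iff.2 ⟨g, rfl⟩, hm, hne⟩
    obtain ⟨φ, hφ⟩ := hp.exists_relabel
    obtain ⟨F, -⟩ := (hp.relabel_left φ).exists_std hφ
    exact Or.inr ⟨S.relabel φ, rfl, ⟨F⟩⟩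
  · refine Or.inl fun g => ?_
    have hiso : Cfsg.IsIsolatedInvolution S.t := by
      refine ⟨S.extra.order_z, fun a ha => ?_⟩
      by_contra hne
      exact hex ⟨a, S.mem_C.2 ha.symm.eq, hne⟩
    simpa [Cfsg.oddCore, Cfsg.InZStar] using CfsgLib.Involutions.zstar G S.t hiso g

end Setup

end CfsgLib.OmegaPlusEight
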