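import Cfsg.Agent.Lib.OmegaPlusEight.Endgame

/-!
A homomorphism from a group of the order of `Ω⁺(8,2)` onto the generators is an isomorphism.
-/

set_option autoImplicit false
set_option maxRecDepth 8000
set_option linter.unusedSectionVars false
set_option linter.style.haveILetI false

namespace CfsgLib.OmegaPlusEight

open Subgroup

namespace Std

variable {G : Type*} [Group G] [Finite G] {S : Setup G} (F : Std S)

include F in
theorem card_C : Nat.card S.C = 110592 := by
  let f : Fin 110592 → S.C := fun m => ⟨F.el m, F.el_mem m⟩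
  have hf : Function.Bijective f := by
    refine ⟨fun a b h => Fin.ext (F.el_inj a.2 b.2 (congrArg Subtype.val h)), fun c => ?_⟩
    obtain ⟨m, hm, e⟩ := F.el_surj c.2
    exact ⟨⟨m, hm⟩, Subtype.ext e⟩
  rw [← Nat.card_eq_of_bijective f hf, Nat.card_fin]

/-- The homomorphism is an isomorphism. -/
theorem mulEquiv_of_hom {K : Type*} [Group K] [Finite K] (hK : Nat.card K = 174182400) {y : G} (hy : F.Opp y)
    (φ : K →* G) (hφ : Function.Injective φ) (hyφ : y ∈ φ.range) (fs : K → ℕ)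
    (hfs : ∀ h g : K, fs (h * g * h⁻¹) = fs g) (fc : List (Fin 7) → ℕ)
    (hw : ∀ l : List (Fin 7), ∃ u : K, φ u = F.el (wordVal l) ∧ fs u = fc l)
    (hfc : ∀ c ∈ Model.certs, fc c.2.2.1 ≠ fc c.2.2.2) : Nonempty (G ≃* K) := by
  classical
  have hgen : ∀ i : Fin 7, F.el ([1536, 9216, 55296, 2560, 15360, 92160, 128].getD i.val 0) ∈ φ.range := by
    intro i
    obtain ⟨u, hu, -⟩ := hw [i]
    have e : ∀ i : Fin 7, wordVal [i] = [1536, 9216, 55296, 2560, 15360, 92160, 128].getD i.val 0 := by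
      decide +kernel
    exact ⟨u, hu.trans (congrArg F.el (e i))⟩
  let inv' : G → ℕ := fun g => fs (Function.invFun φ g)
  have hinv' : ∀ u : K, inv' (φ u) = fs u := fun u => congrArg fs (Function.leftInverse_invFun hφ u)
  have hconj : ∀ h ∈ φ.range, ∀ v ∈ φ.range, inv' (h * v * h⁻¹) = inv' v := by
    rintro _ ⟨h, rfl⟩ _ ⟨v, rfl⟩
    rw [← map_inv, ← map_mul, ← map_mul, hinv', hinv', hfs]
  have hcert : ∀ c ∈ Model.certs, inv' (F.el (wordVal c.2.2.1)) ≠ inv' (F.el (wordVal c.2.2.2)) := by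
    intro c hc
    obtain ⟨a, ha, ea⟩ := hw c.2.2.1
    obtain ⟨b, hb, eb⟩ := hw c.2.2.2
    rw [← ha, ← hb, hinv', hinv', ea, eb]
    exact hfc c hc
  have hH : Nat.card φ.range = 174182400 :=
    (Nat.card_congr (φ.ofInjective hφ).toEquiv).symm.trans hK
  have hle : S.C ≤ φ.range := F.gen_C_le φ.range hgen
  have hodd : ¬ 2 ∣ (S.C.subgroupOf φ.range).index := by
    have h1 := (S.C.subgroupOf φ.range).card_mul_index
    rw [Nat.card_congr (subgroupOfEquivOfLe hle).toEquiv, F.card_C, hH] at h1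
    omega
  let A : F.Ambient := ⟨y, hy, φ.range, hyφ, hgen, hodd, inv', hconj, hcert⟩
  exact ⟨(MulEquiv.ofBijective φ ⟨hφ, MonoidHom.range_eq_top.1 A.H_eq_top⟩).symm⟩

end Std

end CfsgLib.OmegaPlusEight
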