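import Cfsg.Agent.Lib.OmegaPlusEight.Pair
import Cfsg.Agent.Lib.OmegaPlusEight.Module

/-!
The module `Q/⟨t⟩` attached to a pair whose stabiliser image is the standard one.
-/

set_option autoImplicit false
set_option maxRecDepth 4000
set_option linter.unusedSectionVars false

namespace CfsgLib.OmegaPlusEight

open Subgroup

theorem top_eight_sig {H : Subgroup Top} (h : ∀ s ∈ H, s * s = 1) (h8 : Nat.card H = 8)
    (hs : ∀ i, ι i sig ∈ H) (s : Top) : s ∈ H ↔ s ∈ X0 := by
  obtain ⟨a, b, c, -, -, -, hH⟩ := top_eight h h8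
  have h1 : sig = a := ((hH _).1 (hs 0)).1.resolve_left (by decide)
  have h2 : sig = b := ((hH _).1 (hs 1)).2.1.resolve_left (by decide)
  have h3 : sig = c := ((hH _).1 (hs 2)).2.2.resolve_left (by decide)
  subst h1; subst h2; subst h3
  have key : ∀ a : S3, a 0 = 0 ↔ a = 1 ∨ a = sig := by decide
  rw [hH, X0]
  simp only [Set.mem_ofPred_eq, key]

namespace Setup

variable {G : Type*} [Group G] [Finite G] (S : Setup G)

attribute [local instance] Classical.propDecidable

theorem mem_center_iff' (x : ↥S.Q) : x ∈ center ↥S.Q ↔ (x : G) = 1 ∨ (x : G) = S.t := by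
  constructor
  · exact fun hx => S.extra.central_cases x.2 fun q hq => congrArg Subtype.val (mem_center_iff.1 hx ⟨q, hq⟩)
  · intro hx
    refine mem_center_iff.2 fun q => Subtype.ext ?_
    rcases hx with e | e <;> simp only [Subgroup.coe_mul, e]
    · rw [one_mul, mul_one]
    · exact S.Q_comm q.2

/-- `Q/⟨t⟩` -/
abbrev QV : Type _ := ↥S.Q ⧸ center ↥S.Q

instance qvComm : CommGroup S.QV :=
  { (inferInstance : Group S.QV) with
    mul_comm := fun a b => by
      induction a using QuotientGroup.induction_on with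
      | H a => induction b using QuotientGroup.induction_on with
        | H b =>
          refine QuotientGroup.eq.2 ((S.mem_center_iff' _).2 ?_)
          simp only [Subgroup.coe_mul, Subgroup.coe_inv]
          rcases S.extra.conj_cases b.2 a.2 with e | e
          · exact Or.inl (by rw [mul_inv_eq_iff_eq_mul.1 e, inv_mul_cancel])
          · refine Or.inr ?_
            rw [mul_inv_eq_iff_eq_mul.1 e, mul_assoc S.t, ← mul_assoc, S.Q_comm
              (inv_mem (mul_mem a.2 b.2)), mul_assoc, inv_mul_cancel, mul_one] }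

/-- the additive module -/
abbrev V : Type _ := Additive S.QV

open Classical in
/-- the class of an element of `Q` -/
noncomputable def cl (x : G) : S.V :=
  if h : x ∈ S.Q then Additive.ofMul (QuotientGroup.mk (⟨x, h⟩ : ↥S.Q) : S.QV) else 0

theorem cl_eq {x : G} (h : x ∈ S.Q) :
    S.cl x = Additive.ofMul (QuotientGroup.mk (⟨x, h⟩ : ↥S.Q) : S.QV) := dif_pos h

theorem cl_mul {x y : G} (hx : x ∈ S.Q) (hy : y ∈ S.Q) : S.cl (x * y) = S.cl x + S.cl y := by
  rw [S.cl_eq hx, S.cl_eq hy, S.cl_eq (mul_mem hx hy)]; rfl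

theorem cl_one : S.cl 1 = 0 := by rw [S.cl_eq (one_mem _)]; rfl

theorem cl_inv {x : G} (hx : x ∈ S.Q) : S.cl x⁻¹ = - S.cl x := by
  rw [S.cl_eq hx, S.cl_eq (inv_mem hx)]; rfl

theorem cl_surj (v : S.V) : ∃ x ∈ S.Q, S.cl x = v := by
  obtain ⟨w, rfl⟩ := Additive.ofMul.surjective v
  induction w using QuotientGroup.induction_on with
  | H x => exact ⟨x, x.2, S.cl_eq x.2⟩

theorem cl_eq_cl {x y : G} (hx : x ∈ S.Q) (hy : y ∈ S.Q) : S.cl x = S.cl y ↔ y = x ∨ y = S.t * x := by
  rw [S.cl_eq hx, S.cl_eq hy, Additive.ofMul.injective.eq_iff, QuotientGroup.eq, S.mem_center_iff']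
  simp only [Subgroup.coe_mul, Subgroup.coe_inv, inv_mul_eq_iff_eq_mul, mul_one, S.Q_comm hx]

theorem cl_t : S.cl S.t = 0 := by
  rw [← S.cl_one]; exact ((S.cl_eq_cl (one_mem _) S.t_mem).2 (Or.inr (mul_one _).symm)).symm

theorem cl_eq_zero {x : G} (hx : x ∈ S.Q) : S.cl x = 0 ↔ x = 1 ∨ x = S.t := by
  rw [← S.cl_one, eq_comm, S.cl_eq_cl (one_mem _) hx, mul_one]

theorem cl_two (v : S.V) : v + v = 0 := by
  obtain ⟨x, hx, rfl⟩ := S.cl_surj v
  rw [← S.cl_mul hx hx, S.cl_eq_zero (mul_mem hx hx)]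
  exact S.extra.sq_cases hx

theorem cl_neg (v : S.V) : -v = v := neg_eq_of_add_eq_zero_left (S.cl_two v)

/-- conjugation on `Q` -/
noncomputable def conjQ (c : ↥S.C) : ↥S.Q →* ↥S.Q where
  toFun x := ⟨c * x * (c : G)⁻¹, S.Q_conj c.2 x.2⟩
  map_one' := Subtype.ext (by simp)
  map_mul' x y := Subtype.ext (by simp only [Subgroup.coe_mul]; group)

/-- conjugation on `Q/⟨t⟩` -/
noncomputable def actV (c : ↥S.C) : AddMonoid.End S.V :=
  (QuotientGroup.map (center ↥S.Q) (center ↥S.Q) (S.conjQ c) fun x hx => (S.mem_center_iff' _).2 (by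
    rcases (S.mem_center_iff' x).1 hx with e | e
    · exact Or.inl (by simp [conjQ, e])
    · exact Or.inr (by simp [conjQ, e, S.mem_C.1 c.2]))).toAdditive

theorem actV_cl (c : ↥S.C) {x : G} (hx : x ∈ S.Q) : S.actV c (S.cl x) = S.cl (c * x * (c : G)⁻¹) := by
  rw [S.cl_eq hx, S.cl_eq (S.Q_conj c.2 hx)]; rfl

theorem actV_congr {c c' : ↥S.C} (h : S.im c = S.im c') : S.actV c = S.actV c' := by
  refine DFunLike.ext _ _ fun v => ?_
  obtain ⟨x, hx, rfl⟩ := S.cl_surj v
  rw [S.actV_cl c hx, S.actV_cl c' hx, S.cl_eq_cl (S.Q_conj c.2 hx) (S.Q_conj c'.2 hx)]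
  have hn := S.mul_inv_mem_Q c'.2 c.2 h.symm
  have e : (c' : G) * x * (c' : G)⁻¹ = (c' * (c : G)⁻¹) * (c * x * (c : G)⁻¹) * (c' * (c : G)⁻¹)⁻¹ := by
    group
  rw [e]
  exact S.extra.conj_cases hn (S.Q_conj c.2 hx)

/-- a lift of an element of `Sym(3)³` -/
noncomputable def lift (s : Top) : ↥S.C := ⟨(S.exists_im s).choose, (S.exists_im s).choose_spec.1⟩

theorem im_lift (s : Top) : S.im (S.lift s) = s := (S.exists_im s).choose_spec.2

/-- the action on `Q/⟨t⟩` -/
noncomputable def rho : Top →* AddMonoid.End S.V where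
  toFun s := S.actV (S.lift s)
  map_one' := by
    rw [S.actV_congr (c' := 1) (by rw [S.im_lift]; exact S.im_one.symm)]
    refine DFunLike.ext _ _ fun v => ?_
    obtain ⟨x, hx, rfl⟩ := S.cl_surj v
    rw [S.actV_cl 1 hx]; simp
  map_mul' s r := by
    rw [S.actV_congr (c' := S.lift s * S.lift r) (by
      rw [S.im_lift, Subgroup.coe_mul, S.im_mul (S.lift s).2 (S.lift r).2, S.im_lift, S.im_lift])]
    refine DFunLike.ext _ _ fun v => ?_
    obtain ⟨x, hx, rfl⟩ := S.cl_surj v
    change _ = S.actV (S.lift s) (S.actV (S.lift r) (S.cl x))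
    rw [S.actV_cl _ hx, S.actV_cl _ hx, S.actV_cl _ (S.Q_conj (S.lift r).2 hx)]
    congr 1
    simp only [Subgroup.coe_mul]; group

theorem rho_im {c x : G} (hc : c ∈ S.C) (hx : x ∈ S.Q) : S.rho (S.im c) (S.cl x) = S.cl (c * x * c⁻¹) := by
  change S.actV (S.lift (S.im c)) _ = _
  rw [S.actV_congr (c' := ⟨c, hc⟩) (S.im_lift _), S.actV_cl _ hx]

open Classical in
/-- the squaring map -/
noncomputable def sq' (x : G) : ZMod 2 := if x * x = 1 then 0 else 1

open Classical in
/-- the commutator map -/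
noncomputable def br (x y : G) : ZMod 2 := if x * y = y * x then 0 else 1

/-- a representative -/
noncomputable def rep (v : S.V) : G := (S.cl_surj v).choose

theorem rep_mem (v : S.V) : S.rep v ∈ S.Q := (S.cl_surj v).choose_spec.1

theorem cl_rep (v : S.V) : S.cl (S.rep v) = v := (S.cl_surj v).choose_spec.2

theorem rep_cases {x : G} (hx : x ∈ S.Q) : S.rep (S.cl x) = x ∨ S.rep (S.cl x) = S.t * x :=
  (S.cl_eq_cl hx (S.rep_mem _)).1 (S.cl_rep _).symm

theorem sq_rep {x : G} (hx : x ∈ S.Q) : sq' (S.rep (S.cl x)) = sq' x := by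
  rcases S.rep_cases hx with e | e <;> rw [e]
  have : S.t * x * (S.t * x) = x * x := by
    rw [mul_assoc, ← mul_assoc x, S.Q_comm hx, ← mul_assoc, ← mul_assoc, S.t_sq, one_mul]
  exact if_congr (by rw [this]) rfl rfl

theorem br_left {x y : G} (hy : y ∈ S.Q) : br (S.t * x) y = br x y := by
  have h1 : y * (S.t * x) = S.t * (y * x) := by rw [← mul_assoc, S.Q_comm hy, mul_assoc]
  exact if_congr (by rw [mul_assoc, h1, mul_left_cancel_iff]) rfl rfl

theorem br_comm (x y : G) : br x y = br y x := by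
  exact if_congr eq_comm rfl rfl

theorem br_rep {x y : G} (hx : x ∈ S.Q) (hy : y ∈ S.Q) :
    br (S.rep (S.cl x)) (S.rep (S.cl y)) = br x y := by
  have h1 : br (S.rep (S.cl x)) (S.rep (S.cl y)) = br x (S.rep (S.cl y)) := by
    rcases S.rep_cases hx with e | e <;> rw [e]
    exact S.br_left (S.rep_mem _)
  rw [h1]
  rcases S.rep_cases hy with e | e <;> rw [e]
  rw [br_comm, S.br_left hx, br_comm]

theorem conj_of_br {x y : G} (hx : x ∈ S.Q) (hy : y ∈ S.Q) :
    (br x y = 0 ∧ x * y * x⁻¹ = y) ∨ (br x y = 1 ∧ x * y * x⁻¹ = S.t * y) := by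
  rcases S.extra.conj_cases hx hy with e | e
  · exact Or.inl ⟨if_pos (mul_inv_eq_iff_eq_mul.1 e), e⟩
  · refine Or.inr ⟨if_neg fun c => S.t_ne ?_, e⟩
    rw [mul_inv_eq_iff_eq_mul.1 e, mul_assoc] at c
    exact mul_eq_right.1 c

theorem sq_mul {x y : G} (hx : x ∈ S.Q) (hy : y ∈ S.Q) : sq' (x * y) = sq' x + sq' y + br x y := by
  have e : x * y * (x * y) = (x * x) * (x⁻¹ * y * x * y) := by group
  have hc : x⁻¹ * y * x = y ∨ x⁻¹ * y * x = S.t * y := by simpa using S.extra.conj_cases (inv_mem hx) hy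
  have hb : (br x y = 0 ↔ x⁻¹ * y * x = y) := by
    constructor
    · intro h
      have h' : x * y = y * x := by
        by_contra hne
        simp [br, hne] at h
      rw [mul_assoc, ← h', inv_mul_cancel_left]
    · intro h
      refine if_pos ?_
      conv_lhs => rw [← h]
      group
  have hts : S.t ≠ 1 := S.t_ne
  rcases S.extra.sq_cases hx with hxx | hxx <;> rcases S.extra.sq_cases hy with hyy | hyy <;>
    rcases hc with hxy | hxy <;>
    simp only [sq', e, hxx, hyy, hxy, one_mul, mul_assoc, S.t_sq, hts, if_true, if_false, mul_one] <;>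
    rcases z2_cases (br x y) with hbr | hbr <;>
    first
    | (rw [hbr]; rfl)
    | (exfalso; exact one_ne_zero (hbr.symm.trans (hb.2 hxy)))
    | (exfalso; exact S.t_ne (mul_eq_right.1 (hxy.symm.trans (hb.1 hbr))))

variable {S} {S' : Setup G}

/-- The module of a pair whose stabiliser image is standard. -/
noncomputable def Pair.toMod (h : Pair S S') (hX : ∀ i, ι i sig ∈ X S S') : Mod S.V where
  two := S.cl_two
  ρ := S.rho
  Qf v := sq' (S.rep v)
  B v w := br (S.rep v) (S.rep w)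
  qf_add a b := by
    obtain ⟨x, hx, rfl⟩ := S.cl_surj a
    obtain ⟨y, hy, rfl⟩ := S.cl_surj b
    rw [← S.cl_mul hx hy, S.sq_rep (mul_mem hx hy), S.sq_rep hx, S.sq_rep hy, S.br_rep hx hy,
      S.sq_mul hx hy]
  B_add a b c := by
    obtain ⟨x, hx, rfl⟩ := S.cl_surj a
    obtain ⟨y, hy, rfl⟩ := S.cl_surj b
    obtain ⟨z, hz, rfl⟩ := S.cl_surj c
    rw [← S.cl_mul hy hz, S.br_rep hx hy, S.br_rep hx hz, S.br_rep hx (mul_mem hy hz)]
    have e : x * (y * z) * x⁻¹ = (x * y * x⁻¹) * (x * z * x⁻¹) := by group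
    have ht : y * (S.t * z) = S.t * (y * z) := by rw [← mul_assoc, S.Q_comm hy, mul_assoc]
    rcases S.conj_of_br hx hy with ⟨b1, c1⟩ | ⟨b1, c1⟩ <;> rcases S.conj_of_br hx hz with ⟨b2, c2⟩ | ⟨b2, c2⟩ <;>
      rcases S.conj_of_br hx (mul_mem hy hz) with ⟨b3, c3⟩ | ⟨b3, c3⟩ <;>
      rw [e, c1, c2] at c3 <;>
      (try simp only [ht, mul_assoc, ← mul_assoc S.t S.t, S.t_sq, one_mul] at c3) <;>
      rw [b1, b2, b3] <;>
      first | rfl | exact absurd (mul_eq_right.1 c3) S.t_ne | exact absurd (mul_eq_right.1 c3.symm) S.t_ne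
  qf_inv s v := by
    obtain ⟨x, hx, rfl⟩ := S.cl_surj v
    conv_lhs => rw [← S.im_lift s, S.rho_im (S.lift s).2 hx, S.sq_rep (S.Q_conj (S.lift s).2 hx)]
    rw [S.sq_rep hx]
    have e : (S.lift s : G) * x * (S.lift s : G)⁻¹ * ((S.lift s : G) * x * (S.lift s : G)⁻¹) =
        (S.lift s : G) * (x * x) * (S.lift s : G)⁻¹ := by group
    exact if_congr (by rw [e, conj_eq_one_iff]) rfl rfl
  nondeg a ha := by
    obtain ⟨x, hx, rfl⟩ := S.cl_surj a
    refine (S.cl_eq_zero hx).2 (S.extra.central_cases hx fun y hy => ?_)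
    have := ha (S.cl y)
    rw [S.br_rep hx hy] at this
    by_contra hne
    simp [br, Ne.symm hne] at this
  q := S.cl S'.t
  qf_q := by
    rw [S.sq_rep h.mem]
    exact if_pos S'.t_sq
  fix i := by
    obtain ⟨p, hp, e⟩ := exists_of_mem_X (hX i)
    rw [← e, S.rho_im hp.2 h.mem, mul_inv_eq_iff_eq_mul.2 (S'.Q_comm hp.1)]
  stab s hs := by
    rw [← top_eight_sig h.elem_X h.card_X hX, ← S.im_lift s]
    refine h.im_stab (S.lift s).2 ?_
    rw [← S.im_lift s, S.rho_im (S.lift s).2 h.mem, eq_comm, S.cl_eq_cl h.mem (S.Q_conj (S.lift s).2 h.mem)] at hs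
    exact hs
  hT i j _ v hv := by
    intro T
    obtain ⟨x, hx, rfl⟩ := S.cl_surj v
    rw [S.br_rep h.mem hx] at hv
    have hxP : x ∈ P S S' := ⟨hx, S'.mem_C.2 (by
      by_contra hne
      simp [br, Ne.symm hne] at hv)⟩
    obtain ⟨p, hp, ep⟩ := exists_of_mem_X (hX i)
    obtain ⟨r, hr, er⟩ := exists_of_mem_X (hX j)
    have hd := h.comm_mem_D hr hxP
    set d := r * x * r⁻¹ * x⁻¹ with hd'
    have e1 : S.rho (ι j sig) (S.cl x) + S.cl x = S.cl d := by
      rw [← er, S.rho_im hr.2 hx, hd', S.cl_mul (S.Q_conj hr.2 hx) (inv_mem hx), S.cl_inv hx, S.cl_neg]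
    have hT : T = S.cl (p * d * p⁻¹) + S.cl d := by
      show _ + _ = _
      rw [e1, ← ep, S.rho_im hp.2 hd.1]
    rw [hT]
    rcases h.conj_D hp hd with e | e <;> rw [e]
    · exact Or.inl (S.cl_two _)
    · exact Or.inr (by rw [S.cl_mul h.mem hd.1, add_assoc, S.cl_two, add_zero])
  hS i v hv := by
    obtain ⟨x, hx, rfl⟩ := S.cl_surj v
    rw [S.br_rep h.mem hx] at hv
    have hxP : x ∈ P S S' := ⟨hx, S'.mem_C.2 (by
      by_contra hne
      simp [br, Ne.symm hne] at hv)⟩
    obtain ⟨p, hp, ep⟩ := exists_of_mem_X (hX i)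
    have hd := h.comm_mem_D hp hxP
    have e1 : S.rho (ι i sig) (S.cl x) + S.cl x = S.cl (p * x * p⁻¹ * x⁻¹) := by
      rw [← ep, S.rho_im hp.2 hx, S.cl_mul (S.Q_conj hp.2 hx) (inv_mem hx), S.cl_inv hx, S.cl_neg]
    rw [e1, S.sq_rep hd.1]
    exact if_pos (h.elem_D hd)
  card_V := by
    have hc : Nat.card (center ↥S.Q) = 2 := S.extra.extra.2
    have h1 := card_eq_card_quotient_mul_card_subgroup (center ↥S.Q)
    rw [S.card_Q, hc] at h1
    show Nat.card (↥S.Q ⧸ center ↥S.Q) = 256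
    omega
  hperp a ha := by
    obtain ⟨x, hx, rfl⟩ := S.cl_surj a
    obtain ⟨y, hy, hys⟩ := h.exists_move
    have hq : S'.t⁻¹ = S'.t := S'.t_inv
    have hxc : ∀ b ∈ S.Q, b * S'.t = S'.t * b → b * x = x * b := by
      intro b hb hbq
      have := ha (S.cl b) (by rw [S.br_rep h.mem hb]; exact if_pos hbq.symm)
      rw [S.br_rep hx hb] at this
      by_contra hne
      simp [br, Ne.symm hne] at this
    rcases S.extra.double_centralizer h.mem hy hys hx hxc with e | e | e | e
    · exact Or.inl ((S.cl_eq_zero hx).2 (Or.inl e))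
    · exact Or.inl ((S.cl_eq_zero hx).2 (Or.inr e))
    · exact Or.inr (by rw [e, hq])
    · exact Or.inr (by rw [e, hq, S.cl_mul S.t_mem h.mem, S.cl_t, zero_add])
  hmax w hw := by
    classical
    let A := closure (insert S.t (Set.range fun i => S.rep (w i)))
    have hsub : insert S.t (Set.range fun i => S.rep (w i)) ⊆ (S.Q : Set G) :=
      Set.insert_subset S.t_mem (by rintro _ ⟨i, rfl⟩; exact S.rep_mem _)
    have hAQ : A ≤ S.Q := (closure_le _).2 hsub
    have hgen : ∀ a ∈ insert S.t (Set.range fun i => S.rep (w i)),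
        ∀ b ∈ insert S.t (Set.range fun i => S.rep (w i)), a * b = b * a := by
      rintro a ha b hb
      rcases ha with rfl | ⟨i, rfl⟩
      · exact (S.Q_comm (hsub hb)).symm
      rcases hb with rfl | ⟨j, rfl⟩
      · exact S.Q_comm (S.rep_mem _)
      by_contra hne
      have := hw i j
      simp [br, hne] at this
    have hA : A ≤ centralizer (A : Set G) := by
      show A ≤ centralizer ((closure (insert S.t (Set.range fun i => S.rep (w i))) : Subgroup G) : Set G)
      rw [centralizer_closure]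
      exact (closure_le _).2 fun a ha => mem_centralizer_iff.2 fun b hb => hgen b hb a ha
    have h32 := S.card_le_of_abelian hAQ fun a ha b hb => mem_centralizer_iff.1 (hA hb) a ha
    let I := Set.range fun a : ↥A => S.cl a
    have h16 : Nat.card I ≤ 16 := by
      choose g hg using fun i : I => i.2
      let f : I × Bool → ↥A := fun p =>
        if p.2 then ⟨S.t * (g p.1 : G), A.mul_mem (subset_closure (Set.mem_insert _ _)) (g p.1).2⟩ else g p.1
      have hclf : ∀ p, S.cl (f p) = p.1 := by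
        rintro ⟨i, _ | _⟩ <;> simp only [f, if_true, if_false, Bool.false_eq_true]
        · exact hg i
        · rw [S.cl_mul S.t_mem (hAQ (g i).2), S.cl_t, zero_add]; exact hg i
      have hf : Function.Injective f := by
        rintro ⟨i, b⟩ ⟨j, c⟩ e
        have hij : i = j := Subtype.ext ((hclf (i, b)).symm.trans ((congrArg (fun a : ↥A => S.cl a) e).trans (hclf (j, c))))
        subst hij
        have e' := congrArg Subtype.val e
        cases b <;> cases c <;> simp [f, S.t_ne] at e' ⊢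
      have := Nat.card_le_card_of_injective f hf
      rw [Nat.card_prod, show Nat.card Bool = 2 by simp] at this
      omega
    let L : (Fin 5 → ZMod 2) → S.V := fun c => ∑ i, if c i = 0 then 0 else w i
    have hL : ∀ c, L c ∈ I := fun c => by
      refine Finset.sum_induction _ (fun v => v ∈ I) ?_ ⟨1, S.cl_one⟩ fun i _ => ?_
      · rintro _ _ ⟨a, rfl⟩ ⟨b, rfl⟩
        exact ⟨a * b, S.cl_mul (hAQ a.2) (hAQ b.2)⟩
      · split_ifs
        · exact ⟨1, S.cl_one⟩
        · exact ⟨⟨S.rep (w i), subset_closure (Set.mem_insert_of_mem _ ⟨i, rfl⟩)⟩, S.cl_rep _⟩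
    have hni : ¬ Function.Injective (fun c => (⟨L c, hL c⟩ : I)) := fun hi => by
      have := Nat.card_le_card_of_injective _ hi
      rw [show Nat.card (Fin 5 → ZMod 2) = 32 by simp] at this
      change 32 ≤ Nat.card I at this
      omega
    simp only [Function.Injective, not_forall] at hni
    obtain ⟨c₁, c₂, he, hne⟩ := hni
    refine ⟨c₁ + c₂, fun e0 => hne (funext fun i => ?_), fun f => ?_⟩
    · have := congrFun e0 i
      revert this
      simp only [Pi.add_apply, Pi.zero_apply]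
      generalize c₁ i = a; generalize c₂ i = b; revert a b; decide
    · have key : ∀ c, f (L c) = ∑ i, if c i = 0 then 0 else f (w i) := fun c => by
        simp only [L, map_sum, apply_ite f, map_zero]
      have h12 : L c₁ = L c₂ := congrArg Subtype.val he
      calc ∑ i, (if (c₁ + c₂) i = 0 then 0 else f (w i))
          = ∑ i, ((if c₁ i = 0 then 0 else f (w i)) + if c₂ i = 0 then 0 else f (w i)) := by
            refine Finset.sum_congr rfl fun i _ => ?_
            rcases z2_cases (c₁ i) with a | a <;> rcases z2_cases (c₂ i) with b | b <;>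
              simp [a, b, S.cl_two, show (1 : ZMod 2) + 1 = 0 by decide]
        _ = f (L c₁) + f (L c₂) := by rw [Finset.sum_add_distrib, key, key]
        _ = 0 := by rw [h12, S.cl_two]

end Setup

end CfsgLib.OmegaPlusEight
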