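import Cfsg.Agent.Lib.OmegaPlusEight.Class

/-!
Finite tables in the coordinates of a standard frame.
-/

set_option autoImplicit false
set_option maxRecDepth 8000

namespace CfsgLib.OmegaPlusEight

namespace Model

/-- roots of `Q` commuting with `q`, outside `Q ∩ Q_q` -/
def out24 : List ℕ :=
  [8, 10, 12, 15, 32, 34, 48, 51, 64, 68, 80, 85, 264, 266, 268, 271, 288, 290, 304, 307, 320, 324, 336, 341]

/-- roots of `Q` not commuting with `q` -/
def opp16 : List ℕ :=
  [128, 136, 160, 170, 192, 204, 240, 255, 384, 392, 416, 426, 448, 460, 496, 511]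

/-- roots outside `Q` commuting with `q` -/
def mid48 : List ℕ :=
  [1536, 1537, 1540, 1541, 1552, 1553, 1600, 1604, 1616, 1621, 1812, 1813, 1857, 1861, 1873, 1876, 9216, 9217, 9218,
    9219, 9232, 9233, 9248, 9250, 9264, 9267, 9490, 9491, 9505, 9507, 9521, 9522, 55296, 55297, 55298, 55299, 55300,
    55301, 55304, 55306, 55308, 55311, 55558, 55559, 55561, 55563, 55565, 55566]

theorem mid48_spec : ∀ m ∈ rootsOut.map Prod.fst, mul m 1 = mul 1 m → m ∈ mid48 := by decide +kernel

theorem out24_spec : ∀ n ∈ rootsQ, n ∉ dList → mul n 1 = mul 1 n → n ∈ out24 := by decide +kernel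

theorem opp16_spec : ∀ n ∈ opp16, n ∈ rootsQ ∧ mul n 1 ≠ mul 1 n ∧ n < 512 := by decide +kernel

/-- a pair of commuting roots with a root as product -/
def adj (n a : ℕ) : Bool := qmul n a == qmul a n && rootsQ.contains (qmul n a)

theorem opp_exists : ∀ a ∈ out24, ∀ b ∈ out24, qmul a b = qmul b a → dList.contains (qmul a b) = false →
    ∀ c ∈ out24, qmul a c = qmul c a → dList.contains (qmul a c) = false →
      qmul b c = qmul c b → dList.contains (qmul b c) = false →
      (opp16.any fun n => adj n a && adj n b && adj n c) = true := by decide +kernel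

theorem opp_fix : ∀ n ∈ opp16, ∀ a ∈ out24, adj n a = true → ∀ b ∈ out24, adj n b = true →
    qmul a b = qmul b a → dList.contains (qmul a b) = false →
    ∀ z ∈ dRoots, qmul z a = qmul a z → qmul z b = qmul b z → rootsQ.contains (qmul z a) = true →
      qmul z n = qmul n z := by decide +kernel

theorem opp_move : ∀ n ∈ opp16, ∀ a ∈ out24, adj n a = true →
    ∀ m ∈ mid48, mul m a = mul a m → isRoot (mul m a) = true →
      mul (mul (mul m n) m) n = a := by decide +kernel

theorem cube_fix : ∀ d < 512, ∀ s ∈ x0List, mul (d + 512 * s) 1 = mul 1 (d + 512 * s) →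
    mul (d + 512 * s) 2 = mul 2 (d + 512 * s) → mul (d + 512 * s) 4 = mul 4 (d + 512 * s) →
    mul (d + 512 * s) 16 = mul 16 (d + 512 * s) → s = 0 ∧ dList.contains d = true := by decide +kernel

theorem cube_q : ∀ d ∈ dList, rootsQ.contains (qmul 128 d) = true → d = 0 ∨ d = 256 := by decide +kernel

theorem cube_opp : ∀ n ∈ opp16, ∀ d ∈ dList, rootsQ.contains (qmul n d) = true → d = 0 ∨ d = 256 := by
  decide +kernel

theorem comm_product : ∀ p ∈ rootsOut, isRoot (mul p.1 256) = false := by decide +kernel

theorem square_product : ∀ u ∈ rootsQ ++ rootsOut.map Prod.fst,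
    mul (mul (mul u 1) u) 1 = 0 ∨ isRoot (mul (mul (mul u 1) u) 1) = true := by decide +kernel

end Model

end CfsgLib.OmegaPlusEight
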