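import Cfsg.Agent.Lib.OmegaPlusEight.OppTables

/-!
The involution opposite to the central node, and the relations of the three planes through it.
-/

set_option autoImplicit false
set_option maxRecDepth 8000
set_option linter.unusedSectionVars false
set_option linter.style.haveILetI false

namespace CfsgLib.OmegaPlusEight

open Subgroup

open Model

namespace Setup

variable {G : Type*} [Group G] [Finite G]

/-- A setup with a second conjugate in `Q` has standard frames at every conjugate. -/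
theorem exists_std_conj {S S' : Setup G} (h : Pair S S') (g : G) :
    ∃ (φ : Top ≃* Top) (_F : Std ((S.conj g).relabel φ)), True := by
  have hp : Pair (S.conj g) (S'.conj g) := by
    refine ⟨?_, ⟨S'.t, h.mem, rfl⟩, fun e => h.ne ?_⟩
    · exact ((isConj_iff.2 ⟨g, rfl⟩ : IsConj S.t (S.conj g).t).symm.trans h.conj).trans (isConj_iff.2 ⟨g, rfl⟩)
    · exact mul_left_cancel (mul_right_cancel (e : g * S'.t * g⁻¹ = g * S.t * g⁻¹))
  obtain ⟨φ, hφ⟩ := hp.exists_relabel
  obtain ⟨F, -⟩ := (hp.relabel_left φ).exists_std hφ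
  exact ⟨φ, F, trivial⟩

end Setup

namespace Std

variable {G : Type*} [Group G] [Finite G] {S : Setup G} (F : Std S)

theorem sq_of_conj {u : G} (h : IsConj S.t u) : u * u = 1 := by
  obtain ⟨g, rfl⟩ := isConj_iff.1 h
  calc g * S.t * g⁻¹ * (g * S.t * g⁻¹) = g * (S.t * S.t) * g⁻¹ := by group
    _ = 1 := by rw [S.t_sq]; group

include F in
/-- Commuting conjugates with conjugate product: each lies in `O₂` of the centraliser of the other. -/
theorem mem_Q_of_product {u : G} (hu : u ∈ S.C) (hc : IsConj S.t u) (hp : IsConj S.t (u * S.t)) : u ∈ S.Q := by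
  obtain ⟨m, hm, rfl⟩ := F.el_surj hu
  by_contra hout
  have hroot := isRoot_iff.1 ((F.conj_el hm).1 hc)
  rcases List.mem_append.1 hroot with h | h
  · exact hout (F.el_mem_Q (F.conj_el_rootsQ h).2)
  obtain ⟨p, hp', rfl⟩ := List.mem_map.1 h
  have hm256 : F.el (mul p.1 256) = F.el p.1 * S.t := by rw [F.el_mul hm (by norm_num), F.el_t]
  have := comm_product p hp'
  rw [(F.conj_el (Frame.mul_lt hm (by norm_num))).1 (hm256 ▸ hp)] at this
  exact Bool.noConfusion this

/-- The commutator of a conjugate in `C(t)` with `q` is `1` or again a conjugate. -/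
theorem sq_product {u : G} (hu : u ∈ S.C) (hcu : IsConj S.t u) :
    u * F.q * u * F.q = 1 ∨ IsConj S.t (u * F.q * u * F.q) := by
  obtain ⟨m, hm, rfl⟩ := F.el_surj hu
  have h1 : (1 : ℕ) < 110592 := by norm_num
  have e : F.el (mul (mul (mul m 1) m) 1) = F.el m * F.q * F.el m * F.q := by
    rw [F.el_mul (Frame.mul_lt (Frame.mul_lt hm h1) hm) h1, F.el_mul (Frame.mul_lt hm h1) hm, F.el_mul hm h1,
      F.el_one]
  rcases square_product m (isRoot_iff.1 ((F.conj_el hm).1 hcu)) with h | h
  · left; rw [← e, h, F.el_zero]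
  · right; rw [← e]; exact F.conj_of_isRoot h

/-- `a_i` -/
def ea (i : Fin 3) : G := F.el ([1536, 9216, 55296].getD i.val 0)

/-- `θ_i a_i θ_i⁻¹` -/
def eA (i : Fin 3) : G := F.el ([2560, 15360, 92160].getD i.val 0)

/-- the basis element moved to `q` by `a_i` -/
def eb (i : Fin 3) : G := F.el ([64, 32, 8].getD i.val 0)

/-- the central root -/
def ex : G := F.el 128

/-- the three translates in `Q ∩ Q_q` -/
def ev (i : Fin 3) : G := F.el ([2, 4, 16].getD i.val 0)

/-- A root opposite to the central one. -/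
structure Opp (y : G) : Prop where
  conj : IsConj S.t y
  mem : y ∈ F.S'.Q
  moveT : y * S.t * y = F.q * S.t
  fix : ∀ i, y * F.ev i = F.ev i * y
  comm : ∀ i, y * F.ea i = F.ea i * y
  adjA : ∀ i, IsConj S.t (y * F.ea i)
  bracket : ∀ i, F.eb i * y * F.eb i * y = F.ea i
  cube : F.ex * y * (F.ex * y) * (F.ex * y) = 1

set_option maxHeartbeats 800000 in
theorem exists_opp : ∃ y, F.Opp y := by
  obtain ⟨φ, hφ⟩ := F.pair.swap.exists_relabel
  obtain ⟨F₂, h2⟩ := (F.pair.swap.relabel_left φ).exists_std hφ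
  have hone : F₂.el 1 = S.t := F₂.el_one.trans h2
  have h256 : F₂.el 256 = F.q := F₂.el_t
  have hF : ∀ {z}, IsConj F.q z ↔ IsConj S.t z := F.conj_back
  have toF : ∀ {m n}, m < 110592 → n < 110592 → Commute (F₂.el m) (F₂.el n) → mul m n = mul n m :=
    fun hm hn h => F₂.el_inj (Frame.mul_lt hm hn) (Frame.mul_lt hn hm) (by rw [F₂.el_mul hm hn, F₂.el_mul hn hm, h.eq])
  have fromF : ∀ {m n}, m < 110592 → n < 110592 → mul m n = mul n m → Commute (F₂.el m) (F₂.el n) := fun hm hn h =>
    show _ * _ = _ * _ by rw [← F₂.el_mul hm hn, ← F₂.el_mul hn hm, h]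
  have qmulF : ∀ {m n}, m < 512 → n < 512 → F₂.el (qmul m n) = F₂.el m * F₂.el n := fun hm hn => by
    rw [F₂.el_of_lt hm, F₂.el_of_lt hn, F₂.el_of_lt (Frame.qmul_lt hm hn), F₂.evQ_qmul]
  have toQ : ∀ {m n}, m < 512 → n < 512 → Commute (F₂.el m) (F₂.el n) → qmul m n = qmul n m := fun {m n} hm hn h =>
    F₂.el_inj (by have := Frame.qmul_lt hm hn; omega) (by have := Frame.qmul_lt hn hm; omega)
      (by rw [qmulF hm hn, qmulF hn hm, h.eq])
  have fromQ : ∀ {m n}, m < 512 → n < 512 → qmul m n = qmul n m → Commute (F₂.el m) (F₂.el n) := fun hm hn h =>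
    show _ * _ = _ * _ by rw [← qmulF hm hn, ← qmulF hn hm, h]
  have Dback : ∀ {n}, n < 512 → (F₂.el n ∈ S.Q ↔ n ∈ dList) := fun hn => by
    rw [← F₂.mem_D_iff hn]
    exact ⟨fun h => ⟨F₂.el_mem_Q hn, (F.mem_back h2).2 h⟩, fun h => (F.mem_back h2).1 h.2⟩
  -- data of the first frame
  have fa : ∀ i : Fin 3, ([1536, 9216, 55296].getD i.val 0) < 110592 ∧
      isRoot ([1536, 9216, 55296].getD i.val 0) = true ∧ ¬ [1536, 9216, 55296].getD i.val 0 < 512 := by decide +kernel
  have fv : ∀ i : Fin 3, ([2, 4, 16].getD i.val 0) < 512 ∧ ([2, 4, 16].getD i.val 0) ∈ rootsQ ∧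
      ([2, 4, 16].getD i.val 0) ∈ dList ∧
      ([2, 4, 16].getD i.val 0) ≠ 1 ∧ ([2, 4, 16].getD i.val 0) ≠ 256 ∧ ([2, 4, 16].getD i.val 0) ≠ 257 := by
    decide +kernel
  have fab : ∀ i j : Fin 3, mul ([1536, 9216, 55296].getD i.val 0) ([1536, 9216, 55296].getD j.val 0) =
      mul ([1536, 9216, 55296].getD j.val 0) ([1536, 9216, 55296].getD i.val 0) ∧
      (i ≠ j → ¬ mul ([1536, 9216, 55296].getD i.val 0) ([1536, 9216, 55296].getD j.val 0) < 512) := by decide +kernel
  have fav : ∀ i j : Fin 3, i ≠ j → mul ([2, 4, 16].getD i.val 0) ([1536, 9216, 55296].getD j.val 0) =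
      mul ([1536, 9216, 55296].getD j.val 0) ([2, 4, 16].getD i.val 0) ∧
      isRoot (mul ([2, 4, 16].getD i.val 0) ([1536, 9216, 55296].getD j.val 0)) = true := by decide +kernel
  have fb : ∀ i : Fin 3, ([64, 32, 8].getD i.val 0) < 512 ∧ ([64, 32, 8].getD i.val 0) ∈ rootsQ ∧
      ¬ ([64, 32, 8].getD i.val 0) ∈ dList ∧ mul ([64, 32, 8].getD i.val 0) 1 = mul 1 ([64, 32, 8].getD i.val 0) ∧
      mul ([64, 32, 8].getD i.val 0) ([1536, 9216, 55296].getD i.val 0) =
        mul ([1536, 9216, 55296].getD i.val 0) ([64, 32, 8].getD i.val 0) ∧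
      isRoot (mul ([64, 32, 8].getD i.val 0) ([1536, 9216, 55296].getD i.val 0)) = true := by decide +kernel
  -- the reflections in the second frame
  have haQ' : ∀ i, F.ea i ∈ F.S'.Q := fun i => by
    have : ∀ i : Fin 3, [1536, 9216, 55296].getD i.val 0 = Frame.sigma i := by decide
    rw [ea, this, F.el_sigma]; exact F.k_sig i
  choose α hα eα using fun i => F.back_code (φ := φ) (F₂ := F₂.toFrame) (haQ' i)
  have hA24 : ∀ i, α i ∈ out24 := fun i => by
    refine out24_spec _ ((F₂.conj_el_Q (hα i)).1 (hF.2 (eα i ▸ F.conj_of_isRoot (fa i).2.1))) (fun hd => ?_)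
      (toF (by have := hα i; omega) (by norm_num) ?_)
    · exact (fa i).2.2 (F.lt_of_mem_Q (fa i).1 (by
        have := (Dback (hα i)).2 hd; rw [eα i] at this; exact this))
    · rw [eα i, hone]; exact S.mem_C.1 (F.el_mem _)
  have hcomm : ∀ i j, qmul (α i) (α j) = qmul (α j) (α i) := fun i j =>
    toQ (hα i) (hα j) (show _ * _ = _ * _ by
      rw [eα i, eα j, ea, ea, ← F.el_mul (fa i).1 (fa j).1, ← F.el_mul (fa j).1 (fa i).1, (fab i j).1])
  have hnotD : ∀ i j, i ≠ j → dList.contains (qmul (α i) (α j)) = false := fun i j hij => by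
    simp only [List.contains_eq_mem, decide_eq_false_iff_not]
    intro hd
    have := (Dback (Frame.qmul_lt (hα i) (hα j))).2 hd
    rw [qmulF (hα i) (hα j), eα i, eα j, ea, ea, ← F.el_mul (fa i).1 (fa j).1] at this
    exact (fab i j).2 hij (F.lt_of_mem_Q (Frame.mul_lt (fa i).1 (fa j).1) this)
  obtain ⟨n, hn, hadj⟩ := List.any_eq_true.1 (opp_exists _ (hA24 0) _ (hA24 1) (hcomm 0 1) (hnotD 0 1 (by decide))
    _ (hA24 2) (hcomm 0 2) (hnotD 0 2 (by decide)) (hcomm 1 2) (hnotD 1 2 (by decide)))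
  obtain ⟨hnR, hn1, hn512⟩ := opp16_spec n hn
  have hadj' : ∀ i, adj n (α i) = true := fun i => by
    simp only [Bool.and_eq_true] at hadj
    fin_cases i
    exacts [hadj.1.1, hadj.1.2, hadj.2]
  set y := F₂.el n with hy
  have hyQ : y ∈ F.S'.Q := F₂.el_mem_Q hn512
  have hyc : IsConj S.t y := hF.1 (F₂.conj_el_rootsQ hnR).1
  have hy2 : y * y = 1 := sq_of_conj hyc
  have hyinv : y⁻¹ = y := inv_eq_of_mul_eq_one_right hy2
  have moveT : y * S.t * y = F.q * S.t := by
    rcases F.S'.extra.conj_cases hyQ F.pair.t_mem with e | e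
    · refine absurd (toF (by omega) (by norm_num) ?_) hn1
      rw [← hy, hone]; exact mul_inv_eq_iff_eq_mul.1 e
    · rwa [hyinv] at e
  have comm : ∀ i, y * F.ea i = F.ea i * y := fun i => by
    have h := hadj' i
    simp only [adj, Bool.and_eq_true, beq_iff_eq] at h
    have := fromQ hn512 (hα i) h.1
    rwa [← hy, eα i] at this
  have adjA : ∀ i, IsConj S.t (y * F.ea i) := fun i => by
    have h := hadj' i
    simp only [adj, Bool.and_eq_true, beq_iff_eq, List.contains_eq_mem, decide_eq_true_eq] at h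
    have := hF.1 (F₂.conj_el_rootsQ h.2).1
    rwa [qmulF hn512 (hα i), ← hy, eα i] at this
  have fix : ∀ l, y * F.ev l = F.ev l * y := by
    intro l
    obtain ⟨hl, hlR, hlD, hl1, hl256, hl257⟩ := fv l
    obtain ⟨j, k, hlj, hlk, hjk⟩ := Mod.third l
    have hlQ : F.ev l ∈ Setup.D S F.S' := (F.mem_D_iff hl).2 hlD
    obtain ⟨z, hz, ez⟩ := F.back_code (φ := φ) (F₂ := F₂.toFrame) hlQ.2
    have hzc : ∀ i, i ≠ l → qmul z (α i) = qmul (α i) z ∧ rootsQ.contains (qmul z (α i)) = true := fun i hi => by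
      obtain ⟨e1, e2⟩ := fav l i hi.symm
      refine ⟨toQ hz (hα i) (show _ * _ = _ * _ by
        rw [ez, eα i, ev, ea, ← F.el_mul (by omega) (fa i).1, ← F.el_mul (fa i).1 (by omega), e1]), ?_⟩
      simp only [List.contains_eq_mem, decide_eq_true_eq]
      refine (F₂.conj_el_Q (Frame.qmul_lt hz (hα i))).1 (hF.2 ?_)
      rw [qmulF hz (hα i), ez, eα i, ev, ea, ← F.el_mul (by omega) (fa i).1]
      exact F.conj_of_isRoot e2
    have hzD : z ∈ dRoots := by
      refine mem_dRoots.2 ⟨(F₂.conj_el_Q hz).1 (hF.2 (ez ▸ F.conj_of_isRoot (isRoot_iff.2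
        (List.mem_append.2 (Or.inl hlR))))), (Dback hz).1 (ez ▸ hlQ.1), fun e => hl256 ?_, fun e => hl1 ?_,
        fun e => hl257 ?_⟩
      · exact F.el_inj (by omega) (by norm_num) (by rw [← ev, ← ez, e, hone, F.el_t])
      · exact F.el_inj (by omega) (by norm_num) (by rw [← ev, ← ez, e, h256, F.el_one])
      · refine F.el_inj (by omega) (by norm_num) ?_
        rw [← ev, ← ez, e, show 257 = qmul 256 1 by decide +kernel, qmulF (by norm_num) (by norm_num), h256, hone,
          F.el_of_lt (Frame.qmul_lt (by norm_num) (by norm_num)), ← F.evQ_qmul, ← F.el_of_lt (by norm_num),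
          ← F.el_of_lt (by norm_num), F.el_t, F.el_one, S.Q_comm F.pair.mem]
    have := opp_fix n hn _ (hA24 j) (hadj' j) _ (hA24 k) (hadj' k) (hcomm j k) (hnotD j k hjk) z hzD
      (hzc j hlj.symm).1 (hzc k hlk.symm).1 (hzc j hlj.symm).2
    have := fromQ hn512 hz this.symm
    rwa [← hy, ez] at this
  have bracket : ∀ i, F.eb i * y * F.eb i * y = F.ea i := by
    intro i
    obtain ⟨hbl, hbR, hbD, hb1, hba, hbaR⟩ := fb i
    have hbc : IsConj S.t (F.eb i) := (F.conj_el_rootsQ hbR).1
    have hbq : F.eb i * F.q = F.q * F.eb i := by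
      rw [eb, ← F.el_one, ← F.el_mul (by omega) (by norm_num), ← F.el_mul (by norm_num) (by omega), hb1]
    obtain ⟨m, hm, em⟩ := F₂.el_surj (c := F.eb i) (F.S'.mem_C.2 hbq)
    have hmR : m ∈ rootsOut.map Prod.fst := by
      rcases List.mem_append.1 (isRoot_iff.1 ((F₂.conj_el hm).1 (hF.2 (em ▸ hbc)))) with h | h
      · exfalso
        have hbQ' : F.eb i ∈ F.S'.Q := em ▸ F₂.el_mem_Q (F₂.conj_el_rootsQ h).2
        exact hbD ((F.mem_D_iff hbl).1 ⟨F.el_mem_Q hbl, hbQ'⟩)
      · exact h
    have hαl : α i < 110592 := by have := hα i; omega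
    have hm1 : mul m 1 = mul 1 m := toF hm (by norm_num) (by
      rw [em, hone]; exact S.Q_comm (F.el_mem_Q hbl))
    have hma : mul m (α i) = mul (α i) m := toF hm hαl (show _ * _ = _ * _ by
      rw [em, eα i, eb, ea, ← F.el_mul (by omega) (fa i).1, ← F.el_mul (fa i).1 (by omega), hba])
    have hmaR : isRoot (mul m (α i)) = true := (F₂.conj_el (Frame.mul_lt hm hαl)).1 (hF.2 (by
      rw [F₂.el_mul hm hαl, em, eα i, eb, ea, ← F.el_mul (by omega) (fa i).1]; exact F.conj_of_isRoot hbaR))
    have := congrArg F₂.el (opp_move n hn _ (hA24 i) (hadj' i) m (mid48_spec m hmR hm1) hma hmaR)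
    rwa [F₂.el_mul (Frame.mul_lt (Frame.mul_lt hm (by omega)) hm) (by omega),
      F₂.el_mul (Frame.mul_lt hm (by omega)) hm, F₂.el_mul hm (by omega), em, eα i, ← hy] at this
  refine ⟨y, hyc, hyQ, moveT, fix, comm, adjA, bracket, ?_⟩
  set x := F.ex with hx
  set g := x * y with hg
  have hxQ : x ∈ S.Q := F.el_mem_Q (by norm_num)
  have hxc : IsConj S.t x := (F.conj_el_rootsQ (n := 128) (by decide +kernel)).1
  have hx2 : x * x = 1 := sq_of_conj hxc
  have hxinv : x⁻¹ = x := inv_eq_of_mul_eq_one_right hx2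
  have hxq : x * F.q * x = F.q * S.t := by
    rw [hx, ex, ← F.el_one, ← F.el_t, ← F.el_mul (by norm_num) (by norm_num),
      ← F.el_mul (Frame.mul_lt (by norm_num) (by norm_num)) (by norm_num), ← F.el_mul (by norm_num) (by norm_num)]
    congr 1
  have hxt : x * S.t * x = S.t := by rw [S.Q_comm hxQ, mul_assoc, hx2, mul_one]
  have hyq : y * F.q * y = F.q := by rw [F.S'.Q_comm hyQ, mul_assoc, hy2, mul_one]
  have hginv : ∀ z, g * z * g⁻¹ = x * (y * z * y) * x := fun z => by
    rw [hg, mul_inv_rev, hxinv, hyinv]; group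
  have gt : g * S.t * g⁻¹ = F.q := by
    rw [hginv, moveT]
    calc x * (F.q * S.t) * x = (x * F.q * x) * (x * S.t * x) := by
          conv_rhs => rw [show x * F.q * x * (x * S.t * x) = x * F.q * (x * x) * S.t * x by group, hx2]
          group
      _ = F.q := by rw [hxq, hxt, mul_assoc, S.t_sq, mul_one]
  have gq : g * F.q * g⁻¹ = F.q * S.t := by rw [hginv, hyq, hxq]
  have gqt : g * (F.q * S.t) * g⁻¹ = S.t := by
    calc g * (F.q * S.t) * g⁻¹ = (g * F.q * g⁻¹) * (g * S.t * g⁻¹) := by group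
      _ = S.t := by rw [gq, gt, S.Q_comm F.pair.mem, mul_assoc, F.S'.t_sq, mul_one]
  have g3 : g * g * g = x * y * (x * y) * (x * y) := by rw [hg]
  rw [← g3]
  set d := g * g * g with hd
  have dconj : ∀ z, d * z * d⁻¹ = g * (g * (g * z * g⁻¹) * g⁻¹) * g⁻¹ := fun z => by rw [hd]; group
  have dt : Commute d S.t := mul_inv_eq_iff_eq_mul.1 (by rw [dconj, gt, gq, gqt])
  have dq : Commute d F.q := mul_inv_eq_iff_eq_mul.1 (by rw [dconj, gq, gqt, gt])
  have dv : ∀ l, Commute d (F.ev l) := fun l => by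
    obtain ⟨hl, -⟩ := fv l
    have h1 : Commute y (F.ev l) := fix l
    have h2 : Commute x (F.ev l) := by
      have : ∀ l : Fin 3, mul 128 ([2, 4, 16].getD l.val 0) = mul ([2, 4, 16].getD l.val 0) 128 := by decide +kernel
      show _ * _ = _ * _
      rw [hx, ex, ev, ← F.el_mul (by norm_num) (by omega), ← F.el_mul (by omega) (by norm_num), this]
    exact ((h2.mul_left h1).mul_left (h2.mul_left h1)).mul_left (h2.mul_left h1)
  have hdC : d ∈ S.C := S.mem_C.2 dt.eq
  obtain ⟨m, hm, em⟩ := F.el_surj hdC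
  have hmc : ∀ {j}, j < 512 → Commute d (F.el j) → mul m j = mul j m := fun {j} hj h => by
    refine F.el_inj (Frame.mul_lt hm (by omega)) (Frame.mul_lt (by omega) hm) ?_
    rw [F.el_mul hm (by omega), F.el_mul (by omega) hm, em, h.eq]
  have hX : S.im d ∈ X0 := (top_eight_sig F.pair.elem_X F.pair.card_X F.hX _).1
    (F.pair.im_stab hdC (Or.inl (mul_inv_eq_iff_eq_mul.2 dq.eq)))
  rw [← em, F.im_el] at hX
  have hs : m / 512 ∈ x0List := by
    have h0 : ∀ v < 6, d3 v 0 = 0 → v = 0 ∨ v = 3 := by decide +kernel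
    obtain ⟨a, b, c⟩ := hX
    rcases h0 _ (by omega) a with a | a <;> rcases h0 _ (by omega) b with b | b <;>
      rcases h0 _ (by omega) c with c | c <;> simp [x0List] <;> omega
  have hmd : m % 512 + 512 * (m / 512) = m := Nat.mod_add_div m 512
  obtain ⟨hs0, hD⟩ := cube_fix (m % 512) (Nat.mod_lt _ (by norm_num)) _ hs
    (by rw [hmd]; exact hmc (by norm_num) (F.el_one ▸ dq))
    (by rw [hmd]; exact hmc (by norm_num) (dv 0)) (by rw [hmd]; exact hmc (by norm_num) (dv 1))
    (by rw [hmd]; exact hmc (by norm_num) (dv 2))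
  have hm' : m < 512 := by omega
  rw [Nat.mod_eq_of_lt hm', List.contains_eq_mem, decide_eq_true_eq] at hD
  have hdD : d ∈ Setup.D S F.S' := em ▸ (F.mem_D_iff hm').2 hD
  have ee : ∀ z, x * (x * z) = z := fun z => by rw [← mul_assoc, hx2, one_mul]
  have d1 : d = 1 ∨ d = S.t := by
    have hxd : IsConj S.t (x * d) := by
      refine hyc.trans (isConj_iff.2 ⟨y * x, ?_⟩)
      rw [hd, hg, mul_inv_rev, hxinv, hyinv]
      simp only [mul_assoc, ee]
    have : F.el (qmul 128 m) = x * d := by
      rw [F.el_of_lt (Frame.qmul_lt (by norm_num) hm'), ← F.evQ_qmul, ← F.el_of_lt (by norm_num), ← F.el_of_lt hm', em,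
        hx, ex]
    have := (F.conj_el_Q (Frame.qmul_lt (by norm_num) hm')).1 (this ▸ hxd)
    rcases cube_q m hD (by simpa using this) with rfl | rfl
    · exact Or.inl (em ▸ F.el_zero)
    · exact Or.inr (em ▸ F.el_t)
  have d2 : d = 1 ∨ d = F.q := by
    obtain ⟨e, he, ee'⟩ := F.back_code (φ := φ) (F₂ := F₂.toFrame) hdD.2
    have heD : e ∈ dList := (Dback he).1 (ee' ▸ hdD.1)
    have hdd : d⁻¹ = d := inv_eq_of_mul_eq_one_right (F.pair.elem_D hdD)
    have hyy : ∀ z, y * (y * z) = z := fun z => by rw [← mul_assoc, hy2, one_mul]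
    have hyd : IsConj S.t (y * d) := by
      refine hxc.trans (isConj_iff.2 ⟨x * y, ?_⟩)
      rw [← hdd, hd, hg]
      simp only [mul_inv_rev, hxinv, hyinv, mul_assoc, hyy]
    have hroot := (F₂.conj_el_Q (Frame.qmul_lt hn512 he)).1 (hF.2 (by rw [qmulF hn512 he, ← hy, ee']; exact hyd))
    rcases cube_opp n hn e heD (by simpa using hroot) with rfl | rfl
    · exact Or.inl (ee' ▸ F₂.el_zero)
    · exact Or.inr (ee' ▸ h256)
  rcases d1 with e | e
  · exact e
  rcases d2 with e' | e'
  · exact e'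
  exact absurd (e'.symm.trans e) F.pair.ne

/-- The twelve relations of a plane. -/
structure Plane (a A b b' x y : G) : Prop where
  sq : a * a = 1 ∧ A * A = 1 ∧ b * b = 1 ∧ b' * b' = 1 ∧ x * x = 1 ∧ y * y = 1
  ay : a * y = y * a
  Ax : A * x = x * A
  ab : a * b = b * a
  bx : b * x = x * b
  Ab' : A * b' = b' * A
  b'y : b' * y = y * b'
  r_ax : a * x * a * x = b
  r_Ay : A * y * A * y = b'
  r_Ab : A * b * A * b = x
  r_by : b * y * b * y = a
  r_ab' : a * b' * a * b' = y
  r_xb' : x * b' * x * b' = A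

set_option maxHeartbeats 800000 in
/-- The relations of the three planes. -/
theorem exists_plane {y : G} (hy : F.Opp y) (i : Fin 3) :
    ∃ b', Plane (F.ea i) (F.eA i) (F.eb i) b' F.ex y := by
  have keys : ∀ i : Fin 3,
      let a := [1536, 9216, 55296].getD i.val 0; let A := [2560, 15360, 92160].getD i.val 0
      let b := [64, 32, 8].getD i.val 0
      (a < 110592 ∧ A < 110592 ∧ b < 110592) ∧ (isRoot a = true ∧ isRoot A = true ∧ isRoot b = true) ∧
      mul a b = mul b a ∧ mul b 128 = mul 128 b ∧ mul A 128 = mul 128 A ∧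
      mul (mul (mul a 128) a) 128 = b ∧ mul (mul (mul A b) A) b = 128 ∧
      mul (mul (mul (mul a A) a) A) a = A ∧
      mul (mul (512 * [1, 6, 36].getD i.val 0) a) (512 * [2, 12, 72].getD i.val 0) = A ∧
      mul (mul (512 * [1, 6, 36].getD i.val 0) 1) (512 * [2, 12, 72].getD i.val 0) = [2, 4, 16].getD i.val 0 ∧
      mul (512 * [1, 6, 36].getD i.val 0) (512 * [2, 12, 72].getD i.val 0) = 0 ∧
      512 * [1, 6, 36].getD i.val 0 < 110592 ∧ 512 * [2, 12, 72].getD i.val 0 < 110592 := by decide +kernel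
  obtain ⟨⟨la, lA, lb⟩, ⟨ra, rA, rb⟩, kab, kbx, kAx, kax, kAb, k3, kθa, kθq, kθ, lθ, lθ'⟩ := keys i
  set a := F.ea i with hA0
  set A := F.eA i with hA1
  set b := F.eb i with hA2
  set x := F.ex with hA3
  have ab : a * b = b * a := by
    rw [hA0, hA2, ea, eb, ← F.el_mul la lb, ← F.el_mul lb la, kab]
  have bx : b * x = x * b := by
    rw [hA3, hA2, ex, eb, ← F.el_mul lb (by norm_num), ← F.el_mul (by norm_num) lb, kbx]
  have Ax : A * x = x * A := by
    rw [hA3, hA1, ex, eA, ← F.el_mul lA (by norm_num), ← F.el_mul (by norm_num) lA, kAx]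
  have r_ax : a * x * a * x = b := by
    rw [hA0, hA2, hA3, ea, eb, ex, ← F.el_mul la (by norm_num), ← F.el_mul (Frame.mul_lt la (by norm_num)) la,
      ← F.el_mul (Frame.mul_lt (Frame.mul_lt la (by norm_num)) la) (by norm_num), kax]
  have r_Ab : A * b * A * b = x := by
    rw [hA1, hA2, hA3, eA, eb, ex, ← F.el_mul lA lb, ← F.el_mul (Frame.mul_lt lA lb) lA,
      ← F.el_mul (Frame.mul_lt (Frame.mul_lt lA lb) lA) lb, kAb]
  have r3 : a * A * a * A * a = A := by
    rw [hA0, hA1, ea, eA, ← F.el_mul la lA, ← F.el_mul (Frame.mul_lt la lA) la,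
      ← F.el_mul (Frame.mul_lt (Frame.mul_lt la lA) la) lA,
      ← F.el_mul (Frame.mul_lt (Frame.mul_lt (Frame.mul_lt la lA) la) lA) la, k3]
  have ca : IsConj S.t a := F.conj_of_isRoot ra
  have cA : IsConj S.t A := F.conj_of_isRoot rA
  have cb : IsConj S.t b := F.conj_of_isRoot rb
  have a2 := sq_of_conj ca; have A2 := sq_of_conj cA; have b2 := sq_of_conj cb
  have x2 : x * x = 1 := sq_of_conj (F.conj_el_rootsQ (n := 128) (by decide +kernel)).1
  have y2 : y * y = 1 := sq_of_conj hy.conj
  have ay : a * y = y * a := (hy.comm i).symm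
  have r_by : b * y * b * y = a := hy.bracket i
  have xyx : x * y * x = y * x * y := by
    have ix : x⁻¹ = x := inv_eq_of_mul_eq_one_right x2
    have iy : y⁻¹ = y := inv_eq_of_mul_eq_one_right y2
    calc x * y * x = (y * x * y)⁻¹ := eq_inv_of_mul_eq_one_left (Eq.trans (by rw [hA3]; group) hy.cube)
      _ = _ := by simp only [mul_inv_rev, ix, iy, mul_assoc]
  have hxC : x ∈ S.C := F.el_mem _
  have hbC : b ∈ S.C := F.el_mem _
  have hAC : A ∈ S.C := F.el_mem _
  have haC : a ∈ S.C := F.el_mem _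
  have hyC : y ∉ S.C := fun h => F.pair.ne (by
    have h1 := hy.moveT
    rw [S.mem_C.1 h, mul_assoc, y2, mul_one] at h1
    have := h1.symm
    rwa [mul_eq_right] at this |> fun e => absurd e F.S'.t_ne)
  have ca2 : ∀ z, a * (a * z) = z := fun z => by rw [← mul_assoc, a2, one_mul]
  have cA2 : ∀ z, A * (A * z) = z := fun z => by rw [← mul_assoc, A2, one_mul]
  have cb2 : ∀ z, b * (b * z) = z := fun z => by rw [← mul_assoc, b2, one_mul]
  have cx2 : ∀ z, x * (x * z) = z := fun z => by rw [← mul_assoc, x2, one_mul]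
  have cy2 : ∀ z, y * (y * z) = z := fun z => by rw [← mul_assoc, y2, one_mul]
  -- the two conjugations by reflections of the rotation
  have AbA : A * b * A = b * x := by
    calc A * b * A = A * b * A * b * b := by rw [mul_assoc _ b b, b2, mul_one]
      _ = x * b := by rw [r_Ab]
      _ = _ := bx.symm
  have AaA : A * a * A = a * A * a := by
    calc A * a * A = a * A * a * A * a * (a * A) := by rw [r3]; simp only [mul_assoc]
      _ = _ := by simp only [mul_assoc, ca2, A2, mul_one]
  have byb : b * y * b = a * y := by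
    calc b * y * b = b * y * b * y * y := by rw [mul_assoc _ y y, y2, mul_one]
      _ = _ := by rw [r_by]
  have xax : x * a * x = a * b := by
    calc x * a * x = a * (a * x * a * x) := by simp only [mul_assoc, ca2]
      _ = _ := by rw [r_ax]
  -- the square of `A y`
  set b' := A * y * A * y with hb'
  have hb'cases : b' = 1 ∨ IsConj S.t b' := by
    set θ := F.el (512 * [1, 6, 36].getD i.val 0) with hθ
    have hθi : θ⁻¹ = F.el (512 * [2, 12, 72].getD i.val 0) := F.el_inv lθ lθ' kθ
    have hAθ : θ * a * θ⁻¹ = A := by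
      rw [hθi, hθ, hA0, hA1, ea, eA, ← F.el_mul lθ la, ← F.el_mul (Frame.mul_lt lθ la) lθ', kθa]
    have hvθ : θ * F.q * θ⁻¹ = F.ev i := by
      rw [hθi, hθ, ev, ← F.el_one, ← F.el_mul lθ (by norm_num), ← F.el_mul (Frame.mul_lt lθ (by norm_num)) lθ', kθq]
    have haQ' : a ∈ F.S'.Q := by
      have : ∀ i : Fin 3, [1536, 9216, 55296].getD i.val 0 = Frame.sigma i := by decide
      rw [hA0, ea, this, F.el_sigma]; exact F.k_sig i
    have hAQ : A ∈ (F.S'.conj θ).Q := ⟨a, haQ', hAθ⟩
    rcases eq_or_ne A (θ * F.q * θ⁻¹) with e0 | e0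
    · refine absurd ?_ (show ¬ A ∈ S.Q from fun h => ?_)
      · rw [e0, hvθ]; exact F.el_mem_Q ((show ∀ i : Fin 3, [2, 4, 16].getD i.val 0 < 512 by decide) i)
      · exact absurd (F.lt_of_mem_Q lA h) ((show ∀ i : Fin 3, ¬ [2560, 15360, 92160].getD i.val 0 < 512 by decide) i)
    obtain ⟨g, hg⟩ := isConj_iff.1 cA
    have hgT : IsConj S.t (S.conj g).t := isConj_iff.2 ⟨g, rfl⟩
    have hp : Setup.Pair (F.S'.conj θ) (S.conj g) :=
      ⟨(F.pair.conj.trans (isConj_iff.2 ⟨θ, rfl⟩) : IsConj S.t (F.S'.conj θ).t).symm.trans hgT,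
        by rw [Setup.conj_t, hg]; exact hAQ, by rw [Setup.conj_t, hg]; exact e0⟩
    obtain ⟨ψ, hψ⟩ := hp.exists_relabel
    obtain ⟨L, hL⟩ := (hp.relabel_left ψ).exists_std hψ
    have hLA : L.q = A := by rw [Frame.q, hL, Setup.conj_t, hg]
    have hLy : y ∈ ((F.S'.conj θ).relabel ψ).C := ((F.S'.conj θ).relabel ψ).mem_C.2 (by
      show y * (θ * F.q * θ⁻¹) = θ * F.q * θ⁻¹ * y
      rw [hvθ]; exact hy.fix i)
    have hLc : ∀ {z}, IsConj ((F.S'.conj θ).relabel ψ).t z ↔ IsConj S.t z := fun {z} => by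
      have : IsConj S.t ((F.S'.conj θ).relabel ψ).t := F.pair.conj.trans (isConj_iff.2 ⟨θ, rfl⟩)
      exact ⟨fun h => this.trans h, fun h => this.symm.trans h⟩
    rcases L.sq_product hLy (hLc.2 hy.conj) with e | e <;> rw [hLA] at e
    · left
      calc b' = y * (y * A * y * A) * y⁻¹ := by simp only [hb', mul_assoc, cy2, inv_eq_of_mul_eq_one_right y2]
        _ = 1 := by rw [e, mul_one, mul_inv_cancel]
    · right
      refine (hLc.1 e).trans (isConj_iff.2 ⟨y, ?_⟩)
      simp only [hb', mul_assoc, cy2, inv_eq_of_mul_eq_one_right y2]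
  have b'ne : b' ≠ 1 := by
    intro e
    have hAy : A * y = y * A := by
      calc A * y = A * y * A * y * (y * A) := by simp only [mul_assoc, cy2, A2, mul_one]
        _ = y * A := by rw [← hb', e, one_mul]
    have e1 : (b * x) * y * (b * x) * y = A * a * A := by
      calc (b * x) * y * (b * x) * y = (A * b * A) * y * (A * b * A) * y := by rw [AbA]
        _ = A * b * (A * y * A) * b * (A * y) := by simp only [mul_assoc]
        _ = A * b * y * b * (y * A) := by rw [hAy]; simp only [mul_assoc, A2, mul_one]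
        _ = _ := by rw [← r_by]; simp only [mul_assoc]
    have e2 : (b * x) * y * (b * x) * y = y * (b * x) := by
      calc (b * x) * y * (b * x) * y = b * (x * y * x) * b * y := by
            rw [show (b * x) * y * (b * x) * y = b * x * y * (b * x) * y from rfl, bx]
            nth_rewrite 1 [← bx]
            simp only [mul_assoc]
        _ = (b * y * b) * (b * x * b) * (b * y * b) * y := by rw [xyx]; simp only [mul_assoc, cb2]
        _ = (a * y) * x * (a * y) * y := by rw [byb, bx, mul_assoc x b b, b2, mul_one]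
        _ = a * y * (x * a) := by simp only [mul_assoc, y2, mul_one]
        _ = y * a * (x * a * x * x) := by rw [ay, mul_assoc _ x x, x2, mul_one]
        _ = _ := by rw [xax]; simp only [mul_assoc, ca2]
    refine hyC ?_
    have : y = A * a * A * (b * x)⁻¹ := eq_mul_inv_of_mul_eq (e2.symm.trans e1)
    rw [this]
    exact mul_mem (mul_mem (mul_mem hAC haC) hAC) (inv_mem (mul_mem hbC hxC))
  have cb' : IsConj S.t b' := hb'cases.resolve_left b'ne
  have b'2 : b' * b' = 1 := sq_of_conj cb'
  have b'inv : y * A * y * A = b' := by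
    have ib : b'⁻¹ = b' := inv_eq_of_mul_eq_one_right b'2
    calc y * A * y * A = b'⁻¹ := by
          rw [hb', mul_inv_rev, mul_inv_rev, mul_inv_rev, inv_eq_of_mul_eq_one_right y2, inv_eq_of_mul_eq_one_right A2]
          simp only [mul_assoc]
      _ = b' := ib
  have Ab' : A * b' = b' * A := by
    calc A * b' = A * (A * y * A * y) := by rw [hb']
      _ = y * A * y * A * A := by simp only [mul_assoc, cA2, A2, mul_one]
      _ = _ := by rw [b'inv]
  have b'y : b' * y = y * b' := by
    calc b' * y = A * y * A := by simp only [hb', mul_assoc, y2, mul_one]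
      _ = y * (y * A * y * A) := by simp only [mul_assoc, cy2]
      _ = _ := by rw [b'inv]
  have b'yA : b' * y = A * y * A := by simp only [hb', mul_assoc, y2, mul_one]
  -- `a` and `b'` lie in `Q_y`
  have r_ab' : a * b' * a * b' = y := by
    obtain ⟨g, hg⟩ := isConj_iff.1 hy.conj
    obtain ⟨φ, K, -⟩ := Setup.exists_std_conj F.pair g
    have hK : ∀ {z}, IsConj ((S.conj g).relabel φ).t z ↔ IsConj S.t z := fun {z} => by
      have : IsConj S.t ((S.conj g).relabel φ).t := isConj_iff.2 ⟨g, rfl⟩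
      exact ⟨fun h => this.trans h, fun h => this.symm.trans h⟩
    have hKt : ((S.conj g).relabel φ).t = y := hg
    have hamem : a ∈ ((S.conj g).relabel φ).Q := K.mem_Q_of_product
      (((S.conj g).relabel φ).mem_C.2 (by rw [hKt, ay])) (hK.2 ca) (hK.2 (by rw [hKt, ay]; exact hy.adjA i))
    have hbmem : b' ∈ ((S.conj g).relabel φ).Q := K.mem_Q_of_product
      (((S.conj g).relabel φ).mem_C.2 (by rw [hKt, b'y])) (hK.2 cb') (hK.2 (by
        rw [hKt, b'yA]; exact hy.conj.trans (isConj_iff.2 ⟨A, by rw [inv_eq_of_mul_eq_one_right A2]⟩)))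
    rcases ((S.conj g).relabel φ).extra.conj_cases hamem hbmem with e | e <;>
      rw [inv_eq_of_mul_eq_one_right a2] at e
    swap
    · rw [e, hKt, mul_assoc, b'2, mul_one]
    exfalso
    -- then `A a A` centralises `y`
    have hab' : a * b' = b' * a := by
      calc a * b' = a * b' * a * a := by rw [mul_assoc _ a a, a2, mul_one]
        _ = _ := by rw [e]
    have hA' : (A * a * A) * y = y * (A * a * A) := by
      have h1 : a * (A * y * A) = A * y * A * a := by
        rw [← b'yA, ← mul_assoc, hab', mul_assoc, ay, ← mul_assoc]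
      calc A * a * A * y = A * (a * (A * y * A)) * A := by simp only [mul_assoc, A2, mul_one]
        _ = _ := by rw [h1]; simp only [mul_assoc, cA2]
    set A' := A * a * A with hA'def
    have hA'2 : A' * A' = 1 := by simp only [hA'def, mul_assoc, cA2, ca2, A2]
    have cA'2 : ∀ z, A' * (A' * z) = z := fun z => by rw [← mul_assoc, hA'2, one_mul]
    have hA'a : A' * a * A' = A := by
      calc A' * a * A' = (a * A * a) * a * (a * A * a) := by rw [← AaA]
        _ = a * A * a * A * a := by simp only [mul_assoc, ca2]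
        _ = A := r3
    have hA'b : A' * b * A' = x := by
      calc A' * b * A' = (a * A * a) * b * (a * A * a) := by rw [← AaA]
        _ = a * (A * (a * b * a) * A) * a := by simp only [mul_assoc]
        _ = a * (A * b * A) * a := by rw [ab, mul_assoc b a a, a2, mul_one]
        _ = a * (b * x) * a := by rw [AbA]
        _ = b * (a * x * a) := by simp only [← mul_assoc, ab]
        _ = b * (a * x * a * x * x) := by rw [mul_assoc _ x x, x2, mul_one]
        _ = x := by rw [r_ax]; simp only [cb2]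
    have e1 : x * y * x * y = A := by
      calc x * y * x * y = (A' * b * A') * y * (A' * b * A') * y := by rw [hA'b]
        _ = A' * b * (A' * y * A') * b * (A' * y) := by simp only [mul_assoc]
        _ = A' * (b * y * b * y) * A' := by rw [hA']; simp only [mul_assoc, hA'2, mul_one]
        _ = A := by rw [r_by, hA'a]
    refine hyC ?_
    have : y = A * x := by
      calc y = y * x * y * (y * x) * x * x := by simp only [mul_assoc, cy2, x2, mul_one, cx2]
        _ = x * y * x * y * x * (x * x) := by rw [← xyx]; simp only [mul_assoc]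
        _ = A * x := by rw [e1, x2, mul_one]
    rw [this]; exact mul_mem hAC hxC
  have r_xb' : x * b' * x * b' = A := by
    -- conjugate `b y b y = a` by `n = a A a`
    set n := a * A * a with hn
    have n2 : n * n = 1 := by simp only [hn, mul_assoc, ca2, cA2, a2]
    have cn2 : ∀ z, n * (n * z) = z := fun z => by rw [← mul_assoc, n2, one_mul]
    have nb : n * b * n = x := by
      calc n * b * n = a * (A * (a * b * a) * A) * a := by simp only [hn, mul_assoc]
        _ = a * (A * b * A) * a := by rw [ab, mul_assoc b a a, a2, mul_one]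
        _ = a * (b * x) * a := by rw [AbA]
        _ = b * (a * x * a) := by simp only [← mul_assoc, ab]
        _ = b * (a * x * a * x * x) := by rw [mul_assoc _ x x, x2, mul_one]
        _ = x := by rw [r_ax]; simp only [cb2]
    have nb' : n * b' * n = y := by
      calc n * b' * n = a * (A * (a * b' * a * b') * (b' * A)) * a := by simp only [hn, mul_assoc]; rw [← mul_assoc b' b', b'2, one_mul]
        _ = a * (A * y * A * b') * a := by rw [r_ab', ← Ab']; simp only [mul_assoc]
        _ = a * (b' * y * b') * a := by rw [b'yA]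
        _ = a * y * a := by rw [b'y, mul_assoc y b' b', b'2, mul_one]
        _ = y := by rw [ay, mul_assoc, a2, mul_one]
    have na : n * a * n = A := by
      calc n * a * n = a * A * a * A * a := by simp only [hn, mul_assoc, ca2]
        _ = A := r3
    calc x * b' * x * b' = (n * b * n) * b' * (n * b * n) * b' := by rw [nb]
      _ = n * b * (n * b' * n) * b * (n * b' * n) * n := by simp only [mul_assoc, cn2]; rw [n2, mul_one]
      _ = n * a * n := by rw [nb', ← r_by]; simp only [mul_assoc]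
      _ = A := na
  exact ⟨b', ⟨a2, A2, b2, b'2, x2, y2⟩, ay, Ax, ab, bx, Ab', b'y, r_ax, rfl, r_Ab, r_by, r_ab', r_xb'⟩

end Std

end CfsgLib.OmegaPlusEight
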