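import Cfsg.Agent.Lib.OmegaPlusEight.Core

/-!
A conjugate `q ≠ t` of `t` in `Q`: `Q ∩ Q_q` is elementary of order `32`, the image of `C_{Q_q}(t)`
in `Sym(3)³` has order `8` and is the image of the stabiliser of `q`.
-/

set_option autoImplicit false
set_option maxRecDepth 4000
set_option linter.unusedSectionVars false

namespace CfsgLib.OmegaPlusEight

open Subgroup

namespace Setup

variable {G : Type*} [Group G] [Finite G] (S S' : Setup G)

/-- `q = S'.t` is a second conjugate of `t` in `Q`. -/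
structure Pair : Prop where
  conj : IsConj S.t S'.t
  mem : S'.t ∈ S.Q
  ne : S'.t ≠ S.t

/-- the image of `C_{Q_q}(t)` -/
noncomputable def X : Subgroup Top := (Outer.img' S' S).range

variable {S S'}

namespace Pair

variable (h : Pair S S')
include h

theorem swap : Pair S' S := ⟨h.conj.symm, S.mem_symm S' h.conj h.mem, h.ne.symm⟩

theorem t_mem : S.t ∈ S'.Q := h.swap.mem

theorem q_ne_one : S'.t ≠ 1 := S'.t_ne

theorem exists_move : ∃ y ∈ S.Q, y * S'.t * y⁻¹ = S.t * S'.t :=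
  S.extra.exists_conj_eq h.mem h.q_ne_one h.ne

theorem conj_mul : IsConj S.t (S.t * S'.t) := S.isConj_mul h.mem h.ne h.conj

theorem card_P : Nat.card (P S S') = 256 := by
  classical
  obtain ⟨y, hy, hys⟩ := h.exists_move
  let f : ↥(P S S') × Bool → ↥S.Q := fun p =>
    if p.2 then ⟨y * p.1, mul_mem hy p.1.2.1⟩ else ⟨p.1, p.1.2.1⟩
  have hyC : ∀ p : G, p ∈ P S S' → y * p ∉ S'.C := by
    intro p hp hm
    have hy' : y ∈ S'.C := by simpa using S'.C.mul_mem hm (S'.C.inv_mem hp.2)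
    exact S.t_ne (mul_eq_right.1 (hys.symm.trans (by rw [S'.mem_C.1 hy']; group)))
  have hf : Function.Bijective f := by
    constructor
    · rintro ⟨a, i⟩ ⟨b, j⟩ hab
      have hab' := congrArg Subtype.val hab
      cases i <;> cases j <;> simp [f] at hab'
      · subst hab'; rfl
      · exact absurd (hab' ▸ a.2.2) (hyC b b.2)
      · exact absurd (hab'.symm ▸ b.2.2) (hyC a a.2)
      · subst hab'; rfl
    · rintro ⟨q, hq⟩
      rcases S.extra.split_conj h.mem hy hys hq with e | e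
      · exact ⟨(⟨q, hq, S'.mem_C.2 e⟩, false), by simp [f]⟩
      · exact ⟨(⟨y⁻¹ * q, S.Q.mul_mem (S.Q.inv_mem hy) hq, S'.mem_C.2 e⟩, true), by simp [f]⟩
  have := Nat.card_congr (Equiv.ofBijective f hf)
  rw [Nat.card_prod, S.card_Q, show Nat.card Bool = 2 by simp] at this
  omega

theorem elem_D {d : G} (hd : d ∈ D S S') : d * d = 1 :=
  (S.extra.sq_cases hd.1).resolve_right fun e => (S'.extra.sq_cases hd.2).elim
    (fun e' => S.t_ne (e.symm.trans e')) fun e' => h.ne (e'.symm.trans e)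

theorem comm_D {a b : G} (ha : a ∈ D S S') (hb : b ∈ D S S') : a * b = b * a := by
  have h1 : ∀ x ∈ D S S', x⁻¹ = x := fun x hx => inv_eq_of_mul_eq_one_right (h.elem_D hx)
  calc a * b = (a * b)⁻¹ := (h1 _ (mul_mem ha hb)).symm
    _ = b * a := by rw [mul_inv_rev, h1 a ha, h1 b hb]

theorem mem_D_t : S.t ∈ D S S' := ⟨S.t_mem, h.t_mem⟩

theorem mem_D_q : S'.t ∈ D S S' := ⟨h.mem, S'.t_mem⟩

theorem elem_range : ∀ s ∈ (Outer.img' S S').range, s * s = 1 := by
  rintro _ ⟨p, rfl⟩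
  obtain ⟨k, hk⟩ := S.pow_two_pow p.2.1
  rw [Outer.img'_apply, ← S'.im_mul p.2.2 p.2.2]
  exact S'.im_Q (S'.sq_mem p.2.2 hk)

theorem card_range : Nat.card (Outer.img' S S').range = 8 ∧ Nat.card (D S S') = 32 := by
  have h1 := Outer.card_P_eq (S := S) (S' := S')
  have h2 := card_le_eight h.elem_range
  have h3 := S.card_le_of_abelian (A := D S S') inf_le_left fun _ ha _ hb => h.comm_D ha hb
  rw [h.card_P] at h1
  constructor <;> nlinarith

theorem card_D : Nat.card (D S S') = 32 := h.card_range.2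

theorem card_X : Nat.card (X S S') = 8 := h.swap.card_range.1

theorem elem_X : ∀ s ∈ X S S', s * s = 1 := h.swap.elem_range

omit h in
theorem im_mem_X {p : G} (hp : p ∈ P S' S) : S.im p ∈ X S S' :=
  ⟨⟨p, hp⟩, Outer.img'_apply _⟩

omit h in
theorem exists_of_mem_X {s : Top} (hs : s ∈ X S S') : ∃ p ∈ P S' S, S.im p = s := by
  obtain ⟨p, rfl⟩ := hs
  exact ⟨p, p.2, (Outer.img'_apply _).symm⟩

/-- `C_{Q_q}(t)` moves `Q ∩ Q_q` only into `⟨q⟩`. -/
theorem conj_D {p d : G} (hp : p ∈ P S' S) (hd : d ∈ D S S') :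
    p * d * p⁻¹ = d ∨ p * d * p⁻¹ = S'.t * d := S'.extra.conj_cases hp.1 hd.2

/-- `C_{Q_q}(t)` moves `C_Q(q)` into `Q ∩ Q_q`. -/
theorem comm_mem_D {p c : G} (hp : p ∈ P S' S) (hc : c ∈ P S S') : p * c * p⁻¹ * c⁻¹ ∈ D S S' := by
  refine ⟨S.Q.mul_mem (S.Q_conj hp.2 hc.1) (S.Q.inv_mem hc.1), ?_⟩
  rw [show p * c * p⁻¹ * c⁻¹ = p * (c * p⁻¹ * c⁻¹) by group]
  exact S'.Q.mul_mem hp.1 (S'.Q_conj hc.2 (S'.Q.inv_mem hp.1))

/-- The stabiliser of `q` modulo `t` has image in `X`. -/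
theorem im_stab {c : G} (hc : c ∈ S.C) (hq : c * S'.t * c⁻¹ = S'.t ∨ c * S'.t * c⁻¹ = S.t * S'.t) :
    S.im c ∈ X S S' := by
  obtain ⟨y, hy, hys⟩ := h.exists_move
  suffices key : ∀ d ∈ S.C, d ∈ S'.C → S.im d ∈ X S S' by
    rcases hq with e | e
    · exact key c hc (S'.mem_C.2 (mul_inv_eq_iff_eq_mul.1 e))
    · have := key (y⁻¹ * c) (mul_mem (inv_mem (S.Q_le hy)) hc) (S'.mem_C.2 (by
        calc y⁻¹ * c * S'.t = y⁻¹ * (c * S'.t * c⁻¹) * c := by group
          _ = S'.t * (y⁻¹ * c) := by rw [e, ← hys]; group))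
      rwa [S.im_mul (inv_mem (S.Q_le hy)) hc, S.im_inv (S.Q_le hy), S.im_Q hy, inv_one, one_mul] at this
  intro d hd hd'
  refine top_eight_normalizer h.elem_X h.card_X fun s hs => ?_
  obtain ⟨p, hp, rfl⟩ := exists_of_mem_X hs
  rw [← S.im_conj hd hp.2]
  exact im_mem_X ⟨S'.Q_conj hd' hp.1, S.C.mul_mem (S.C.mul_mem hd hp.2) (S.C.inv_mem hd)⟩

end Pair

end Setup

end CfsgLib.OmegaPlusEight
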