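import Cfsg.Agent.Lib.OmegaPlusEight.Eval

/-!
The conjugates of `t` in `C(t)`, in the coordinates of a frame.
-/

set_option autoImplicit false
set_option maxRecDepth 8000
set_option linter.unusedSectionVars false
set_option linter.style.haveILetI false

namespace CfsgLib.OmegaPlusEight

open Subgroup

theorem s3_invol_conj : ∀ a : S3, a * a = 1 → a ≠ 1 → ∃ i : Fin 3, rot ^ i.val * sig * (rot ^ i.val)⁻¹ = a := by
  decide

/-- conjugation of `Sym(3)³` to the standard position -/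
theorem top_eight_conj {H : Subgroup Top} (h : ∀ s ∈ H, s * s = 1) (h8 : Nat.card H = 8) :
    ∃ u, ∀ i, tr u * ι i sig * (tr u)⁻¹ ∈ H := by
  obtain ⟨a, b, c, ⟨ha, ha1⟩, ⟨hb, hb1⟩, ⟨hc, hc1⟩, hH⟩ := top_eight h h8
  obtain ⟨i, hi⟩ := s3_invol_conj a ha ha1
  obtain ⟨j, hj⟩ := s3_invol_conj b hb hb1
  obtain ⟨k, hk⟩ := s3_invol_conj c hc hc1
  refine ⟨(i, j, k), fun l => (hH _).2 ?_⟩
  simp only [tr, ι, Prod.mk_mul_mk, Prod.inv_mk]
  refine ⟨?_, ?_, ?_⟩ <;> split_ifs <;> first | exact Or.inr (by assumption) | (left; group)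

namespace Setup

variable {G : Type*} [Group G] [Finite G] {S S' : Setup G}

theorem Pair.relabel_left (h : Pair S S') (φ : Top ≃* Top) : Pair (S.relabel φ) S' := ⟨h.conj, h.mem, h.ne⟩

theorem Pair.relabel_right (h : Pair S S') (φ : Top ≃* Top) : Pair S (S'.relabel φ) := ⟨h.conj, h.mem, h.ne⟩

theorem im_relabel (φ : Top ≃* Top) {x : G} (hx : x ∈ S.C) : (S.relabel φ).im x = φ (S.im x) := by
  rw [(S.relabel φ).im_eq (x := x) hx, S.im_eq hx]; rfl

/-- Some relabelling makes the stabiliser image standard. -/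
theorem Pair.exists_relabel (h : Pair S S') :
    ∃ φ : Top ≃* Top, ∀ i, ι i sig ∈ X (S.relabel φ) S' := by
  obtain ⟨u, hu⟩ := top_eight_conj h.elem_X h.card_X
  refine ⟨(MulAut.conj (tr u)⁻¹ : Top ≃* Top), fun i => ?_⟩
  obtain ⟨p, hp, ep⟩ := exists_of_mem_X (hu i)
  have := im_mem_X (S := S.relabel (MulAut.conj (tr u)⁻¹)) (S' := S') (p := p) hp
  rw [im_relabel _ hp.2, ep] at this
  simpa [mul_assoc] using this

end Setup

namespace Model

/-- the roots in `Q ∩ Q_q` outside `⟨t, q⟩` -/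
def dRoots : List ℕ := rootsQ.filter fun a => decide (a ∈ dList) && (a != 1 && a != 256 && a != 257)

theorem mem_dRoots {a : ℕ} : a ∈ dRoots ↔ a ∈ rootsQ ∧ a ∈ dList ∧ (a ≠ 1 ∧ a ≠ 256 ∧ a ≠ 257) := by
  simp [dRoots, and_assoc]

/-- the pairs of independent roots in `Q ∩ Q_q` -/
def indep (a b : ℕ) : Bool :=
  !rootsQ.contains (qmul a b) && qmul a b != 0 && qmul a b != 257

theorem two_roots_table : ∀ n ∈ rootsQ, n ∉ dList → mul n 1 = mul 1 n →
    ∃ a ∈ dRoots, ∃ b ∈ dRoots, indep a b = true ∧ mul n a = mul a n ∧ mul n b = mul b n := by decide +kernel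

theorem single_table : ∀ d ∈ dList, ∀ s ∈ x0List, s ≠ 0 → mul (d + 512 * s) (d + 512 * s) = 0 →
    (s = 3 ∨ s = 18 ∨ s = 108) ∨
      ∀ a ∈ dRoots, ∀ b ∈ dRoots, indep a b = true →
        mul (d + 512 * s) a ≠ mul a (d + 512 * s) ∨ mul (d + 512 * s) b ≠ mul b (d + 512 * s) := by
  decide +kernel

theorem count_table : ∀ n < 512, dList.contains n = false →
    (rootsQ.filter fun m => !dList.contains m && dList.contains (qmul m n)).length ≤ 8 := by decide +kernel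

end Model

namespace Frame

open Model

variable {G : Type*} [Group G] [Finite G] {S : Setup G} (F : Frame S)

theorem fz_Psi (u : Fin 3 × Fin 3 × Fin 3) : IsConj S.t (F.Psi u) :=
  F.pair.conj.trans (isConj_iff.2 ⟨_, rfl⟩)

theorem Psi_ne_t (u : Fin 3 × Fin 3 × Fin 3) : F.Psi u ≠ S.t := fun e => F.M.psi_ne u (by
  rw [← F.cl_Psi, e, S.cl_t])

theorem Psi_t_conj (u : Fin 3 × Fin 3 × Fin 3) : IsConj S.t (S.t * F.Psi u) :=
  S.isConj_mul (F.Psi_mem u) (F.Psi_ne_t u) (F.fz_Psi u)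

/-- The conjugates of `t` in `Q`. -/
theorem conj_Q {r : G} (hr : r ∈ S.Q) (hc : IsConj S.t r) :
    r = S.t ∨ ∃ u, r = F.Psi u ∨ r = S.t * F.Psi u := by
  rcases eq_or_ne r S.t with rfl | hne
  · exact Or.inl rfl
  right
  obtain ⟨g, rfl⟩ := isConj_iff.1 hc
  have hp : Setup.Pair S (S.conj g) := ⟨hc, hr, hne⟩
  obtain ⟨u, hu⟩ := top_eight_conj hp.elem_X hp.card_X
  refine ⟨u, ?_⟩
  let M := F.M
  have hfix : ∀ s ∈ Setup.X S (S.conj g), M.ρ s (S.cl (g * S.t * g⁻¹)) = S.cl (g * S.t * g⁻¹) := by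
    intro s hs
    obtain ⟨p, hp', rfl⟩ := Setup.Pair.exists_of_mem_X hs
    change S.rho _ _ = _
    have : p * (g * S.t * g⁻¹) = g * S.t * g⁻¹ * p := (S.conj g).Q_comm hp'.1
    rw [S.rho_im hp'.2 hr, this, mul_inv_cancel_right]
  have h0 : S.cl (g * S.t * g⁻¹) ≠ 0 := fun e => by
    rcases (S.cl_eq_zero hr).1 e with e' | e'
    · exact (S.conj g).t_ne e'
    · exact hne e'
  have hv : M.ρ (tr u)⁻¹ (S.cl (g * S.t * g⁻¹)) = M.q := by
    refine M.eq_q (fun e => h0 ?_) fun i => ?_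
    · exact M.act_inj _ (e.trans (M.act_zero _).symm)
    · refine M.act_inj (tr u) ?_
      rw [← M.act_mul, ← M.act_mul, ← M.act_mul, mul_inv_cancel, M.act_one]
      exact hfix _ (hu i)
  have hcl : S.cl (F.Psi u) = S.cl (g * S.t * g⁻¹) := by
    rw [F.cl_Psi, Mod.psi, ← hv, ← M.act_mul, mul_inv_cancel, M.act_one]
  exact (S.cl_eq_cl (F.Psi_mem u) hr).1 hcl

theorem conj_el_rootsQ {n : ℕ} (hn : n ∈ rootsQ) : IsConj S.t (F.el n) ∧ n < 512 := by
  have hlt : ∀ n ∈ rootsQ, n < 512 := by decide +kernel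
  refine ⟨?_, hlt n hn⟩
  rw [F.el_of_lt (hlt n hn)]
  rcases rootsQ_eq.1 n hn with rfl | ⟨a, ha, b, hb, c, hc, rfl | rfl⟩
  · rw [F.evQ_t]
  · rw [F.evQ_pA a ha b hb c hc]; exact F.fz_Psi _
  · rw [← F.evQ_qmul, F.evQ_t, F.evQ_pA a ha b hb c hc]; exact F.Psi_t_conj _

/-- Membership of a conjugate of `t` in `Q` in coordinates. -/
theorem conj_el_Q {n : ℕ} (hn : n < 512) : IsConj S.t (F.el n) ↔ n ∈ rootsQ := by
  refine ⟨fun h => ?_, fun h => (F.conj_el_rootsQ h).1⟩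
  have hp : ∀ a < 3, ∀ b < 3, ∀ c < 3, pA a b c < 512 ∧ qmul 256 (pA a b c) < 512 := by decide +kernel
  have hm : F.el n ∈ S.Q := by rw [F.el_of_lt hn]; exact F.evQ_mem _
  rcases F.conj_Q hm h with e | ⟨⟨a, b, c⟩, e | e⟩
  · rw [F.el_inj (by omega) (show 256 < 110592 by norm_num) (e.trans F.el_t.symm)]
    exact rootsQ_eq.2.1
  · have h3 := hp a a.2 b b.2 c c.2
    rw [F.el_inj (by omega) (show pA a b c < 110592 by omega) (e.trans (by
      rw [F.el_of_lt h3.1, F.evQ_pA a a.2 b b.2 c c.2]; simp [P3]))]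
    exact (rootsQ_eq.2.2 a a.2 b b.2 c c.2).1
  · have h3 := hp a a.2 b b.2 c c.2
    rw [F.el_inj (by omega) (show qmul 256 (pA a b c) < 110592 by omega) (e.trans (by
      rw [F.el_of_lt h3.2, ← F.evQ_qmul, F.evQ_t, F.evQ_pA a a.2 b b.2 c c.2]; simp [P3]))]
    exact (rootsQ_eq.2.2 a a.2 b b.2 c c.2).2

theorem el_mem_Q {m : ℕ} (hm : m < 512) : F.el m ∈ S.Q := by rw [F.el_of_lt hm]; exact F.evQ_mem _

theorem lt_of_mem_Q {m : ℕ} (hm : m < 110592) (h : F.el m ∈ S.Q) : m < 512 := by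
  have e := (F.im_el m).symm.trans (S.im_Q h)
  have h0 : ∀ x < 6, d3 x = 1 → x = 0 := by decide +kernel
  simp only [dec, Prod.mk_eq_one] at e
  have := h0 _ (by omega) e.1
  have := h0 _ (by omega) e.2.1
  have := h0 _ (by omega) e.2.2
  omega

theorem dList_iff {n : ℕ} : n ∈ dList ↔ n < 512 ∧ n &&& 232 = 0 := by simp [dList]

/-- `Q ∩ Q_q` in coordinates. -/
theorem mem_D_iff {n : ℕ} (hn : n < 512) : F.el n ∈ Setup.D S F.S' ↔ n ∈ dList := by
  have hxD : ∀ i, F.k (ι i rot) * F.q * (F.k (ι i rot))⁻¹ ∈ Setup.D S F.S' := fun i =>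
    F.pair.translate_mem_D F.hX (F.k_mem _) (F.im_k _)
  have hx : ∀ i, F.el ([2, 4, 16].getD i.val 0) = F.k (ι i rot) * F.q * (F.k (ι i rot))⁻¹ := by
    intro i
    have key : ∀ i : Fin 3, [2, 4, 16].getD i.val 0 = pA (if i = 0 then 1 else 0) (if i = 1 then 1 else 0)
        (if i = 2 then 1 else 0) := by decide
    have hlt : ∀ i : Fin 3, [2, 4, 16].getD i.val 0 < 512 := by decide
    rw [F.el_of_lt (hlt i), key i, F.evQ_pA _ (by split <;> norm_num) _ (by split <;> norm_num) _ (by split <;> norm_num),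
      ι_rot_tr]
    fin_cases i <;> rfl
  constructor
  · intro hd
    have key : ∀ n < 512, (mul n 1 = mul 1 n ∧ mul n 2 = mul 2 n ∧ mul n 4 = mul 4 n ∧ mul n 16 = mul 16 n) →
        n ∈ dList := by decide +kernel
    have com : ∀ j, j < 512 → F.el j ∈ Setup.D S F.S' → mul n j = mul j n := fun j hj hjD => by
      refine F.el_inj (mul_lt (by omega) (by omega)) (mul_lt (by omega) (by omega)) ?_
      rw [F.el_mul (by omega) (by omega), F.el_mul (by omega) (by omega), F.pair.comm_D hd hjD]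
    exact key n hn ⟨com 1 (by norm_num) (F.el_one ▸ F.pair.mem_D_q), com 2 (by norm_num) (hx 0 ▸ hxD 0 :),
      com 4 (by norm_num) (hx 1 ▸ hxD 1 :), com 16 (by norm_num) (hx 2 ▸ hxD 2 :)⟩
  · intro hd
    obtain ⟨-, h232⟩ := dList_iff.1 hd
    have key : ∀ n ∈ dList, n = qmul (qmul (qmul (qmul (if n.testBit 0 then 1 else 0) (if n.testBit 1 then 2 else 0))
        (if n.testBit 2 then 4 else 0)) (if n.testBit 4 then 16 else 0)) (if n.testBit 8 then 256 else 0) := by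
      decide +kernel
    have h0 : F.evQ 0 ∈ Setup.D S F.S' := by rw [F.evQ_zero]; exact one_mem _
    rw [F.el_of_lt hn, key n hd, ← F.evQ_qmul, ← F.evQ_qmul, ← F.evQ_qmul, ← F.evQ_qmul]
    refine mul_mem (mul_mem (mul_mem (mul_mem ?_ ?_) ?_) ?_) ?_ <;> split
    all_goals first
      | exact h0
      | (rw [← F.el_of_lt (by norm_num)]
         first
         | exact F.el_one ▸ F.pair.mem_D_q
         | exact F.el_t ▸ F.pair.mem_D_t
         | exact (hx 0 ▸ hxD 0 :)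
         | exact (hx 1 ▸ hxD 1 :)
         | exact (hx 2 ▸ hxD 2 :))

/-- `C_{Q_q}(t)` in coordinates. -/
theorem exists_code_P {p : G} (hp : p ∈ Setup.P F.S' S) :
    ∃ d ∈ dList, ∃ s ∈ x0List, F.el (d + 512 * s) = p ∧ d < 512 ∧ s < 216 := by
  obtain ⟨m, hm, rfl⟩ := F.el_surj hp.2
  have hX := (top_eight_sig F.pair.elem_X F.pair.card_X F.hX (S.im (F.el m))).1 (Setup.Pair.im_mem_X hp)
  rw [F.im_el] at hX
  have h0 : ∀ x < 6, d3 x 0 = 0 → x = 0 ∨ x = 3 := by decide +kernel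
  have hs : m / 512 ∈ x0List := by
    obtain ⟨a, b, c⟩ := hX
    rcases h0 _ (by omega) a with a | a <;> rcases h0 _ (by omega) b with b | b <;>
      rcases h0 _ (by omega) c with c | c <;> simp [x0List] <;> omega
  refine ⟨m % 512, ?_, m / 512, hs, by rw [Nat.mod_add_div], Nat.mod_lt _ (by norm_num), by omega⟩
  rw [← F.mem_D_iff (Nat.mod_lt _ (by norm_num))]
  refine ⟨F.el_mem_Q (Nat.mod_lt _ (by norm_num)), ?_⟩
  have e : F.el (m % 512) = F.el m * (F.k (dec (m / 512)))⁻¹ := by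
    rw [F.el_of_lt (Nat.mod_lt _ (by norm_num)), el, mul_inv_cancel_right]
  have hkQ : F.k (dec (m / 512)) ∈ F.S'.Q := by
    rw [X0_decomp (dec (m / 512)), map_mul, map_mul]
    obtain ⟨a, b, c⟩ := hX
    have one : ∀ i x, x = 1 ∨ x = sig → F.k (ι i x) ∈ F.S'.Q := fun i x hx => by
      rcases hx with rfl | rfl
      · rw [ι_one, map_one]; exact one_mem _
      · exact F.k_sig i
    exact mul_mem (mul_mem (one 0 _ (s3_fix_zero _ a)) (one 1 _ (s3_fix_zero _ b))) (one 2 _ (s3_fix_zero _ c))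
  rw [e]
  exact F.S'.Q.mul_mem hp.1 (F.S'.Q.inv_mem hkQ)

/-- the representatives of a single reflection -/
def sigma (i : Fin 3) : ℕ := [1536, 9216, 55296].getD i.val 0

theorem el_sigma (i : Fin 3) : F.el (sigma i) = F.k (ι i sig) := by
  have key : ∀ i : Fin 3, sigma i = 512 * [3, 18, 108].getD i.val 0 ∧ dec ([3, 18, 108].getD i.val 0) = ι i sig := by
    decide +kernel
  rw [(key i).1, F.el_k, (key i).2]

theorem isConj_conj {a b : G} (w : G) (h : a * w = w * b) : IsConj S.t b → IsConj S.t a := fun hb =>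
  hb.trans (isConj_iff.2 ⟨w, by rw [← h, mul_inv_cancel_right]⟩)

/-- The frame seen from `q`, with `t` as its marked conjugate. -/
theorem exists_back : ∃ (φ : Top ≃* Top) (F₂ : Frame (F.S'.relabel φ)), F₂.S'.t = S.t := by
  obtain ⟨φ, hφ⟩ := F.pair.swap.exists_relabel
  exact ⟨φ, (F.pair.swap.relabel_left φ).exists_frame hφ⟩

theorem mem_back {φ : Top ≃* Top} {F₂ : Frame (F.S'.relabel φ)} (h2 : F₂.S'.t = S.t) {x : G} :
    x ∈ F₂.S'.Q ↔ x ∈ S.Q := by rw [S.Q_eq F₂.S' h2]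

theorem back_code {φ : Top ≃* Top} {F₂ : Frame (F.S'.relabel φ)} {x : G} (hx : x ∈ F.S'.Q) :
    ∃ n < 512, F₂.el n = x := by
  obtain ⟨n, hn, e⟩ := F₂.el_surj (c := x) ((F.S'.relabel φ).Q_le hx)
  exact ⟨n, F₂.lt_of_mem_Q hn (e ▸ hx), e⟩

theorem conj_back {x : G} : IsConj F.q x ↔ IsConj S.t x :=
  ⟨fun h => F.pair.conj.trans h, fun h => F.pair.conj.symm.trans h⟩

/-- A conjugate of `t` in `C_{Q_q}(t) ∖ Q` commutes with two independent conjugates in `Q ∩ Q_q`. -/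
theorem two_roots {u : G} (hu : u ∈ Setup.P F.S' S) (hout : u ∉ S.Q) (hc : IsConj S.t u) :
    ∃ r₁ ∈ Setup.D S F.S', ∃ r₂ ∈ Setup.D S F.S', IsConj S.t r₁ ∧ IsConj S.t r₂ ∧
      (r₁ ≠ S.t ∧ r₁ ≠ F.q ∧ r₁ ≠ F.q * S.t) ∧ (r₂ ≠ S.t ∧ r₂ ≠ F.q ∧ r₂ ≠ F.q * S.t) ∧
      ¬ IsConj S.t (r₁ * r₂) ∧ r₁ * r₂ ≠ 1 ∧ r₁ * r₂ ≠ F.q * S.t ∧
      u * r₁ = r₁ * u ∧ u * r₂ = r₂ * u := by
  obtain ⟨φ, F₂, h2⟩ := F.exists_back
  obtain ⟨n, hn, rfl⟩ := F.back_code (φ := φ) (F₂ := F₂) hu.1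
  have hone : F₂.el 1 = S.t := F₂.el_one.trans h2
  have h256 : F₂.el 256 = F.q := F₂.el_t
  have hn' : n ∈ rootsQ := (F₂.conj_el_Q hn).1 (F.conj_back.2 hc)
  have hnD : n ∉ dList := fun hd => hout ((F.mem_back h2).1 ((F₂.mem_D_iff hn).2 hd).2)
  have hn1 : mul n 1 = mul 1 n := by
    refine F₂.el_inj (mul_lt (by omega) (by norm_num)) (mul_lt (by norm_num) (by omega)) ?_
    rw [F₂.el_mul (by omega) (by norm_num), F₂.el_mul (by norm_num) (by omega), hone]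
    exact S.mem_C.1 hu.2
  obtain ⟨a, hA, b, hB, hind, hca, hcb⟩ := two_roots_table n hn' hnD hn1
  obtain ⟨haR, haD, ha⟩ := mem_dRoots.1 hA
  obtain ⟨hbR, hbD, hb⟩ := mem_dRoots.1 hB
  obtain ⟨⟨hab, hab0⟩, hab1⟩ : (qmul a b ∉ rootsQ ∧ qmul a b ≠ 0) ∧ qmul a b ≠ 257 := by
    simpa [indep] using hind
  obtain ⟨hac, ha'⟩ := F₂.conj_el_rootsQ haR
  obtain ⟨hbc, hb'⟩ := F₂.conj_el_rootsQ hbR
  have h257 : F₂.el 257 = F.q * S.t := by
    rw [show 257 = mul 256 1 by decide +kernel, F₂.el_mul (by norm_num) (by norm_num), h256, hone]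
  have hq : qmul a b < 512 := qmul_lt ha' hb'
  have hmul : F₂.el a * F₂.el b = F₂.el (qmul a b) := by
    rw [F₂.el_of_lt ha', F₂.el_of_lt hb', F₂.el_of_lt hq, F₂.evQ_qmul]
  have hne : ∀ {i j}, i < 512 → j < 512 → i ≠ j → F₂.el i ≠ F₂.el j := fun hi hj hij e =>
    hij (F₂.el_inj (by omega) (by omega) e)
  have toD : ∀ {i}, i < 512 → i ∈ dList → F₂.el i ∈ Setup.D S F.S' := fun hi hd => by
    obtain ⟨d1, d2⟩ := (F₂.mem_D_iff hi).2 hd
    exact ⟨(F.mem_back h2).1 d2, d1⟩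
  refine ⟨_, toD ha' haD, _, toD hb' hbD, F.conj_back.1 hac, F.conj_back.1 hbc,
    ⟨hone ▸ hne ha' (by norm_num) ha.1, h256 ▸ hne ha' (by norm_num) ha.2.1,
      h257 ▸ hne ha' (by norm_num) ha.2.2⟩,
    ⟨hone ▸ hne hb' (by norm_num) hb.1, h256 ▸ hne hb' (by norm_num) hb.2.1,
      h257 ▸ hne hb' (by norm_num) hb.2.2⟩, fun h => hab ?_, ?_, ?_, ?_, ?_⟩
  · exact (F₂.conj_el_Q hq).1 (hmul ▸ F.conj_back.2 h)
  · rw [hmul, ← F₂.el_zero]; exact hne hq (by norm_num) hab0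
  · rw [hmul, ← h257]; exact hne hq (by norm_num) hab1
  · rw [← F₂.el_mul (by omega) (by omega), ← F₂.el_mul (by omega) (by omega), hca]
  · rw [← F₂.el_mul (by omega) (by omega), ← F₂.el_mul (by omega) (by omega), hcb]

/-- A conjugate of `t` in `C_{Q_q}(t) ∖ Q` is a conjugate of `k σ_i` or of `t k σ_i`. -/
theorem single {u : G} (hu : u ∈ Setup.P F.S' S) (hout : u ∉ S.Q) (hc : IsConj S.t u) :
    ∃ d ∈ dList, ∃ i : Fin 3, F.el (d + sigma i) = u ∧ mul (d + sigma i) (d + sigma i) = 0 := by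
  obtain ⟨d, hd, s, hs, rfl, hd', hs'⟩ := F.exists_code_P hu
  obtain ⟨r₁, h1, r₂, h2, c1, c2, n1, n2, n12, e0, e257, k1, k2⟩ := F.two_roots hu hout hc
  obtain ⟨a, ha, rfl⟩ := F.el_surj (S.Q_le h1.1)
  obtain ⟨b, hb, rfl⟩ := F.el_surj (S.Q_le h2.1)
  have ha' := F.lt_of_mem_Q ha h1.1
  have hb' := F.lt_of_mem_Q hb h2.1
  have haD := (F.mem_D_iff ha').1 h1
  have hbD := (F.mem_D_iff hb').1 h2
  have h257 : F.el 257 = F.q * S.t := by
    rw [show 257 = mul 1 256 by decide +kernel, F.el_mul (by norm_num) (by norm_num), F.el_t, F.el_one]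
  have hs0 : s ≠ 0 := fun e => hout (by subst e; exact F.el_mem_Q (by omega))
  have hinv : mul (d + 512 * s) (d + 512 * s) = 0 := by
    refine F.el_inj (mul_lt (by omega) (by omega)) (by norm_num) ?_
    rw [F.el_mul (by omega) (by omega), F.el_zero]
    obtain ⟨g, hg⟩ := isConj_iff.1 hc
    rw [← hg]
    calc g * S.t * g⁻¹ * (g * S.t * g⁻¹) = g * (S.t * S.t) * g⁻¹ := by group
      _ = 1 := by rw [S.t_sq]; group
  rcases single_table d hd s hs hs0 hinv with hs3 | hno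
  · obtain ⟨i, hi⟩ : ∃ i : Fin 3, sigma i = 512 * s := by
      rcases hs3 with rfl | rfl | rfl
      exacts [⟨0, rfl⟩, ⟨1, rfl⟩, ⟨2, rfl⟩]
    exact ⟨d, hd, i, by rw [hi], by rw [hi]; exact hinv⟩
  exfalso
  have hmul : F.el a * F.el b = F.el (qmul a b) := by
    rw [F.el_of_lt ha', F.el_of_lt hb', F.el_of_lt (qmul_lt ha' hb'), F.evQ_qmul]
  have hA : a ∈ dRoots := mem_dRoots.2 ⟨(F.conj_el_Q ha').1 c1, haD,
    fun e => n1.2.1 (e ▸ F.el_one), fun e => n1.1 (e ▸ F.el_t), fun e => n1.2.2 (e ▸ h257)⟩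
  have hB : b ∈ dRoots := mem_dRoots.2 ⟨(F.conj_el_Q hb').1 c2, hbD,
    fun e => n2.2.1 (e ▸ F.el_one), fun e => n2.1 (e ▸ F.el_t), fun e => n2.2.2 (e ▸ h257)⟩
  have hind : indep a b = true := by
    simp only [indep, Bool.and_eq_true, Bool.not_eq_true', List.contains_eq_mem, decide_eq_false_iff_not,
      bne_iff_ne, ne_eq]
    exact ⟨⟨fun e => n12 (hmul ▸ (F.conj_el_rootsQ e).1), fun e => e0 (by rw [hmul, e, F.el_zero])⟩,
      fun e => e257 (by rw [hmul, e, h257])⟩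
  rcases hno a hA b hB hind with e | e
  · refine e (F.el_inj (mul_lt (by omega) ha) (mul_lt ha (by omega)) ?_)
    rw [F.el_mul (by omega) ha, F.el_mul ha (by omega), k1]
  · refine e (F.el_inj (mul_lt (by omega) hb) (mul_lt hb (by omega)) ?_)
    rw [F.el_mul (by omega) hb, F.el_mul hb (by omega), k2]

/-- At most eight conjugates of `t` in `C_{Q_q}(t) ∖ Q` share their image. -/
theorem card_same_image {u : G} (hu : u ∈ Setup.P F.S' S) (hout : u ∉ S.Q) (hc : IsConj S.t u)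
    (W : Finset G) (hW : ∀ v ∈ W, v ∈ Setup.P F.S' S ∧ IsConj S.t v ∧ v * u ∈ S.Q) : W.card ≤ 8 := by
  classical
  obtain ⟨φ, F₂, h2⟩ := F.exists_back
  obtain ⟨n, hn, rfl⟩ := F.back_code (φ := φ) (F₂ := F₂) hu.1
  have hnD : n ∉ dList := fun hd => hout ((F.mem_back h2).1 ((F₂.mem_D_iff hn).2 hd).2)
  refine le_trans ?_ (count_table n hn (by simpa using hnD))
  refine le_trans (Finset.card_le_card (t := ((rootsQ.filter fun m => !dList.contains m &&
    dList.contains (qmul m n)).map F₂.el).toFinset) ?_)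
    ((List.toFinset_card_le _).trans (le_of_eq (List.length_map ..)))
  intro v hv
  obtain ⟨hvP, hvc, hvu⟩ := hW v hv
  obtain ⟨m, hm, rfl⟩ := F.back_code (φ := φ) (F₂ := F₂) hvP.1
  rw [List.mem_toFinset]
  refine List.mem_map.2 ⟨m, List.mem_filter.2 ⟨(F₂.conj_el_Q hm).1 (F.conj_back.2 hvc), ?_⟩, rfl⟩
  have hmn : qmul m n ∈ dList := by
    rw [← F₂.mem_D_iff (qmul_lt hm hn)]
    refine ⟨F₂.el_mem_Q (qmul_lt hm hn), (F.mem_back h2).2 ?_⟩
    rwa [F₂.el_of_lt (qmul_lt hm hn), ← F₂.evQ_qmul, ← F₂.el_of_lt hm, ← F₂.el_of_lt hn]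
  simp only [Bool.and_eq_true, Bool.not_eq_true', List.contains_eq_mem, decide_eq_false_iff_not, decide_eq_true_eq]
  refine ⟨fun hd => hout ?_, hmn⟩
  have hmQ : F₂.el m ∈ S.Q := (F.mem_back h2).1 ((F₂.mem_D_iff hm).2 hd).2
  simpa using S.Q.mul_mem (S.Q.inv_mem hmQ) hvu

/-- Three conjugates of `t` with three different images. -/
theorem exists_three_images : ∃ f : Fin 3 → G, (∀ i, f i ∈ Setup.P F.S' S ∧ f i ∉ S.Q ∧ IsConj S.t (f i)) ∧
    ∀ i j, i ≠ j → f i * f j ∉ S.Q := by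
  obtain ⟨φ, F₂, h2⟩ := F.exists_back
  have key : ∃ a ∈ rootsQ, ∃ b ∈ rootsQ, ∃ c ∈ rootsQ, (mul a 1 = mul 1 a ∧ mul b 1 = mul 1 b ∧ mul c 1 = mul 1 c) ∧
      (a ∉ dList ∧ b ∉ dList ∧ c ∉ dList) ∧
      qmul a b ∉ dList ∧ qmul a c ∉ dList ∧ qmul b c ∉ dList ∧ qmul b a ∉ dList ∧ qmul c a ∉ dList ∧
      qmul c b ∉ dList := ⟨2 ^ 6, by decide +kernel, 2 ^ 5, by decide +kernel, 2 ^ 3, by decide +kernel,
        by decide +kernel⟩
  obtain ⟨a, ha, b, hb, c, hc, hcomm, hout, hpair⟩ := key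
  have ha' := F₂.conj_el_rootsQ ha; have hb' := F₂.conj_el_rootsQ hb; have hc' := F₂.conj_el_rootsQ hc
  have hone : F₂.el 1 = S.t := F₂.el_one.trans h2
  have toP : ∀ m, m < 512 → mul m 1 = mul 1 m → m ∉ dList → IsConj (F.S'.relabel φ).t (F₂.el m) →
      F₂.el m ∈ Setup.P F.S' S ∧ F₂.el m ∉ S.Q ∧ IsConj S.t (F₂.el m) := by
    intro m hm hm1 hmD hmc
    refine ⟨⟨F₂.el_mem_Q hm, S.mem_C.2 ?_⟩, fun h => hmD ?_, F.conj_back.1 hmc⟩
    · rw [← hone, ← F₂.el_mul (by omega) (by norm_num), ← F₂.el_mul (by norm_num) (by omega), hm1]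
    · exact (F₂.mem_D_iff hm).1 ⟨F₂.el_mem_Q hm, (F.mem_back h2).2 h⟩
  have hmul : ∀ m n, m < 512 → n < 512 → qmul m n ∉ dList → F₂.el m * F₂.el n ∉ S.Q := by
    intro m n hm hn hmn h
    refine hmn ((F₂.mem_D_iff (qmul_lt hm hn)).1 ⟨F₂.el_mem_Q (qmul_lt hm hn), (F.mem_back h2).2 ?_⟩)
    rwa [F₂.el_of_lt (qmul_lt hm hn), ← F₂.evQ_qmul, ← F₂.el_of_lt hm, ← F₂.el_of_lt hn]
  refine ⟨![F₂.el a, F₂.el b, F₂.el c], ?_, ?_⟩
  · intro i
    fin_cases i
    exacts [toP a ha'.2 hcomm.1 hout.1 ha'.1, toP b hb'.2 hcomm.2.1 hout.2.1 hb'.1,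
      toP c hc'.2 hcomm.2.2 hout.2.2 hc'.1]
  · intro i j hij
    fin_cases i <;> fin_cases j <;> first | exact absurd rfl hij | skip
    exacts [hmul a b ha'.2 hb'.2 hpair.1, hmul a c ha'.2 hc'.2 hpair.2.1, hmul b a hb'.2 ha'.2 hpair.2.2.2.1,
      hmul b c hb'.2 hc'.2 hpair.2.2.1, hmul c a hc'.2 ha'.2 hpair.2.2.2.2.1, hmul c b hc'.2 hb'.2 hpair.2.2.2.2.2]

/-- Each involution code over a single reflection is in the class of `σ_i` or of `t σ_i`. -/
theorem orbit_code {d : ℕ} (hd : d ∈ dList) (i : Fin 3) (hinv : mul (d + sigma i) (d + sigma i) = 0) :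
    ∃ e, (e = 0 ∨ e = 256) ∧ ∃ p ∈ rootsOut, p.1 = (d ^^^ e) + sigma i ∧ p.2.2 = sigma i := by
  have key : ∀ d ∈ dList, ∀ i : Fin 3, mul (d + sigma i) (d + sigma i) = 0 →
      (∃ p ∈ rootsOut, p.1 = d + sigma i ∧ p.2.2 = sigma i) ∨
        ∃ p ∈ rootsOut, p.1 = (d ^^^ 256) + sigma i ∧ p.2.2 = sigma i := by decide +kernel
  rcases key d hd i hinv with h | h
  · exact ⟨0, Or.inl rfl, by rwa [Nat.xor_zero]⟩
  · exact ⟨256, Or.inr rfl, h⟩

theorem el_xor_t {m : ℕ} (hm : m < 110592) : ∃ m' < 110592, m' = (m % 512 ^^^ 256) + 512 * (m / 512) ∧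
    F.el m' = F.el m * S.t := by
  have hx : m % 512 ^^^ 256 < 512 := Nat.xor_lt_two_pow (n := 9) (Nat.mod_lt _ (by norm_num)) (by norm_num)
  refine ⟨_, by omega, rfl, ?_⟩
  have hq : qmul (m % 512) 256 = m % 512 ^^^ 256 := by
    have : ∀ i < 4, Nat.testBit 256 i = false := by decide
    simp [qmul, this]
  rw [el, el, show ((m % 512 ^^^ 256) + 512 * (m / 512)) % 512 = m % 512 ^^^ 256 by omega,
    show ((m % 512 ^^^ 256) + 512 * (m / 512)) / 512 = m / 512 by omega, ← hq, ← F.evQ_qmul, F.evQ_t, mul_assoc,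
    ← S.mem_C.1 (F.k_mem _), mul_assoc]

theorem conj_out {p : ℕ × ℕ × ℕ} (hp : p ∈ rootsOut) :
    ∃ w, F.el p.1 * w = w * F.el p.2.2 ∧ w * S.t = S.t * w := by
  obtain ⟨h1, h2, -, h3, e⟩ := rootsOut_spec p hp
  refine ⟨F.el p.2.1, ?_, S.mem_C.1 (F.el_mem _)⟩
  rw [← F.el_mul h1 h2, e, F.el_mul h2 (by omega)]

/-- A conjugate of `t` over `σ_i` makes `σ_i` or `t σ_i` conjugate to `t`. -/
theorem single_conj {u : G} (hu : u ∈ Setup.P F.S' S) (hout : u ∉ S.Q) (hc : IsConj S.t u) :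
    ∃ d ∈ dList, ∃ i : Fin 3, F.el (d + sigma i) = u ∧ ∃ e, (e = 0 ∨ e = 256) ∧
      ∃ p ∈ rootsOut, p.1 = (d ^^^ e) + sigma i ∧ p.2.2 = sigma i ∧
        IsConj S.t (F.k (ι i sig) * F.el e) := by
  obtain ⟨d, hd, i, rfl, hinv⟩ := F.single hu hout hc
  obtain ⟨e, he, p, hp, hp1, hp2⟩ := orbit_code hd i hinv
  refine ⟨d, hd, i, rfl, e, he, p, hp, hp1, hp2, ?_⟩
  obtain ⟨w, hw, hwt⟩ := F.conj_out hp
  rw [hp1, hp2, F.el_sigma] at hw
  have hd' := (dList_iff.1 hd).1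
  have hsg : ∀ i : Fin 3, sigma i % 512 = 0 ∧ sigma i < 56000 := by decide
  have hlt : d + sigma i < 110592 := by have := hsg i; omega
  have het : F.el ((d ^^^ e) + sigma i) = F.el (d + sigma i) * F.el e := by
    rcases he with rfl | rfl
    · rw [Nat.xor_zero, F.el_zero, mul_one]
    · obtain ⟨m', -, rfl, h'⟩ := F.el_xor_t hlt
      rw [F.el_t, ← h']
      have := hsg i
      congr 1
      rw [show (d + sigma i) % 512 = d by omega]; omega
  have hee : F.el e * F.el e = 1 := by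
    rcases he with rfl | rfl
    · rw [F.el_zero, one_mul]
    · rw [F.el_t, S.t_sq]
  have hwe : Commute w (F.el e) := by
    rcases he with rfl | rfl
    · rw [F.el_zero]; exact Commute.one_right _
    · rw [F.el_t]; exact hwt
  rw [het] at hw
  refine hc.trans (isConj_iff.2 ⟨w⁻¹, ?_⟩)
  rw [inv_inv]
  calc w⁻¹ * F.el (d + sigma i) * w = w⁻¹ * F.el (d + sigma i) * (F.el e * F.el e) * w := by rw [hee, mul_one]
    _ = w⁻¹ * (F.el (d + sigma i) * F.el e) * (w * F.el e) := by rw [hwe.eq]; group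
    _ = w⁻¹ * (F.el (d + sigma i) * F.el e * w) * F.el e := by group
    _ = _ := by rw [hw]; group

/-- For each `i`, `σ_i` or `t σ_i` is conjugate to `t`. -/
theorem exists_sign (i : Fin 3) : ∃ e, (e = 0 ∨ e = 256) ∧ IsConj S.t (F.k (ι i sig) * F.el e) := by
  obtain ⟨f, hf, hf2⟩ := F.exists_three_images
  choose d hd j hj e he p hp hp1 hp2 hce using fun l => F.single_conj (hf l).1 (hf l).2.1 (hf l).2.2
  have hinj : Function.Injective j := by
    intro a b hab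
    by_contra hne
    refine hf2 a b hne ?_
    rw [← hj a, ← hj b]
    have hsg : ∀ i : Fin 3, sigma i % 512 = 0 ∧ sigma i < 56000 ∧ dec (sigma i / 512) = ι i sig ∧
        ι i sig * ι i sig = 1 := by decide +kernel
    refine S.mem_Q.2 ⟨mul_mem (F.el_mem _) (F.el_mem _), ?_⟩
    rw [S.im_mul (F.el_mem _) (F.el_mem _), F.im_el, F.im_el, hab]
    have := hsg (j b)
    have := (dList_iff.1 (hd a)).1; have := (dList_iff.1 (hd b)).1
    rw [show (d a + sigma (j b)) / 512 = sigma (j b) / 512 by omega,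
      show (d b + sigma (j b)) / 512 = sigma (j b) / 512 by omega, (hsg (j b)).2.2.1, (hsg (j b)).2.2.2]
  obtain ⟨l, rfl⟩ := (Finite.injective_iff_surjective.1 hinj) i
  exact ⟨e l, he l, hce l⟩

end Frame

end CfsgLib.OmegaPlusEight
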